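import Groth.Agent.Lib.Zeta25.ZeroCycle
import Mathlib.NumberTheory.NumberField.DedekindZeta
import Mathlib.NumberTheory.NumberField.Basic
import Mathlib.RingTheory.Ideal.Norm.AbsNorm
import Mathlib.RingTheory.DedekindDomain.Factorization
import Mathlib.Analysis.SpecialFunctions.Pow.Real
import Mathlib.Analysis.PSeries

/-!
# Primes of degree one in a number field

The sum of `1 / p` over the primes `p` having a prime of norm `p` above them in a number field
diverges. This follows from the pole of the Dedekind zeta function at `1`.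
-/

set_option autoImplicit false

namespace Groth.Agent.LangWeil25

open Ideal Groth.Agent.Zeta25

universe u

variable (M : Type u) [Field M] [NumberField M]

open NumberField

/-- The nonzero primes. -/
abbrev PrimeI : Type u := {P : Ideal (𝓞 M) // P.IsPrime ∧ P ≠ ⊥}

theorem exists_prime_norm (P : PrimeI M) : ∃ (p f : ℕ), p.Prime ∧ f ≠ 0 ∧
    absNorm P.1 = p ^ f ∧ (p : 𝓞 M) ∈ P.1 := by
  haveI := P.2.1
  have hmax : P.1.IsMaximal := P.2.1.isMaximal P.2.2
  haveI : Finite (𝓞 M ⧸ P.1) := (Ideal.absNorm_ne_zero_iff P.1).mp (mt Ideal.absNorm_eq_zero_iff.mp P.2.2)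
  letI := Ideal.Quotient.field P.1
  obtain ⟨p, hp⟩ := CharP.exists (𝓞 M ⧸ P.1)
  letI := Fintype.ofFinite (𝓞 M ⧸ P.1)
  obtain ⟨f, hpp, hf⟩ := FiniteField.card (𝓞 M ⧸ P.1) p
  refine ⟨p, f, hpp, f.ne_zero, ?_, ?_⟩
  · rw [Ideal.absNorm_apply, Submodule.cardQuot_apply, Nat.card_eq_fintype_card]
    exact hf
  · rw [← Ideal.Quotient.eq_zero_iff_mem, map_natCast]
    exact CharP.cast_eq_zero _ p

theorem card_above_le {p : ℕ} (hp : p.Prime) (S : Finset (PrimeI M))
    (hS : ∀ P ∈ S, (p : 𝓞 M) ∈ P.1) : S.card ≤ Module.finrank ℤ (𝓞 M) := by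
  classical
  have hle : Ideal.span {(p : 𝓞 M)} ≤ ∏ P ∈ S, P.1 := by
    refine Ideal.le_of_dvd ?_
    have himg : ∏ I ∈ S.image (fun P : PrimeI M => P.1), I = ∏ P ∈ S, P.1 :=
      Finset.prod_image Subtype.val_injective.injOn
    rw [← himg]
    refine Finset.prod_primes_dvd _ (fun I hI => ?_) fun I hI => ?_
    · obtain ⟨P, -, rfl⟩ := Finset.mem_image.mp hI
      exact Ideal.prime_of_isPrime P.2.2 P.2.1
    · obtain ⟨P, hP, rfl⟩ := Finset.mem_image.mp hI
      rw [Ideal.dvd_iff_le, Ideal.span_singleton_le_iff_mem]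
      exact hS P hP
  have h1 := Ideal.absNorm_dvd_absNorm_of_le hle
  rw [map_prod, Ideal.absNorm_span_singleton] at h1
  have h2 : (Algebra.norm ℤ (p : 𝓞 M)).natAbs = p ^ Module.finrank ℤ (𝓞 M) := by
    rw [← map_natCast (algebraMap ℤ (𝓞 M)), Algebra.norm_algebraMap]
    simp [Int.natAbs_pow]
  rw [h2] at h1
  have h3 : p ^ S.card ≤ ∏ P ∈ S, absNorm P.1 := by
    rw [← Finset.prod_const]
    refine Finset.prod_le_prod' fun P hP => ?_
    obtain ⟨q, f, hq, hf, hN, hqP⟩ := exists_prime_norm M P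
    have hqp : q = p := by
      by_contra hne
      have hco : Int.gcd q p = 1 := by
        simpa [Int.gcd_natCast_natCast] using (Nat.coprime_primes hq hp).mpr hne
      obtain ⟨a, b, hab⟩ := Int.isCoprime_iff_gcd_eq_one.mpr hco
      refine P.2.1.ne_top (P.1.eq_top_iff_one.mpr ?_)
      have h := P.1.add_mem (P.1.mul_mem_left (a : 𝓞 M) hqP) (P.1.mul_mem_left (b : 𝓞 M) (hS P hP))
      have e := congrArg (fun z : ℤ => (z : 𝓞 M)) hab
      push_cast at e
      rwa [e] at h
    rw [hN, hqp]
    exact Nat.le_self_pow hf p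
  have h4 := h3.trans (Nat.le_of_dvd (pow_pos hp.pos _) h1)
  exact (Nat.pow_le_pow_iff_right hp.one_lt).mp h4

/-- The primes with a prime of degree one above them, not dividing `N`. -/
def GoodPrime (N p : ℕ) : Prop :=
  p.Prime ∧ ¬ p ∣ N ∧ ∃ P : Ideal (𝓞 M), P.IsPrime ∧ absNorm P = p

/-- The reciprocals of the primes of degree one have divergent sum. -/
theorem not_summable_goodPrime {N : ℕ} (hN : N ≠ 0) :
    ¬ Summable (fun p : {p : ℕ // GoodPrime M N p} => ((p : ℕ) : ℝ)⁻¹) := by
  classical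
  intro hsum
  let nrm : PrimeI M → ℕ := fun P => absNorm P.1
  choose pp ff hpp hff hnorm hmem using exists_prime_norm M
  have h2 : ∀ P, 2 ≤ nrm P := fun P => by
    change 2 ≤ absNorm P.1
    rw [hnorm P]
    exact le_trans (hpp P).two_le (Nat.le_self_pow (hff P) _)
  let G : ℕ → ℝ := fun p =>
    Set.indicator {p | GoodPrime M N p} (fun p : ℕ => (p : ℝ)⁻¹) p + ((p : ℝ) ^ 2)⁻¹ +
      Set.indicator {p | p ∣ N} (fun p : ℕ => (p : ℝ)⁻¹) p
  have hG : Summable G := by
    refine ((summable_subtype_iff_indicator.mp hsum).add (Real.summable_nat_pow_inv.mpr one_lt_two)).add ?_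
    refine summable_of_ne_finset_zero (s := N.divisors) fun p hp => Set.indicator_of_notMem ?_ _
    intro hd
    exact hp (Nat.mem_divisors.mpr ⟨hd, hN⟩)
  have hG0 : ∀ p, 0 ≤ G p := fun p => add_nonneg (add_nonneg
    (Set.indicator_nonneg (fun _ _ => by positivity) _) (by positivity))
    (Set.indicator_nonneg (fun _ _ => by positivity) _)
  have hP : Summable fun P : PrimeI M => ((nrm P : ℕ) : ℝ) ^ (-(1 : ℝ)) := by
    refine summable_of_sum_le (fun P => Real.rpow_nonneg (Nat.cast_nonneg _) _)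
      (c := Module.finrank ℤ (𝓞 M) * ∑' p, G p) fun S => ?_
    have hb : ∀ P ∈ S, ((nrm P : ℕ) : ℝ) ^ (-(1 : ℝ)) ≤ G (pp P) := by
      intro P _
      rw [Real.rpow_neg_one]
      change ((absNorm P.1 : ℕ) : ℝ)⁻¹ ≤ _
      rw [hnorm P]
      have hppos : (0 : ℝ) < (pp P : ℝ) := Nat.cast_pos.mpr (hpp P).pos
      rcases Nat.lt_or_ge (ff P) 2 with hf1 | hf2
      · have hf : ff P = 1 := by have := hff P; omega
        rw [hf, pow_one]
        by_cases hd : pp P ∣ N
        · refine le_add_of_nonneg_of_le ?_ (le_of_eq ?_)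
          · exact add_nonneg (Set.indicator_nonneg (fun _ _ => by positivity) _) (by positivity)
          · exact (Set.indicator_of_mem (show pp P ∈ {p | p ∣ N} from hd) (fun p : ℕ => (p : ℝ)⁻¹)).symm
        · refine le_trans (le_of_eq (Set.indicator_of_mem (show pp P ∈ {p | GoodPrime M N p} from
            ⟨hpp P, hd, P.1, P.2.1, by rw [hnorm P, hf, pow_one]⟩) (fun p : ℕ => (p : ℝ)⁻¹)).symm) ?_
          simp only [G]
          exact le_add_of_le_of_nonneg (le_add_of_nonneg_right (by positivity))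
            (Set.indicator_nonneg (fun _ _ => by positivity) _)
      · refine le_trans ?_ (le_add_of_le_of_nonneg (le_add_of_nonneg_left
          (Set.indicator_nonneg (fun _ _ => by positivity) _))
          (Set.indicator_nonneg (fun _ _ => by positivity) _))
        push_cast
        refine inv_anti₀ (by positivity) ?_
        exact pow_le_pow_right₀ (by exact_mod_cast (hpp P).one_le) hf2
    refine (Finset.sum_le_sum hb).trans ?_
    rw [← Finset.sum_fiberwise_of_maps_to (g := pp) (t := S.image pp)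
      (fun P hP => Finset.mem_image_of_mem _ hP)]
    refine le_trans (Finset.sum_le_sum (g := fun p => (Module.finrank ℤ (𝓞 M) : ℝ) * G p)
      fun p hp => ?_) ?_
    · rw [Finset.sum_congr rfl (g := fun _ => G p) fun P hP => by rw [(Finset.mem_filter.mp hP).2],
        Finset.sum_const, nsmul_eq_mul]
      refine mul_le_mul_of_nonneg_right ?_ (hG0 p)
      obtain ⟨P₀, -, rfl⟩ := Finset.mem_image.mp hp
      exact_mod_cast card_above_le M (hpp P₀) _ fun P hP => by
        rw [← (Finset.mem_filter.mp hP).2]; exact hmem P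
    · rw [← Finset.mul_sum]
      exact mul_le_mul_of_nonneg_left (hG.sum_le_tsum _ fun p _ => hG0 p) (Nat.cast_nonneg _)
  have hcyc := summable_nm h2 one_pos hP
  -- coefficients of the zeta function are bounded by cycles
  let a : ℕ → ℕ := fun n => Nat.card {I : Ideal (𝓞 M) // absNorm I = n}
  have hfac : ∀ I : Ideal (𝓞 M), I ≠ ⊥ → ∃ α : PrimeI M →₀ ℕ, α.prod (fun P e => P.1 ^ e) = I := by
    intro I hI
    induction I using UniqueFactorizationMonoid.induction_on_prime with
    | h₁ => exact absurd rfl hI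
    | h₂ x hx => exact ⟨0, by rw [Finsupp.prod_zero_index, isUnit_iff_eq_one.mp hx]⟩
    | h₃ x q hx hq ih =>
      obtain ⟨α, hα⟩ := ih hx
      refine ⟨α + Finsupp.single ⟨q, Ideal.isPrime_of_prime hq, hq.ne_zero⟩ 1, ?_⟩
      rw [Finsupp.prod_add_index' (fun _ => pow_zero _) (fun _ _ _ => pow_add _ _ _), hα,
        Finsupp.prod_single_index, pow_one, mul_comm]
      exact pow_zero _
  choose fac hfac' using hfac
  have hnm : ∀ I (hI : I ≠ ⊥), nm nrm (fac I hI) = absNorm I := fun I hI => by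
    conv_rhs => rw [← hfac' I hI]
    rw [nm, map_finsuppProd]
    simp [nrm]
  haveI : ∀ n, Finite {α : PrimeI M →₀ ℕ // nm nrm α = n} := fun n => finite_fiber h2 one_pos hP n
  have ha : ∀ n, n ≠ 0 → a n ≤ Nat.card {α : PrimeI M →₀ ℕ // nm nrm α = n} := fun n hn => by
    have hne : ∀ I : {I : Ideal (𝓞 M) // absNorm I = n}, I.1 ≠ ⊥ := fun I h => hn (by
      rw [← I.2, h, Ideal.absNorm_bot])
    refine Nat.card_le_card_of_injective (fun I => ⟨fac I.1 (hne I), (hnm _ _).trans I.2⟩) ?_
    intro I J h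
    have h' := congrArg (fun β : {α // nm nrm α = n} => β.1.prod (fun P e => P.1 ^ e)) h
    simp only [hfac'] at h'
    exact Subtype.ext h'
  -- the series at `1`
  have hb1 : Summable fun n : ℕ => (a n : ℝ) * (n : ℝ) ^ (-(1 : ℝ)) := by
    refine Summable.of_nonneg_of_le (fun n => by positivity) (fun n => ?_)
      ((summable_sigma_of_nonneg fun β => Real.rpow_nonneg (Nat.cast_nonneg _) _).mp
        ((Equiv.sigmaFiberEquiv (nm nrm)).summable_iff.mpr hcyc)).2
    letI := Fintype.ofFinite {α : PrimeI M →₀ ℕ // nm nrm α = n}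
    rw [tsum_fintype, Finset.sum_congr rfl (g := fun _ => (n : ℝ) ^ (-(1 : ℝ))) fun α _ => by
      simp only [Function.comp_apply, Equiv.sigmaFiberEquiv_apply]; rw [α.2]]
    rw [Finset.sum_const, nsmul_eq_mul, Finset.card_univ, ← Nat.card_eq_fintype_card]
    rcases eq_or_ne n 0 with rfl | hn
    · simp [Real.zero_rpow]
    · exact mul_le_mul_of_nonneg_right (by exact_mod_cast ha n hn) (by positivity)
  set B := ∑' n : ℕ, (a n : ℝ) * (n : ℝ) ^ (-(1 : ℝ)) with hB
  have hbd : ∀ s : ℝ, 1 < s → ‖dedekindZeta M s‖ ≤ B := by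
    intro s hs
    refine tsum_of_norm_bounded hb1.hasSum fun n => ?_
    rw [LSeries.norm_term_eq]
    split_ifs with hn
    · positivity
    · rw [Complex.ofReal_re, Complex.norm_natCast, Real.rpow_neg_one, ← div_eq_mul_inv]
      refine div_le_div_of_nonneg_left (Nat.cast_nonneg _) (by positivity) ?_
      exact Real.self_le_rpow_of_one_le (by exact_mod_cast Nat.one_le_iff_ne_zero.mpr hn) hs.le
  have h0 : Filter.Tendsto (fun s : ℝ => ((s - 1 : ℝ) : ℂ) * dedekindZeta M s)
      (nhdsWithin 1 (Set.Ioi 1)) (nhds 0) := by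
    refine squeeze_zero_norm' (a := fun s : ℝ => |s - 1| * B) ?_ ?_
    · filter_upwards [self_mem_nhdsWithin] with s hs
      rw [norm_mul, Complex.norm_real, Real.norm_eq_abs]
      exact mul_le_mul_of_nonneg_left (hbd s hs) (abs_nonneg _)
    · refine Filter.Tendsto.mono_left ?_ nhdsWithin_le_nhds
      have : Filter.Tendsto (fun s : ℝ => |s - 1| * B) (nhds 1) (nhds (|(1 : ℝ) - 1| * B)) :=
        ((continuous_id.sub continuous_const).abs.mul continuous_const).tendsto _
      simpa using this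
  have h := tendsto_nhds_unique (NumberField.tendsto_sub_one_mul_dedekindZeta_nhdsGT M)
    (by simpa using h0)
  exact NumberField.dedekindZeta_residue_ne_zero M (by exact_mod_cast h)

end Groth.Agent.LangWeil25
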