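import Groth.Agent.Lib.Zeta25.ClosedPoints
import Mathlib.RingTheory.Jacobson.Ring
import Mathlib.RingTheory.Spectrum.Prime.Jacobson
import Mathlib.AlgebraicGeometry.Morphisms.Finite
import Mathlib.RingTheory.KrullDimension.Basic
import Mathlib.Topology.Sober

/-!
# A domain of full dimension inside a scheme of finite type over the integers
-/

set_option autoImplicit false

universe u

namespace Groth.Agent.LangWeil25

open AlgebraicGeometry CategoryTheory Groth.Agent.Zeta25

variable {X : Scheme.{u}}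

theorem exists_affine_chain {r : ℕ} (hr : (r : WithBot ℕ∞) ≤ topologicalKrullDim X) :
    ∃ U : X.Opens, ∃ _ : IsAffineOpen U, ∃ l : LTSeries (PrimeSpectrum Γ(X, U)), l.length = r := by
  obtain ⟨l, hl⟩ := Order.le_krullDim_iff.mp hr
  let pt : TopologicalSpace.IrreducibleCloseds X → X := fun Z => Z.isIrreducible.genericPoint
  have hpt : ∀ Z, IsGenericPoint (pt Z) (Z : Set X) := fun Z =>
    Z.isIrreducible.isGenericPoint_genericPoint Z.isClosed
  obtain ⟨U, hU, hx, -⟩ :=
    X.isBasis_affineOpens.exists_subset_of_mem_open (Set.mem_univ (pt l.head)) isOpen_univ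
  obtain ⟨V, hV, rfl⟩ := hU
  have hmem : ∀ i, pt (l i) ∈ V := fun i =>
    ((hpt (l i)).specializes ((l.head_le i) (hpt l.head).mem)).mem_open V.2 hx
  refine ⟨V, hV, LTSeries.mk r (fun i => hV.primeIdealOf
    ⟨pt (l (Fin.rev (Fin.cast (by omega) i))), hmem _⟩) ?_, rfl⟩
  intro i j hij
  set a := l (Fin.rev (Fin.cast (by omega : r + 1 = l.length + 1) i)) with ha
  set b := l (Fin.rev (Fin.cast (by omega : r + 1 = l.length + 1) j)) with hb
  have hlt : b < a := l.strictMono (by simpa using hij)
  have hspec : pt a ⤳ pt b := (hpt a).specializes (hlt.le (hpt b).mem)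
  rw [lt_iff_le_not_ge, PrimeSpectrum.le_iff_specializes, PrimeSpectrum.le_iff_specializes]
  have key : ∀ u v : V, (hV.primeIdealOf u ⤳ hV.primeIdealOf v) ↔ ((u : X) ⤳ (v : X)) := fun u v => by
    rw [← hV.fromSpec_primeIdealOf u, ← hV.fromSpec_primeIdealOf v]
    exact (hV.fromSpec.isOpenEmbedding.isInducing.specializes_iff).symm.trans (by simp)
  refine ⟨(key _ _).mpr hspec, fun h' => hlt.not_ge ?_⟩
  have h := (key _ _).mp h'
  intro z hz
  have h1 : z ∈ closure {pt a} := by rw [(hpt a).def]; exact hz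
  have h2 : closure {pt a} ⊆ closure {pt b} :=
    closure_minimal (Set.singleton_subset_iff.mpr (specializes_iff_mem_closure.mp h)) isClosed_closure
  change z ∈ (b : Set X)
  rw [← (hpt b).def]
  exact h2 h1

theorem exists_domain (f : X ⟶ Spec (CommRingCat.of (ULift.{u} ℤ))) [LocallyOfFiniteType f] {r : ℕ}
    (hr : (r : WithBot ℕ∞) ≤ topologicalKrullDim X) :
    ∃ (R : Type u) (_ : CommRing R) (_ : IsDomain R) (n : ℕ) (e : MvPolynomial (Fin n) ℤ →+* R),
      Function.Surjective e ∧ (r : WithBot ℕ∞) ≤ ringKrullDim R ∧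
      ∃ j : {m : Ideal R // m.IsMaximal} → Zeta25.Closed X, Function.Injective j ∧
        ∀ m, ptNorm X (j m) = Nat.card (R ⧸ m.1) := by
  obtain ⟨U, hU, l, hl⟩ := exists_affine_chain hr
  obtain ⟨n, e, he⟩ := exists_surjective_sections f hU
  set P := l.head.asIdeal with hP
  haveI : P.IsPrime := l.head.isPrime
  refine ⟨Γ(X, U) ⧸ P, inferInstance, inferInstance, n, (Ideal.Quotient.mk P).comp e,
    Ideal.Quotient.mk_surjective.comp he, ?_, ?_⟩
  · rw [ringKrullDim_quotient, Order.le_krullDim_iff]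
    refine ⟨LTSeries.mk r (fun i => ⟨l (Fin.cast (by omega) i), ?_⟩) ?_, rfl⟩
    · exact (PrimeSpectrum.mem_zeroLocus _ _).mpr (l.head_le _)
    · intro i j hij
      exact Subtype.mk_lt_mk.mpr (l.strictMono (by simpa using hij))
  haveI : IsJacobsonRing (ULift.{u} ℤ) := by
    haveI := int_jacobson
    exact isJacobsonRing_of_surjective ⟨(ULift.ringEquiv : ULift.{u} ℤ ≃+* ℤ).symm.toRingHom,
      (ULift.ringEquiv : ULift.{u} ℤ ≃+* ℤ).symm.surjective⟩
  haveI : JacobsonSpace (Spec (CommRingCat.of (ULift.{u} ℤ))) :=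
    PrimeSpectrum.isJacobsonRing_iff_jacobsonSpace.mp inferInstance
  haveI : JacobsonSpace X := LocallyOfFiniteType.jacobsonSpace f
  let q : {m : Ideal (Γ(X, U) ⧸ P) // m.IsMaximal} → PrimeSpectrum Γ(X, U) := fun m =>
    ⟨m.1.comap (Ideal.Quotient.mk P), haveI := m.2; inferInstance⟩
  have hclosed : ∀ m, IsClosed ({hU.fromSpec (q m)} : Set X) := fun m => by
    have h : (q m).asIdeal.IsMaximal :=
      haveI := m.2
      Ideal.comap_isMaximal_of_surjective _ Ideal.Quotient.mk_surjective
    have h1 : (q m : Spec Γ(X, U)) ∈ closedPoints (Spec Γ(X, U)) :=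
      (q m).isClosed_singleton_iff_isMaximal.mpr h
    rw [← hU.fromSpec.isOpenEmbedding.preimage_closedPoints] at h1
    exact h1
  refine ⟨fun m => ⟨hU.fromSpec (q m), hclosed m⟩, fun m m' h => ?_, fun m => ?_⟩
  · have h0 := congrArg Subtype.val h
    dsimp only at h0
    have h1 : q m = q m' := hU.fromSpec.isOpenEmbedding.injective h0
    exact Subtype.ext (Ideal.comap_injective_of_surjective _ Ideal.Quotient.mk_surjective
      (congrArg PrimeSpectrum.asIdeal h1))
  · set x := hU.fromSpec (q m) with hx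
    have hxU : x ∈ U := by
      have : x ∈ Set.range hU.fromSpec := ⟨q m, rfl⟩
      rwa [hU.range_fromSpec] at this
    have hprime : hU.primeIdealOf ⟨x, hxU⟩ = q m :=
      hU.fromSpec.isOpenEmbedding.injective (hU.fromSpec_primeIdealOf ⟨x, hxU⟩)
    have hsurj : Function.Surjective (X.evaluation U x hxU).hom := by
      intro z
      obtain ⟨a, b, rfl⟩ := VarDim.exists_evaluation_eq_div hU x hxU z
      by_cases hb : X.evaluation U x hxU b = 0
      · exact ⟨0, by rw [hb, div_zero, map_zero]⟩
      have hb' : b ∉ (hU.primeIdealOf ⟨x, hxU⟩).asIdeal := by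
        rw [← VarDim.ker_evaluation hU x hxU]
        exact hb
      obtain ⟨c, i, hi, hci⟩ :=
        (hU.primeIdealOf_isMaximal_of_isClosed ⟨x, hxU⟩ (hclosed m)).exists_inv hb'
      refine ⟨a * c, ?_⟩
      rw [map_mul, eq_div_iff hb, mul_assoc, ← map_mul]
      have : X.evaluation U x hxU i = 0 := by
        rw [← VarDim.ker_evaluation hU x hxU] at hi
        exact hi
      have h1 := congrArg (X.evaluation U x hxU).hom hci
      rw [map_add, map_one] at h1
      erw [this, add_zero] at h1
      erw [h1, mul_one]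
    let ρ := (Ideal.Quotient.mk m.1).comp (Ideal.Quotient.mk P)
    have hker : RingHom.ker (X.evaluation U x hxU).hom = RingHom.ker ρ := by
      rw [VarDim.ker_evaluation hU x hxU, hprime, ← RingHom.comap_ker, Ideal.mk_ker]
    exact Nat.card_congr (((RingHom.quotientKerEquivOfSurjective hsurj).symm.trans
      (Ideal.quotEquivOfEq hker)).trans (RingHom.quotientKerEquivOfSurjective
        (Ideal.Quotient.mk_surjective.comp Ideal.Quotient.mk_surjective : Function.Surjective ρ))).toEquiv

end Groth.Agent.LangWeil25
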