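import Groth.Agent.Lib.LangWeil25.Domain
import Groth.Agent.Lib.LangWeil25.Dedekind
import Groth.Agent.Lib.LangWeil25.Scheme
import Mathlib.Analysis.SpecificLimits.Normed

/-!
# The abscissa of convergence of an arithmetic zeta function
-/

set_option autoImplicit false

universe u v

namespace Groth.Agent.LangWeil25

open AlgebraicGeometry CategoryTheory Groth.Agent.Zeta25 Filter Topology

/-- A convergent cycle series gives a convergent sum over the points. -/
theorem summable_of_lSeriesSummable {P : Type v} {N : P → ℕ} (h2 : ∀ x, 2 ≤ N x) {σ : ℝ} (hσ : 0 < σ)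
    (hsum : Summable fun x => (N x : ℝ) ^ (-σ)) {s : ℝ} (h : LSeriesSummable (cycleCoeff N) s) :
    Summable fun x => (N x : ℝ) ^ (-s) := by
  classical
  have hn : Summable fun n => ‖LSeries.term (cycleCoeff N) (s : ℂ) n‖ := h.norm
  have key : Summable fun α : P →₀ ℕ => (nm N α : ℝ) ^ (-s) := by
    rw [← (Equiv.sigmaFiberEquiv (nm N)).summable_iff]
    refine (summable_sigma_of_nonneg fun α => Real.rpow_nonneg (Nat.cast_nonneg _) _).mpr ⟨fun n => ?_, ?_⟩
    · haveI := finite_fiber h2 hσ hsum n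
      exact Summable.of_finite
    · refine hn.congr fun n => ?_
      haveI := finite_fiber h2 hσ hsum n
      letI := Fintype.ofFinite {α : P →₀ ℕ // nm N α = n}
      rw [tsum_fintype]
      rw [Finset.sum_congr rfl fun α _ => show (nm N ((Equiv.sigmaFiberEquiv (nm N)) ⟨n, α⟩) : ℝ) ^ (-s)
        = (n : ℝ) ^ (-s) from by simp [α.2]]
      rw [Finset.sum_const, Finset.card_univ, nsmul_eq_mul, LSeries.norm_term_eq]
      split_ifs with h0
      · subst h0
        haveI : IsEmpty {α : P →₀ ℕ // nm N α = 0} := ⟨fun α => (nm_pos h2 α.1).ne' α.2⟩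
        simp
      · rw [Complex.ofReal_re, cycleCoeff, Complex.norm_natCast, Nat.card_eq_fintype_card,
          Real.rpow_neg (Nat.cast_nonneg n), div_eq_mul_inv]
  have hinj : Function.Injective fun x : P => Finsupp.single x 1 :=
    Finsupp.single_left_injective one_ne_zero
  refine (key.comp_injective hinj).congr fun x => ?_
  simp [nm]

/-- With a point, the cycle series diverges on the negative reals. -/
theorem nonneg_of_lSeriesSummable {P : Type v} {N : P → ℕ} (h2 : ∀ x, 2 ≤ N x)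
    (hfin : ∀ n, Finite {α : P →₀ ℕ // nm N α = n}) (x : P) {s : ℝ}
    (h : LSeriesSummable (cycleCoeff N) s) : 0 ≤ s := by
  by_contra hs
  push Not at hs
  have hinj : Function.Injective fun k : ℕ => N x ^ k := Nat.pow_right_injective (h2 x)
  have h0 := (h.norm.comp_injective hinj).tendsto_atTop_zero
  have h1 : ∀ k : ℕ, (1 : ℝ) ≤ ‖LSeries.term (cycleCoeff N) (s : ℂ) (N x ^ k)‖ := fun k => by
    haveI := hfin (N x ^ k)
    haveI : Nonempty {α : P →₀ ℕ // nm N α = N x ^ k} := ⟨⟨Finsupp.single x k, by simp [nm]⟩⟩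
    have hpos : 0 < N x ^ k := pow_pos (lt_of_lt_of_le two_pos (h2 x)) _
    rw [LSeries.norm_term_eq, if_neg hpos.ne', Complex.ofReal_re, cycleCoeff, Complex.norm_natCast,
      le_div_iff₀ (Real.rpow_pos_of_pos (Nat.cast_pos.mpr hpos) _), one_mul]
    refine le_trans (Real.rpow_le_one_of_one_le_of_nonpos ?_ hs.le) ?_
    · exact_mod_cast hpos
    · exact_mod_cast Nat.card_pos
  obtain ⟨k, hk⟩ := (h0.eventually (gt_mem_nhds (zero_lt_one' ℝ))).exists
  exact absurd hk (not_lt.mpr (h1 k))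

/-- The points of a domain force divergence below the dimension: positive characteristic. -/
theorem not_summable_charP {p : ℕ} [Fact p.Prime] {R : Type} [CommRing R] [IsDomain R] [CharP R p]
    {n : ℕ} (e : MvPolynomial (Fin n) ℤ →+* R) (he : Function.Surjective e) {r : ℕ}
    (hr : (r : WithBot ℕ∞) ≤ ringKrullDim R) {y : ℝ} (hy : y < r) (hy0 : 0 ≤ y) :
    ¬ Summable fun m : {m : Ideal R // m.IsMaximal} => (Nat.card (R ⧸ m.1) : ℝ) ^ (-y) := by
  intro hs
  obtain ⟨C, n₀, j₀, hn₀, hS⟩ := maximal_charP (p := p) e he hr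
  set T := ∑' m : {m : Ideal R // m.IsMaximal}, (Nat.card (R ⧸ m.1) : ℝ) ^ (-y)
  have hp : (1 : ℝ) < p := by exact_mod_cast (Fact.out : p.Prime).one_lt
  set a : ℝ := (p : ℝ) ^ (y - r) with ha
  have ha0 : 0 < a := Real.rpow_pos_of_pos (by linarith) _
  have ha1 : a < 1 := Real.rpow_lt_one_of_one_lt_of_neg hp (by linarith)
  have key : ∀ j, j₀ ≤ j → 1 ≤ C * T * (((n₀ * j : ℕ) : ℝ) * a ^ (n₀ * j)) := fun j hj => by
    obtain ⟨S, hS1, hS2⟩ := hS j hj
    set d := n₀ * j
    have hP : (0 : ℝ) < (p : ℝ) ^ d := pow_pos (by linarith) _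
    have hT : (S.card : ℝ) * ((p : ℝ) ^ d) ^ (-y) ≤ T := by
      refine le_trans ?_ (hs.sum_le_tsum S fun m _ => Real.rpow_nonneg (Nat.cast_nonneg _) _)
      rw [← nsmul_eq_mul, ← Finset.sum_const]
      refine Finset.sum_le_sum fun m hm => Real.rpow_le_rpow_of_nonpos ?_ ?_ (by linarith)
      · exact_mod_cast lt_of_lt_of_le two_pos (hS2 m hm).2
      · exact_mod_cast (hS2 m hm).1
    have hS1' : (((p : ℝ) ^ d) ^ r) ≤ (C : ℝ) * (d : ℝ) * S.card := by exact_mod_cast hS1
    have hT' : (S.card : ℝ) ≤ T * ((p : ℝ) ^ d) ^ y := by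
      rw [Real.rpow_neg hP.le, ← div_eq_mul_inv, div_le_iff₀ (Real.rpow_pos_of_pos hP _)] at hT
      exact hT
    have had : a ^ d = ((p : ℝ) ^ d) ^ y / ((p : ℝ) ^ d) ^ r := by
      rw [ha, ← Real.rpow_natCast ((p : ℝ) ^ d) r, ← Real.rpow_sub hP,
        ← Real.rpow_natCast (p : ℝ) d, ← Real.rpow_mul (by linarith),
        ← Real.rpow_natCast ((p : ℝ) ^ (y - r)) d, ← Real.rpow_mul (by linarith), mul_comm]
    rw [had, show (C : ℝ) * T * ((d : ℝ) * (((p : ℝ) ^ d) ^ y / ((p : ℝ) ^ d) ^ r)) =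
      (C * d * (T * ((p : ℝ) ^ d) ^ y)) / ((p : ℝ) ^ d) ^ r by ring, le_div_iff₀ (pow_pos hP _), one_mul]
    exact hS1'.trans (mul_le_mul_of_nonneg_left hT' (by positivity))
  have hj : Tendsto (fun j : ℕ => n₀ * j) atTop atTop :=
    tendsto_atTop_mono (fun j => Nat.le_mul_of_pos_left j hn₀) tendsto_id
  have hlim := ((tendsto_self_mul_const_pow_of_lt_one ha0.le ha1).comp hj).const_mul ((C : ℝ) * T)
  rw [mul_zero] at hlim
  obtain ⟨j, hlt, hge⟩ :=
    ((hlim.eventually (gt_mem_nhds (zero_lt_one' ℝ))).and (eventually_ge_atTop j₀)).exists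
  exact absurd hlt (not_lt.mpr (key j hge))

/-- The points of a domain force divergence below the dimension: characteristic zero. -/
theorem not_summable_charZero {R : Type} [CommRing R] [IsDomain R] [CharZero R]
    {n : ℕ} (e : MvPolynomial (Fin n) ℤ →+* R) (he : Function.Surjective e) {r : ℕ}
    (hr : (r : WithBot ℕ∞) ≤ ringKrullDim R) {y : ℝ} (hy : y < r) :
    ¬ Summable fun m : {m : Ideal R // m.IsMaximal} => (Nat.card (R ⧸ m.1) : ℝ) ^ (-y) := by
  classical
  intro hs
  obtain ⟨M, _, _, N, t, C, hN, hrt, hS⟩ := points_charZero e he hr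
  refine not_summable_goodPrime M hN (summable_of_sum_le (fun p => by positivity)
    (c := (C : ℝ) * ∑' m : {m : Ideal R // m.IsMaximal}, (Nat.card (R ⧸ m.1) : ℝ) ^ (-y)) fun F => ?_)
  choose S hS1 hS2 using fun p : {p : ℕ // GoodPrime M N p} => hS p.1 p.2.1 p.2.2.1 p.2.2.2
  have hdisj : (F : Set {p : ℕ // GoodPrime M N p}).PairwiseDisjoint S := fun p _ q _ hpq =>
    Finset.disjoint_left.mpr fun m hm hm' =>
      hpq (Subtype.ext ((hS2 p m hm).symm.trans (hS2 q m hm')))
  refine le_trans ?_ (mul_le_mul_of_nonneg_left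
    (hs.sum_le_tsum (F.biUnion S) fun m _ => Real.rpow_nonneg (Nat.cast_nonneg _) _) (Nat.cast_nonneg C))
  rw [Finset.sum_biUnion hdisj, Finset.mul_sum]
  refine Finset.sum_le_sum fun p _ => ?_
  have hp0 : (0 : ℝ) < (p.1 : ℝ) := by exact_mod_cast p.2.1.pos
  rw [Finset.sum_congr rfl fun m hm => show (Nat.card (R ⧸ m.1) : ℝ) ^ (-y) = (p.1 : ℝ) ^ (-y) by
    rw [hS2 p m hm], Finset.sum_const, nsmul_eq_mul, ← mul_assoc]
  have h1 : ((p.1 : ℝ) ^ t) ≤ (C : ℝ) * (S p).card := by exact_mod_cast hS1 p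
  refine le_trans ?_ (mul_le_mul_of_nonneg_right h1 (Real.rpow_nonneg hp0.le _))
  rw [← Real.rpow_natCast (p.1 : ℝ) t, ← Real.rpow_add hp0, ← Real.rpow_neg_one]
  refine Real.rpow_le_rpow_of_exponent_le (by exact_mod_cast p.2.1.one_le) ?_
  have : (r : ℝ) ≤ t + 1 := by exact_mod_cast hrt
  linarith

/-- The points of a domain force divergence below the dimension. -/
theorem not_summable_domain {R : Type u} [CommRing R] [IsDomain R]
    {n : ℕ} (e : MvPolynomial (Fin n) ℤ →+* R) (he : Function.Surjective e) {r : ℕ}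
    (hr : (r : WithBot ℕ∞) ≤ ringKrullDim R) {y : ℝ} (hy : y < r) (hy0 : 0 ≤ y) :
    ¬ Summable fun m : {m : Ideal R // m.IsMaximal} => (Nat.card (R ⧸ m.1) : ℝ) ^ (-y) := by
  intro hs
  let ε : MvPolynomial (Fin n) ℤ ⧸ RingHom.ker e ≃+* R := RingHom.quotientKerEquivOfSurjective he
  haveI : IsDomain (MvPolynomial (Fin n) ℤ ⧸ RingHom.ker e) := ε.toMulEquiv.isDomain
  have hdim : (r : WithBot ℕ∞) ≤ ringKrullDim (MvPolynomial (Fin n) ℤ ⧸ RingHom.ker e) := by
    rw [ringKrullDim_eq_of_ringEquiv ε]; exact hr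
  let F : {m : Ideal (MvPolynomial (Fin n) ℤ ⧸ RingHom.ker e) // m.IsMaximal} →
      {m : Ideal R // m.IsMaximal} := fun m =>
    ⟨m.1.comap ε.symm.toRingHom, haveI := m.2; Ideal.comap_isMaximal_of_surjective _ ε.symm.surjective⟩
  have hF : Function.Injective F := fun a b h =>
    Subtype.ext (Ideal.comap_injective_of_surjective _ ε.symm.surjective (congrArg Subtype.val h))
  have hs' : Summable fun m : {m : Ideal (MvPolynomial (Fin n) ℤ ⧸ RingHom.ker e) // m.IsMaximal} =>
      (Nat.card ((MvPolynomial (Fin n) ℤ ⧸ RingHom.ker e) ⧸ m.1) : ℝ) ^ (-y) := by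
    refine (hs.comp_injective hF).congr fun m => ?_
    have h : Nat.card (R ⧸ (F m).1) = Nat.card ((MvPolynomial (Fin n) ℤ ⧸ RingHom.ker e) ⧸ m.1) :=
      Nat.card_congr (Ideal.quotientEquiv (F m).1 m.1 ε.symm
        (Ideal.map_comap_of_surjective _ ε.symm.surjective m.1).symm).toEquiv
    simp [h]
  obtain ⟨p, hp⟩ := CharP.exists (MvPolynomial (Fin n) ℤ ⧸ RingHom.ker e)
  rcases CharP.char_is_prime_or_zero (MvPolynomial (Fin n) ℤ ⧸ RingHom.ker e) p with hprime | rfl
  · haveI : Fact p.Prime := ⟨hprime⟩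
    exact not_summable_charP (p := p) _ Ideal.Quotient.mk_surjective hdim hy hy0 hs'
  · haveI : CharZero (MvPolynomial (Fin n) ℤ ⧸ RingHom.ker e) := CharP.charP_to_charZero _
    exact not_summable_charZero _ Ideal.Quotient.mk_surjective hdim hy hs'

/-- The abscissa of absolute convergence of the zeta function is the dimension. -/
theorem abscissa_eq {X : Scheme.{u}} (f : X ⟶ Spec (CommRingCat.of (ULift.{u} ℤ))) [LocallyOfFiniteType f]
    [QuasiCompact f] {r : ℕ} (hr : topologicalKrullDim X = r) :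
    LSeries.abscissaOfAbsConv (Zeta.arithCoeff X) = (r : ℝ) := by
  refine le_antisymm (abscissa_le_and_ne_zero f hr.le).1 (le_sInf ?_)
  rintro _ ⟨y, hy, rfl⟩
  rw [EReal.coe_le_coe_iff]
  by_contra hlt
  push Not at hlt
  obtain ⟨R, _, _, n, e, he, hdim, j, hj, hnorm⟩ := exists_domain f hr.ge
  obtain ⟨m, hm⟩ := Ideal.exists_maximal R
  rw [Set.mem_setOf_eq, arithCoeff_eq f] at hy
  have h2 : ∀ x : Zeta25.Closed X, 2 ≤ ptNorm X x := fun x => card_residueField_two_le f x.2
  have hσ : (0 : ℝ) < (r : ℝ) + 1 := by positivity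
  have hsum := summable_ptNorm f hr.le (σ := (r : ℝ) + 1) (by linarith)
  have hy0 : 0 ≤ y :=
    nonneg_of_lSeriesSummable h2 (finite_fiber h2 hσ hsum) (j ⟨m, hm⟩) hy
  exact not_summable_domain e he hdim hlt hy0
    (((summable_of_lSeriesSummable h2 hσ hsum hy).comp_injective hj).congr fun m => by simp [hnorm])

end Groth.Agent.LangWeil25
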