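import Groth.Agent.Lib.LangWeil25.Recursion
import Mathlib.FieldTheory.Finite.GaloisField

/-!
# Points of a finitely generated domain over a finite field
-/

set_option autoImplicit false

universe u v

namespace Groth.Agent.LangWeil25

section Away

variable {k : Type u} [CommRing k] {K : Type v} [Field K] [Algebra k K]

/-- The subalgebra `A[1/a]`. -/
def Aw (A : Subalgebra k K) {a : K} (ha : a ∈ A) : Subalgebra k K where
  carrier := {x | ∃ n : ℕ, x * a ^ n ∈ A}
  mul_mem' := by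
    rintro x y ⟨n, hx⟩ ⟨m, hy⟩
    exact ⟨n + m, by rw [pow_add, mul_mul_mul_comm]; exact mul_mem hx hy⟩
  add_mem' := by
    rintro x y ⟨n, hx⟩ ⟨m, hy⟩
    refine ⟨n + m, ?_⟩
    rw [show (x + y) * a ^ (n + m) = x * a ^ n * a ^ m + y * a ^ m * a ^ n by ring]
    exact add_mem (mul_mem hx (pow_mem ha m)) (mul_mem hy (pow_mem ha n))
  algebraMap_mem' c := ⟨0, by simp⟩

theorem mem_Aw {A : Subalgebra k K} {a : K} {ha : a ∈ A} {x : K} : x ∈ Aw A ha ↔ ∃ n : ℕ, x * a ^ n ∈ A :=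
  Iff.rfl

theorem le_Aw (A : Subalgebra k K) {a : K} (ha : a ∈ A) : A ≤ Aw A ha := fun x hx => ⟨0, by simpa using hx⟩

/-- A finitely generated subalgebra lies in a localisation of a birational one. -/
theorem exists_le_Aw {A B : Subalgebra k K} (hA : A.FG) (hB : ∀ y : K, ∃ a ∈ B, ∃ b ∈ B, b ≠ 0 ∧ y * b = a) :
    ∃ (b : K) (hb : b ∈ B), b ≠ 0 ∧ A ≤ Aw B hb := by
  classical
  obtain ⟨s, hs⟩ := hA
  choose a ha b hb hb0 hab using hB
  refine ⟨∏ y ∈ s, b y, prod_mem fun y _ => hb y, Finset.prod_ne_zero_iff.2 fun y _ => hb0 y, ?_⟩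
  rw [← hs, Algebra.adjoin_le_iff]
  intro y hy
  refine ⟨1, ?_⟩
  rw [pow_one, ← Finset.mul_prod_erase _ _ (Finset.mem_coe.1 hy), ← mul_assoc, hab y]
  exact mul_mem (ha y) (prod_mem fun z _ => hb z)

/-- Birational finitely generated subalgebras have a common localisation. -/
theorem exists_common {A B : Subalgebra k K} (hA : A.FG) (hAb : ∀ y : K, ∃ a ∈ A, ∃ b ∈ A, b ≠ 0 ∧ y * b = a)
    (hB : B.FG) (hBb : ∀ y : K, ∃ a ∈ B, ∃ b ∈ B, b ≠ 0 ∧ y * b = a) :
    ∃ (a : K) (ha : a ∈ A) (b : K) (hb : b ∈ B), a ≠ 0 ∧ b ≠ 0 ∧ Aw A ha = Aw B hb := by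
  obtain ⟨b₁, hb₁, hb₁0, hle₁⟩ := exists_le_Aw hA hBb
  obtain ⟨a₁, ha₁, ha₁0, hle₂⟩ := exists_le_Aw hB hAb
  obtain ⟨n, hn⟩ := hle₁ ha₁
  set c := a₁ * b₁ ^ n with hc
  have hb : b₁ * c ∈ B := mul_mem hb₁ hn
  obtain ⟨m, hm⟩ := hle₂ hb
  have ha : a₁ * (b₁ * c * a₁ ^ m) ∈ A := mul_mem ha₁ hm
  refine ⟨_, ha, _, hb, mul_ne_zero ha₁0 (mul_ne_zero (mul_ne_zero hb₁0 (mul_ne_zero ha₁0 (pow_ne_zero _ hb₁0)))
    (pow_ne_zero _ ha₁0)), mul_ne_zero hb₁0 (mul_ne_zero ha₁0 (pow_ne_zero _ hb₁0)), le_antisymm ?_ ?_⟩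
  · rintro x ⟨j, hx⟩
    obtain ⟨i, hi⟩ := hle₁ hx
    refine ⟨j + i + (m + 1) * j, ?_⟩
    rw [show x * (b₁ * c) ^ (j + i + (m + 1) * j) =
      x * (a₁ * (b₁ * c * a₁ ^ m)) ^ j * b₁ ^ i * (b₁ ^ ((m + 1) * j + n * (m + 1) * j) * c ^ i) by
        rw [hc]; ring]
    exact mul_mem hi (mul_mem (pow_mem hb₁ _) (pow_mem hn _))
  · rintro x ⟨j, hx⟩
    obtain ⟨i, hi⟩ := hle₂ hx
    refine ⟨i + j, ?_⟩
    rw [show x * (a₁ * (b₁ * c * a₁ ^ m)) ^ (i + j) =
      x * (b₁ * c) ^ j * a₁ ^ i * (a₁ ^ j * a₁ ^ (m * j) * (b₁ * c * a₁ ^ m) ^ i) by ring]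
    exact mul_mem hi (mul_mem (mul_mem (pow_mem ha₁ _) (pow_mem ha₁ _)) (pow_mem hm _))

theorem card_algHom_Aw (A : Subalgebra k K) {a : K} (ha : a ∈ A) (ha0 : a ≠ 0) :
    Nonempty (Localization.Away (⟨a, ha⟩ : A) ≃ₐ[k] Aw A ha) := by
  have hu : ∀ y : Submonoid.powers (⟨a, ha⟩ : A), IsUnit (Subalgebra.inclusion (le_Aw A ha) y) := fun y => by
    obtain ⟨n, hn⟩ := y.2
    rw [← hn, map_pow]
    refine IsUnit.pow n (isUnit_iff_exists_inv.2 ⟨⟨a⁻¹, 1, ?_⟩, Subtype.ext (mul_inv_cancel₀ ha0)⟩)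
    rw [pow_one, inv_mul_cancel₀ ha0]
    exact one_mem A
  let Φ : Localization.Away (⟨a, ha⟩ : A) →ₐ[k] Aw A ha :=
    IsLocalization.liftAlgHom (M := Submonoid.powers (⟨a, ha⟩ : A)) (f := Subalgebra.inclusion (le_Aw A ha)) hu
  have hΦ : ∀ x : A, Φ (algebraMap A _ x) = Subalgebra.inclusion (le_Aw A ha) x := fun x =>
    IsLocalization.lift_eq _ x
  refine ⟨AlgEquiv.ofBijective Φ ⟨?_, fun x => ?_⟩⟩
  · rw [injective_iff_map_eq_zero]
    intro x hx
    obtain ⟨⟨c, s⟩, hcs⟩ := IsLocalization.surj (Submonoid.powers (⟨a, ha⟩ : A)) x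
    have h1 := congrArg Φ hcs
    rw [map_mul, hx, zero_mul, hΦ] at h1
    have : c = 0 := Subalgebra.inclusion_injective (le_Aw A ha) (h1.symm.trans (map_zero _).symm)
    rw [this, map_zero] at hcs
    exact (IsLocalization.map_units (Localization.Away (⟨a, ha⟩ : A)) s).mul_left_eq_zero.mp hcs
  · obtain ⟨n, hn⟩ := x.2
    refine ⟨IsLocalization.mk' _ (⟨_, hn⟩ : A) (⟨⟨a, ha⟩ ^ n, n, rfl⟩ : Submonoid.powers (⟨a, ha⟩ : A)), ?_⟩
    refine (IsLocalization.lift_mk'_spec _ _ _ _).2 (Subtype.ext ?_)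
    show (x : K) * a ^ n = a ^ n * (x : K)
    exact mul_comm _ _

end Away

variable {k : Type u} [Field k] [Finite k]

theorem ringKrullDim_le {K : Type u} [Field K] [Algebra k K] {r : ℕ} (hr : Algebra.trdeg k K = r)
    {A : Subalgebra k K} (hA : A.FG) : ringKrullDim A ≤ r := by
  haveI : Algebra.FiniteType k A := (Subalgebra.fg_iff_finiteType A).mp hA
  rw [VarDim.ringKrullDim_eq_tdeg k A]
  have h1 : Algebra.trdeg k A ≤ (r : Cardinal) := hr ▸ trdeg_le_of_injective A.val Subtype.val_injective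
  have h2 := Cardinal.toNat_le_toNat h1 (Cardinal.natCast_lt_aleph0 (n := r))
  rw [Cardinal.toNat_natCast] at h2
  exact_mod_cast h2

/-- Points of a domain: `m q ^ r` with `m` the degree of the field of constants, when `m` divides the degree. -/
theorem exists_domain_points {K : Type u} [Field K] [Algebra k K] [Algebra.EssFiniteType k K] {r : ℕ}
    (hr : Algebra.trdeg k K = r) {A : Subalgebra k K} (hA : A.FG) (hAb : Birat A) :
    0 < Module.finrank k (algebraicClosure k K) ∧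
    ∃ C : ℕ, ∀ (F : Type u) [Field F] [Finite F] [Algebra k F],
      (Module.finrank k (algebraicClosure k K) ∣ Module.finrank k F →
        |(Nat.card (A →ₐ[k] F) : ℝ) - Module.finrank k (algebraicClosure k K) * (Nat.card F : ℝ) ^ r| *
          Real.sqrt (Nat.card F) ≤ C * (Nat.card F : ℝ) ^ r) ∧
      (¬ Module.finrank k (algebraicClosure k K) ∣ Module.finrank k F →
        (Nat.card (A →ₐ[k] F) : ℝ) * Nat.card F ≤ C * (Nat.card F : ℝ) ^ r) := by
  classical
  set k' := algebraicClosure k K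
  haveI : Module.Finite k k' := NormFin18.finite_algebraicClosure k K
  haveI : Finite k' := Module.finite_of_finite k
  haveI : Algebra.EssFiniteType k' K := Algebra.EssFiniteType.of_comp k k' K
  have hr' : Algebra.trdeg k' K = r := by
    have h1 := trdeg_add_eq k k' (A := K)
    rwa [trdeg_eq_zero (R := k) (A := k'), zero_add, hr] at h1
  obtain ⟨B, hB, hBb, hBlw⟩ := exists_model_points r (k := k') (K := K)
    (fun y hy => ⟨⟨y, mem_algebraicClosure_iff.2 (hy.restrictScalars k)⟩, rfl⟩) hr'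
  haveI : Algebra.FiniteType k' B := (Subalgebra.fg_iff_finiteType B).mp hB
  have hBk : (B.restrictScalars k).FG := by
    haveI : Algebra.FiniteType k k' := inferInstance
    haveI : Algebra.FiniteType k (B.restrictScalars k) :=
      Algebra.FiniteType.trans (R := k) (S := k') (A := B) inferInstance ‹_›
    exact (Subalgebra.fg_iff_finiteType _).mpr inferInstance
  obtain ⟨a, ha, b, hb, ha0, hb0, heq⟩ := exists_common hA hAb (B := B.restrictScalars k) hBk hBb
  obtain ⟨eA⟩ := card_algHom_Aw A ha ha0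
  obtain ⟨eB⟩ := card_algHom_Aw B (hb : b ∈ B) hb0
  obtain ⟨C, hC⟩ := (hBlw.away (ringKrullDim_le hr' hB) (fun h => hb0 (congrArg Subtype.val h))).congr eB
  haveI : Algebra.FiniteType k A := (Subalgebra.fg_iff_finiteType A).mp hA
  obtain ⟨C', hC'⟩ := exists_card_zero_le (k := k) (ringKrullDim_le hr hA)
    (f := (⟨a, ha⟩ : A)) fun h => ha0 (congrArg Subtype.val h)
  set m := Module.finrank k k' with hm
  refine ⟨Module.finrank_pos, C * m + C', fun F _ _ _ => ?_⟩
  haveI : Module.Finite k F := Module.Finite.of_finite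
  have h0 := hC' F
  have hsplit := card_algHom_split (k := k) (⟨a, ha⟩ : A) F
  set Z := Nat.card {φ : A →ₐ[k] F // φ ⟨a, ha⟩ = 0}
  -- the points of the common localisation
  set R := Aw B (hb : b ∈ B) with hR
  have hcarr : (Aw A ha).toSubsemiring = R.toSubsemiring := by
    rw [heq]; rfl
  let eR : Aw A ha ≃ₐ[k] R.restrictScalars k := Subalgebra.equivOfEq _ _ (SetLike.ext fun x =>
    SetLike.ext_iff.1 hcarr x)
  rw [Nat.card_congr ((eA.trans eR).arrowCongr (AlgEquiv.refl : F ≃ₐ[k] F))] at hsplit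
  set P := Nat.card (R.restrictScalars k →ₐ[k] F) with hP
  set Q : ℝ := (Nat.card F : ℝ) with hQ
  have hQ1 : (1 : ℝ) ≤ Q := by rw [hQ]; exact_mod_cast Nat.card_pos
  have hs : Real.sqrt Q ≤ Q := Real.sqrt_le_iff.2 ⟨by linarith, by nlinarith⟩
  have h0' : (Z : ℝ) * Q ≤ C' * Q ^ r := by rw [hQ]; exact_mod_cast h0
  rw [hsplit]
  push_cast
  let toσ : (R.restrictScalars k →ₐ[k] F) → (k' →ₐ[k] F) := fun φ =>
    φ.comp (IsScalarTower.toAlgHom k k' R)
  refine ⟨fun hdvd => ?_, fun hndvd => ?_⟩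
  · have hσc : Nat.card (k' →ₐ[k] F) = m := FiniteField.natCard_algHom_of_finrank_dvd hdvd
    haveI : Finite (k' →ₐ[k] F) := Nat.finite_of_card_ne_zero (hσc ▸ Module.finrank_pos.ne')
    letI := Fintype.ofFinite (k' →ₐ[k] F)
    haveI : Algebra.FiniteType k' R := by
      haveI : Algebra.FiniteType B (Localization.Away (⟨b, hb⟩ : B)) :=
        IsLocalization.finiteType_of_monoid_fg (Submonoid.powers (⟨b, hb⟩ : B)) _
      exact (Algebra.FiniteType.trans (R := k') (S := B) ‹_› ‹_›).equiv eB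
    have hfib : ∀ σ : k' →ₐ[k] F, Finite {φ // toσ φ = σ} ∧
        |(Nat.card {φ // toσ φ = σ} : ℝ) - Q ^ r| * Real.sqrt Q ≤ C * Q ^ r := fun σ => by
      letI : Algebra k' F := σ.toRingHom.toAlgebra
      let e : {φ // toσ φ = σ} ≃ (R →ₐ[k'] F) :=
        { toFun := fun φ => { φ.1.toRingHom with commutes' := fun c => AlgHom.congr_fun φ.2 c }
          invFun := fun ψ => ⟨{ ψ.toRingHom with
              commutes' := fun c => by
                show ψ (algebraMap k R c) = _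
                rw [IsScalarTower.algebraMap_apply k k' R, ψ.commutes]
                exact σ.commutes c }, AlgHom.ext fun c => ψ.commutes c⟩
          left_inv := fun _ => rfl
          right_inv := fun _ => rfl }
      haveI := finite_algHom_finite (k := k') (A := R) F
      refine ⟨Finite.of_equiv _ e.symm, ?_⟩
      rw [Nat.card_congr e]
      exact hC F
    haveI : ∀ σ, Finite {φ // toσ φ = σ} := fun σ => (hfib σ).1
    have hPs : P = ∑ σ, Nat.card {φ // toσ φ = σ} := by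
      rw [hP, ← Nat.card_sigma, Nat.card_congr (Equiv.sigmaFiberEquiv toσ)]
    have h1 : |(P : ℝ) - m * Q ^ r| * Real.sqrt Q ≤ m * (C * Q ^ r) := by
      rw [hPs, ← hσc, Nat.card_eq_fintype_card, Fintype.card, Nat.cast_sum, ← nsmul_eq_mul,
        ← nsmul_eq_mul, ← Finset.sum_const, ← Finset.sum_const, ← Finset.sum_sub_distrib]
      refine (mul_le_mul_of_nonneg_right (Finset.abs_sum_le_sum_abs _ _) (Real.sqrt_nonneg _)).trans ?_
      rw [Finset.sum_mul]
      exact Finset.sum_le_sum fun σ _ => (hfib σ).2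
    have h2 : |(Z : ℝ) + P - m * Q ^ r| ≤ Z + |(P : ℝ) - m * Q ^ r| := by
      have := abs_add_le (Z : ℝ) ((P : ℝ) - m * Q ^ r)
      rw [Nat.abs_cast] at this
      rwa [add_sub_assoc]
    nlinarith [mul_le_mul_of_nonneg_right h2 (Real.sqrt_nonneg Q), mul_le_mul_of_nonneg_left hs (Nat.cast_nonneg Z)]
  · have hP0 : P = 0 := by
      rw [hP]
      refine Nat.card_eq_zero.2 (Or.inl ⟨fun φ => hndvd ?_⟩)
      letI : Algebra k' F := (toσ φ).toRingHom.toAlgebra
      haveI : IsScalarTower k k' F := IsScalarTower.of_algebraMap_eq fun c => ((toσ φ).commutes c).symm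
      exact Dvd.intro _ (Module.finrank_mul_finrank k k' F)
    rw [hP0]
    push_cast
    have : (0 : ℝ) ≤ (C : ℝ) * m * Q ^ r := by positivity
    nlinarith

end Groth.Agent.LangWeil25
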