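import Groth.Agent.Lib.LangWeil25.Model
import Groth.Agent.Lib.Zeta25.PointBoundAlg
import Mathlib.FieldTheory.Finite.GaloisField
import Mathlib.FieldTheory.Perfect
import Mathlib.RingTheory.Ideal.KrullsHeightTheorem
import Mathlib.RingTheory.Ideal.Norm.AbsNorm
import Mathlib.RingTheory.AlgebraicIndependent.Basic
import Mathlib.NumberTheory.NumberField.Basic
import Mathlib.LinearAlgebra.FreeModule.Finite.Matrix
import Mathlib.RingTheory.AlgebraicIndependent.TranscendenceBasis

/-!
# Many points in finite fields for domains of finite type over the integers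
-/

set_option autoImplicit false

namespace Groth.Agent.LangWeil25

open Polynomial IntermediateField

theorem card_ringHom_le {p : ℕ} [Fact p.Prime] {n : ℕ} {F : Type} [Field F] {k : Type} [Field k]
    [Finite k] [CharP k p] (hk : Nat.card k = p ^ n) : Nat.card (F →+* k) ≤ n := by
  rcases isEmpty_or_nonempty (F →+* k) with h | ⟨⟨φ⟩⟩
  · simp
  haveI : CharP F p := (φ.charP_iff φ.injective p).mpr inferInstance
  haveI : Finite F := Finite.of_injective φ φ.injective
  letI := ZMod.algebra F p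
  letI := ZMod.algebra k p
  haveI : Module.Finite (ZMod p) F := Module.Finite.of_finite
  haveI : Module.Finite (ZMod p) k := Module.Finite.of_finite
  let e : (F →+* k) → (F →ₐ[ZMod p] k) := fun ψ =>
    { ψ with commutes' := fun x => RingHom.congr_fun (Subsingleton.elim (ψ.comp (algebraMap (ZMod p) F)) (algebraMap (ZMod p) k)) x }
  have he : Function.Injective e := fun a b h => RingHom.ext fun x => AlgHom.congr_fun h x
  refine (Nat.card_le_card_of_injective e he).trans ((card_algHom_le_finrank (ZMod p) F k).trans ?_)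
  refine (LinearMap.finrank_le_finrank_of_injective (f := (e φ).toLinearMap) φ.injective).trans
    (le_of_eq ?_)
  have h := Module.natCard_eq_pow_finrank (K := ZMod p) (V := k)
  rw [hk, Nat.card_zmod] at h
  exact (Nat.pow_right_injective (Fact.out : p.Prime).two_le h).symm

/-- Few homomorphisms share their kernel. -/
theorem card_hom_le_maximal {p : ℕ} [Fact p.Prime] {n : ℕ} {R : Type} [CommRing R] {k : Type}
    [Field k] [Finite k] [CharP k p] (hk : Nat.card k = p ^ n) [Finite (R →+* k)] :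
    ∃ S : Finset {m : Ideal R // m.IsMaximal}, Nat.card (R →+* k) ≤ n * S.card ∧
      ∀ m ∈ S, Nat.card (R ⧸ m.1) ≤ p ^ n ∧ p ≤ Nat.card (R ⧸ m.1) := by
  classical
  have hfield : ∀ φ : R →+* k, (RingHom.ker φ).IsMaximal := fun φ => by
    haveI : (RingHom.ker φ).IsPrime := RingHom.ker_isPrime φ
    haveI : IsDomain (R ⧸ RingHom.ker φ) := Ideal.Quotient.isDomain _
    haveI : Finite (R ⧸ RingHom.ker φ) := Finite.of_injective _ (RingHom.kerLift_injective φ)
    exact Ideal.Quotient.maximal_of_isField _ (Finite.isField_of_domain _)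
  letI := Fintype.ofFinite (R →+* k)
  let K : (R →+* k) → {m : Ideal R // m.IsMaximal} := fun φ => ⟨RingHom.ker φ, hfield φ⟩
  refine ⟨Finset.univ.image K, ?_, fun m hm => ?_⟩
  · rw [Nat.card_eq_fintype_card, ← Finset.card_univ]
    refine Finset.card_le_mul_card_image Finset.univ n fun m _ => ?_
    haveI := m.2
    letI := Ideal.Quotient.field m.1
    refine le_trans ?_ (card_ringHom_le (F := R ⧸ m.1) hk)
    haveI : Finite (R ⧸ m.1 →+* k) := Finite.of_injective (fun ψ => ψ.comp (Ideal.Quotient.mk m.1))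
      fun a b h => Ideal.Quotient.ringHom_ext h
    rw [← Fintype.card_coe, ← Nat.card_eq_fintype_card]
    refine Nat.card_le_card_of_injective (fun φ => Ideal.Quotient.lift m.1 φ.1 (fun a ha => by
      have h := (Finset.mem_filter.mp φ.2).2
      rw [← show RingHom.ker φ.1 = m.1 from congrArg Subtype.val h] at ha
      exact ha)) fun a b h => Subtype.ext (RingHom.ext fun x => ?_)
    exact RingHom.congr_fun h (Ideal.Quotient.mk m.1 x)
  · obtain ⟨φ, -, rfl⟩ := Finset.mem_image.mp hm
    have hinj := RingHom.kerLift_injective φ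
    haveI : Finite (R ⧸ RingHom.ker φ) := Finite.of_injective _ hinj
    haveI : Nontrivial (R ⧸ RingHom.ker φ) := Ideal.Quotient.nontrivial_iff.mpr (hfield φ).ne_top
    haveI : CharP (R ⧸ RingHom.ker φ) p := ((RingHom.kerLift φ).charP_iff hinj p).mpr inferInstance
    refine ⟨le_of_le_of_eq (Nat.card_le_card_of_injective _ hinj) hk, ?_⟩
    exact le_of_eq_of_le (Nat.card_zmod p).symm
      (Nat.card_le_card_of_injective _ (ZMod.castHom_injective (R ⧸ RingHom.ker φ)))

/-- The point count for a domain. -/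
theorem points_of_domain {k₀ : Type} [Field k₀] [PerfectField k₀] {R : Type} [CommRing R] [IsDomain R]
    {n : ℕ} (e : MvPolynomial (Fin n) ℤ →+* R) (he : Function.Surjective e)
    [Algebra k₀ (FractionRing R)]
    (hprime : ∀ a : k₀, algebraMap k₀ (FractionRing R) a ∈ (⊥ : Subfield (FractionRing R)))
    {t : ℕ} (ht : Algebra.trdeg k₀ (FractionRing R) = t) :
    ∃ (K₁ : Type) (_ : Field K₁) (_ : Algebra k₀ K₁) (S₁ : Finset K₁) (C q₀ : ℕ),
      (∀ a : k₀, algebraMap k₀ K₁ a ∈ (⊥ : Subfield K₁)) ∧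
      Algebra.IsAlgebraic k₀ (adjoin k₀ (S₁ : Set K₁)) ∧
      ∀ (k : Type) [Field k] [Finite k], q₀ ≤ Nat.card k →
        Nonempty (Subring.closure (S₁ : Set K₁) →+* k) →
        Nat.card k ^ t ≤ C * Nat.card (R →+* k) := by
  classical
  set K := FractionRing R
  set j : R →+* K := algebraMap R K with hj
  set S : Finset K := Finset.univ.image fun i => j (e (MvPolynomial.X i)) with hS
  have hcl : Subring.closure (S : Set K) = (j.comp e).range := by
    refine le_antisymm (Subring.closure_le.mpr ?_) ?_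
    · intro x hx
      obtain ⟨i, -, rfl⟩ := Finset.mem_image.mp hx
      exact ⟨_, rfl⟩
    · rintro _ ⟨p, rfl⟩
      induction p using MvPolynomial.induction_on with
      | C a => simp
      | add p q hp hq => rw [map_add]; exact add_mem hp hq
      | mul_X p i hp =>
        rw [map_mul]
        exact mul_mem hp (Subring.subset_closure (Finset.mem_image_of_mem _ (Finset.mem_univ i)))
  have hmem : ∀ x : R, j x ∈ Subring.closure (S : Set K) := fun x => by
    obtain ⟨p, rfl⟩ := he x
    rw [hcl]; exact ⟨p, rfl⟩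
  have htop : adjoin k₀ (S : Set K) = ⊤ := by
    refine eq_top_iff.mpr fun x _ => ?_
    obtain ⟨a, b, -, rfl⟩ := IsFractionRing.div_surjective (A := R) x
    have hle : Subring.closure (S : Set K) ≤ (adjoin k₀ (S : Set K)).toSubalgebra.toSubring :=
      Subring.closure_le.mpr (subset_adjoin k₀ (S : Set K))
    exact div_mem (hle (hmem a)) (hle (hmem b))
  obtain ⟨K₁, i1, i2, S₁, C, q₀, h1, h2, h3⟩ := exists_points.{0, 0} (k₀ := k₀) t hprime S (by
    rw [htop, ← ht]
    exact (IntermediateField.topEquiv (F := k₀) (E := K)).trdeg_eq)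
  refine ⟨K₁, i1, i2, S₁, C, q₀, h1, h2, fun k _ _ hk hne => (h3 k hk hne).trans ?_⟩
  refine Nat.mul_le_mul_left _ ?_
  haveI : Finite (R →+* k) := Zeta25.finite_hom e he k
  refine Nat.card_le_card_of_injective (fun φ => φ.comp (j.codRestrict _ hmem)) fun φ φ' h => ?_
  refine RingHom.ext fun x => ?_
  have hx : (x : K) ∈ (j.comp e).range := hcl ▸ x.2
  obtain ⟨p, hp⟩ := hx
  rw [show x = j.codRestrict _ hmem (e p) from Subtype.ext hp.symm]
  exact RingHom.congr_fun h (e p)

/-- Many maximal ideals in characteristic `p`. -/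
theorem maximal_charP {p : ℕ} [Fact p.Prime] {R : Type} [CommRing R] [IsDomain R] [CharP R p]
    {n : ℕ} (e : MvPolynomial (Fin n) ℤ →+* R) (he : Function.Surjective e) {r : ℕ}
    (hr : (r : WithBot ℕ∞) ≤ ringKrullDim R) :
    ∃ C n₀ j₀ : ℕ, 0 < n₀ ∧ ∀ j, j₀ ≤ j → ∃ S : Finset {m : Ideal R // m.IsMaximal},
      (p ^ (n₀ * j)) ^ r ≤ C * (n₀ * j) * S.card ∧
        ∀ m ∈ S, Nat.card (R ⧸ m.1) ≤ p ^ (n₀ * j) ∧ 2 ≤ Nat.card (R ⧸ m.1) := by
  classical
  letI := ZMod.algebra R p
  haveI : CharP (FractionRing R) p :=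
    charP_of_injective_algebraMap (IsFractionRing.injective R (FractionRing R)) p
  haveI : Algebra.FiniteType (ZMod p) R := by
    haveI : Algebra.FiniteType ℤ R :=
      Algebra.FiniteType.iff_quotient_mvPolynomial''.mpr ⟨n, { e with commutes' := fun z => by simp }, he⟩
    haveI : IsScalarTower ℤ (ZMod p) R := IsScalarTower.of_algebraMap_eq' (RingHom.ext_int _ _)
    exact Algebra.FiniteType.of_restrictScalars_finiteType ℤ (ZMod p) R
  have hdim := VarDim.ringKrullDim_eq_tdeg (ZMod p) R
  have htr : Algebra.trdeg (ZMod p) (FractionRing R) = VarDim.tdeg (ZMod p) R := by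
    haveI : Algebra.IsAlgebraic R (FractionRing R) := IsLocalization.isAlgebraic _ (nonZeroDivisors R)
    rw [← trdeg_add_eq (ZMod p) R (A := FractionRing R),
      trdeg_eq_zero (R := R) (A := FractionRing R), add_zero, VarDim.trdeg_eq_tdeg]
  have hrt : r ≤ VarDim.tdeg (ZMod p) R := by
    rw [hdim] at hr; exact_mod_cast hr
  obtain ⟨K₁, _, _, S₁, C, q₀, -, halg, hb⟩ := points_of_domain e he (k₀ := ZMod p)
    (fun a => by
      obtain ⟨a, rfl⟩ := ZMod.natCast_zmod_surjective a
      rw [map_natCast]; exact natCast_mem _ a) htr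
  set M₁ := adjoin (ZMod p) (S₁ : Set K₁)
  haveI : FiniteDimensional (ZMod p) M₁ := finiteDimensional_adjoin fun x hx => by
    have := (halg.isAlgebraic ⟨x, subset_adjoin _ _ hx⟩).algebraMap (A := K₁)
    exact this.isIntegral
  haveI : Finite M₁ := Module.finite_of_finite (ZMod p)
  refine ⟨C, Module.finrank (ZMod p) M₁, q₀ + 1, Module.finrank_pos, fun j hj => ?_⟩
  set d := Module.finrank (ZMod p) M₁ * j with hd
  have hd0 : d ≠ 0 := Nat.mul_ne_zero Module.finrank_pos.ne' (by omega)
  set k := GaloisField p d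
  haveI : Finite k := inferInstance
  have hcard : Nat.card k = p ^ d := GaloisField.card p d hd0
  have hne : Nonempty (Subring.closure (S₁ : Set K₁) →+* k) := by
    obtain ⟨φ⟩ := FiniteField.nonempty_algHom_of_finrank_dvd (F := ZMod p) (K := M₁) (L := k)
      (by rw [GaloisField.finrank p hd0]; exact dvd_mul_right _ _)
    exact ⟨φ.toRingHom.comp ((Subring.closure (S₁ : Set K₁)).subtype.codRestrict M₁ fun x =>
      (Subring.closure_le.mpr (subset_adjoin _ _) : Subring.closure (S₁ : Set K₁) ≤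
        M₁.toSubalgebra.toSubring) x.2)⟩
  have hq : q₀ ≤ Nat.card k := by
    rw [hcard]
    refine le_trans ?_ (Nat.lt_pow_self (Fact.out : p.Prime).one_lt).le
    calc q₀ ≤ j := by omega
      _ ≤ d := Nat.le_mul_of_pos_left _ Module.finrank_pos
  haveI : Finite (R →+* k) := Zeta25.finite_hom e he k
  obtain ⟨S, hS, hS'⟩ := card_hom_le_maximal (R := R) (p := p) hcard
  refine ⟨S, ?_, fun m hm => ⟨(hS' m hm).1, (Fact.out : p.Prime).two_le.trans (hS' m hm).2⟩⟩
  calc (p ^ d) ^ r ≤ (p ^ d) ^ VarDim.tdeg (ZMod p) R :=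
        Nat.pow_le_pow_right (pow_pos (Fact.out : p.Prime).pos _) hrt
    _ = Nat.card k ^ VarDim.tdeg (ZMod p) R := by rw [hcard]
    _ ≤ C * Nat.card (R →+* k) := hb k hq hne
    _ ≤ C * (d * S.card) := Nat.mul_le_mul_left _ hS
    _ = C * d * S.card := by ring

/-- The Krull dimension is at most one more than the transcendence degree. -/
theorem exists_algebraicIndependent {R : Type} [CommRing R] [IsDomain R] [CharZero R] {n : ℕ}
    (e : MvPolynomial (Fin n) ℤ →+* R) (he : Function.Surjective e) {r : ℕ}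
    (hr : (r + 1 : WithBot ℕ∞) ≤ ringKrullDim R) :
    ∃ x : Fin r → R, AlgebraicIndependent ℤ x := by
  classical
  haveI : IsNoetherianRing R := isNoetherianRing_of_surjective _ _ e he
  obtain ⟨l, hl⟩ := Order.le_krullDim_iff.mp (show ((r + 1 : ℕ) : WithBot ℕ∞) ≤ ringKrullDim R by
    exact_mod_cast hr)
  obtain ⟨m, hm, hlm⟩ := Ideal.exists_le_maximal l.last.asIdeal l.last.isPrime.ne_top
  haveI := hm
  letI := Ideal.Quotient.field m
  haveI : Finite (R ⧸ m) := by
    have := Zeta25.int_jacobson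
    haveI : Algebra.FiniteType ℤ (R ⧸ m) := Algebra.FiniteType.iff_quotient_mvPolynomial''.mpr
      ⟨n, { (Ideal.Quotient.mk m).comp e with commutes' := fun z => by simp },
        Ideal.Quotient.mk_surjective.comp he⟩
    haveI : Module.Finite ℤ (R ⧸ m) := finite_of_finite_type_of_isJacobsonRing ℤ (R ⧸ m)
    obtain ⟨q, hq⟩ := CharP.exists (R ⧸ m)
    rcases CharP.char_is_prime_or_zero (R ⧸ m) q with hq' | rfl
    · haveI : Fact q.Prime := ⟨hq'⟩
      letI := ZMod.algebra (R ⧸ m) q
      haveI : IsScalarTower ℤ (ZMod q) (R ⧸ m) := IsScalarTower.of_algebraMap_eq' (RingHom.ext_int _ _)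
      haveI : Module.Finite (ZMod q) (R ⧸ m) := Module.Finite.of_restrictScalars_finite ℤ (ZMod q) _
      exact Module.finite_of_finite (ZMod q)
    · exfalso
      haveI : CharZero (R ⧸ m) := CharP.charP_to_charZero _
      exact Int.not_isField (isField_of_isIntegral_of_isField
        (algebraMap ℤ (R ⧸ m)).injective_int (Field.toIsField _))
  obtain ⟨p, hpc⟩ := CharP.exists (R ⧸ m)
  haveI : Fact p.Prime := ⟨CharP.char_is_prime (R ⧸ m) p⟩
  have hpm : (p : R) ∈ m := by
    rw [← Ideal.Quotient.eq_zero_iff_mem, map_natCast]; exact CharP.cast_eq_zero _ p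
  -- cut by `p` in the local ring
  set Rm := Localization.AtPrime m
  have hh : ((r + 1 : ℕ) : WithBot ℕ∞) ≤ ringKrullDim Rm := by
    rw [IsLocalization.AtPrime.ringKrullDim_eq_height m Rm]
    have h : ((l.length : ℕ) : ℕ∞) ≤ Order.height (⟨m, hm.isPrime⟩ : PrimeSpectrum R) :=
      Order.length_le_height hlm
    rw [hl] at h
    rw [← PrimeSpectrum.height_eq_orderHeight] at h
    exact_mod_cast h
  have hpj : (algebraMap R Rm) (p : R) ∈ Ring.jacobson Rm := by
    rw [IsLocalRing.ringJacobson_eq_maximalIdeal]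
    exact (IsLocalization.AtPrime.to_map_mem_maximal_iff Rm m _).mpr hpm
  have hcut : ((r + 1 : ℕ) : WithBot ℕ∞) ≤
      ringKrullDim (Rm ⧸ Ideal.span ({algebraMap R Rm (p : R)} : Set Rm)) + 1 := by
    refine hh.trans (le_trans (ringKrullDim_le_ringKrullDim_quotient_add_encard
      ({algebraMap R Rm (p : R)} : Set Rm) (Set.singleton_subset_iff.mpr hpj)) ?_)
    simp
  have hquot : ringKrullDim (Rm ⧸ Ideal.span {algebraMap R Rm (p : R)}) ≤
      ringKrullDim (R ⧸ Ideal.span {(p : R)}) := by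
    rw [ringKrullDim_quotient, ringKrullDim_quotient]
    refine Order.krullDim_le_of_strictMono (fun P => ⟨PrimeSpectrum.comap (algebraMap R Rm) P.1, ?_⟩) ?_
    · have h : (Ideal.span {algebraMap R Rm (p : R)} : Set Rm) ⊆ P.1.asIdeal := P.2
      exact (Ideal.span_le (I := (PrimeSpectrum.comap (algebraMap R Rm) P.1).asIdeal)).mpr
        (Set.singleton_subset_iff.mpr (h (Ideal.mem_span_singleton_self _)))
    · exact fun P Q h => Subtype.mk_lt_mk.mpr
        ((Monotone.strictMono_of_injective (f := PrimeSpectrum.comap (algebraMap R Rm))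
          (fun _ _ h => Ideal.comap_mono h)
          (PrimeSpectrum.localization_comap_injective Rm m.primeCompl)) h)
  have hr' : (r : WithBot ℕ∞) ≤ ringKrullDim (R ⧸ Ideal.span {(p : R)}) := by
    have h := hcut.trans (add_le_add_left hquot 1)
    generalize ringKrullDim (R ⧸ Ideal.span {(p : R)}) = D at h
    induction D using WithBot.recBotCoe with
    | bot => simp at h
    | coe a =>
      have h' : (((r + 1 : ℕ) : ℕ∞) : WithBot ℕ∞) ≤ ((a + 1 : ℕ∞) : WithBot ℕ∞) := by
        push_cast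
        exact_mod_cast h
      rw [WithBot.coe_le_coe, Nat.cast_succ] at h'
      have := (ENat.add_le_add_iff_right ENat.one_ne_top).mp h'
      exact_mod_cast this
  rw [ringKrullDim_quotient] at hr'
  obtain ⟨l', hl'⟩ := Order.le_krullDim_iff.mp hr'
  set Q := l'.head.1.asIdeal
  haveI : Q.IsPrime := l'.head.1.isPrime
  have hpQ : (p : R) ∈ Q := l'.head.2 (Ideal.mem_span_singleton_self _)
  haveI : CharP (R ⧸ Q) p :=
    (CharP.charP_iff_prime_eq_zero (Fact.out : p.Prime)).mpr
      ((map_natCast (Ideal.Quotient.mk Q) p).symm.trans (Ideal.Quotient.eq_zero_iff_mem.mpr hpQ))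
  letI := ZMod.algebra (R ⧸ Q) p
  haveI : Algebra.FiniteType (ZMod p) (R ⧸ Q) := by
    haveI : Algebra.FiniteType ℤ (R ⧸ Q) := Algebra.FiniteType.iff_quotient_mvPolynomial''.mpr
      ⟨n, { (Ideal.Quotient.mk Q).comp e with commutes' := fun z => by simp },
        Ideal.Quotient.mk_surjective.comp he⟩
    haveI : IsScalarTower ℤ (ZMod p) (R ⧸ Q) := IsScalarTower.of_algebraMap_eq' (RingHom.ext_int _ _)
    exact Algebra.FiniteType.of_restrictScalars_finiteType ℤ (ZMod p) _
  have hdim : (r : WithBot ℕ∞) ≤ ringKrullDim (R ⧸ Q) := by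
    rw [ringKrullDim_quotient]
    refine Order.le_krullDim_iff.mpr ⟨LTSeries.mk r (fun i => ⟨(l' (Fin.cast (by omega) i)).1, ?_⟩) ?_, rfl⟩
    · exact (PrimeSpectrum.mem_zeroLocus _ _).mpr (l'.head_le _)
    · intro i j hij
      exact Subtype.mk_lt_mk.mpr (Subtype.coe_lt_coe.mpr (l'.strictMono (by simpa using hij)))
  rw [VarDim.ringKrullDim_eq_tdeg (ZMod p) (R ⧸ Q)] at hdim
  obtain ⟨ι, x₀, hx₀⟩ := exists_isTranscendenceBasis' (ZMod p) (R ⧸ Q)
  obtain ⟨b, hb⟩ : ∃ b : Fin r → R ⧸ Q, AlgebraicIndependent (ZMod p) b := by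
    have hc : (r : Cardinal) ≤ Cardinal.mk ι := by
      rw [hx₀.cardinalMk_eq_trdeg, VarDim.trdeg_eq_tdeg]
      exact_mod_cast hdim
    obtain ⟨f⟩ := (Cardinal.le_def _ _).mp (show Cardinal.mk (Fin r) ≤ Cardinal.mk ι by simpa using hc)
    exact ⟨x₀ ∘ f, hx₀.1.comp f f.injective⟩
  choose x hx using fun i => Ideal.Quotient.mk_surjective (b i)
  refine ⟨x, ?_⟩
  rw [algebraicIndependent_iff]
  intro F hF
  have hdiv : ∀ F : MvPolynomial (Fin r) ℤ, MvPolynomial.aeval x F = 0 →
      ∃ G, F = MvPolynomial.C (p : ℤ) * G ∧ MvPolynomial.aeval x G = 0 := by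
    intro F hF
    have h1 : MvPolynomial.map (Int.castRingHom (ZMod p)) F = 0 := by
      refine algebraicIndependent_iff.mp hb _ ?_
      rw [MvPolynomial.aeval_def, MvPolynomial.eval₂_map,
        Subsingleton.elim ((algebraMap (ZMod p) (R ⧸ Q)).comp (Int.castRingHom (ZMod p)))
          ((Ideal.Quotient.mk Q).comp (algebraMap ℤ R))]
      have h2 := congrArg (Ideal.Quotient.mk Q) hF
      rw [map_zero, MvPolynomial.aeval_def, MvPolynomial.eval₂_comp_left] at h2
      rwa [show (Ideal.Quotient.mk Q) ∘ x = b from funext hx] at h2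
    have hd : MvPolynomial.C (p : ℤ) ∣ F := MvPolynomial.C_dvd_iff_dvd_coeff _ _ |>.mpr fun m => by
      rw [← ZMod.intCast_zmod_eq_zero_iff_dvd]
      have := congrArg (MvPolynomial.coeff m) h1
      simpa [MvPolynomial.coeff_map] using this
    obtain ⟨G, rfl⟩ := hd
    refine ⟨G, rfl, ?_⟩
    rw [map_mul, MvPolynomial.aeval_C, mul_eq_zero] at hF
    exact hF.resolve_left (by simp [(Fact.out : p.Prime).ne_zero])
  have hpow : ∀ k : ℕ, MvPolynomial.C ((p : ℤ) ^ k) ∣ F := by
    intro k
    suffices h : ∀ F : MvPolynomial (Fin r) ℤ, MvPolynomial.aeval x F = 0 →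
        MvPolynomial.C ((p : ℤ) ^ k) ∣ F from h F hF
    induction k with
    | zero => intro F _; simp
    | succ k ih =>
      intro F hF
      obtain ⟨G, rfl, hG⟩ := hdiv F hF
      rw [pow_succ', map_mul]
      exact mul_dvd_mul_left _ (ih G hG)
  ext m
  rw [MvPolynomial.coeff_zero]
  refine Int.eq_zero_of_dvd_of_natAbs_lt_natAbs (d := (p : ℤ) ^ (MvPolynomial.coeff m F).natAbs)
    ((MvPolynomial.C_dvd_iff_dvd_coeff _ _).mp (hpow _) m) ?_
  rw [Int.natAbs_pow, Int.natAbs_natCast]
  exact Nat.lt_pow_self (Fact.out : p.Prime).one_lt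

/-- Many maximal ideals of prime norm in characteristic zero. -/
theorem points_charZero {R : Type} [CommRing R] [IsDomain R] [CharZero R]
    {n : ℕ} (e : MvPolynomial (Fin n) ℤ →+* R) (he : Function.Surjective e) {r : ℕ}
    (hr : (r : WithBot ℕ∞) ≤ ringKrullDim R) :
    ∃ (M : Type) (_ : Field M) (_ : NumberField M) (N t C : ℕ), N ≠ 0 ∧ r ≤ t + 1 ∧
      ∀ p : ℕ, p.Prime → ¬ p ∣ N → (∃ P : Ideal (NumberField.RingOfIntegers M),
          P.IsPrime ∧ Ideal.absNorm P = p) →
        ∃ S : Finset {m : Ideal R // m.IsMaximal}, p ^ t ≤ C * S.card ∧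
          ∀ m ∈ S, Nat.card (R ⧸ m.1) = p := by
  classical
  set K := FractionRing R
  haveI : CharZero K := charZero_of_injective_algebraMap (IsFractionRing.injective R K)
  haveI : Algebra.FiniteType ℤ R :=
    Algebra.FiniteType.iff_quotient_mvPolynomial''.mpr ⟨n, { e with commutes' := fun z => by simp }, he⟩
  obtain ⟨t, ht⟩ : ∃ t : ℕ, Algebra.trdeg ℤ R = t :=
    Cardinal.lt_aleph0.mp trdeg_lt_aleph0_of_finiteType
  have htQ : Algebra.trdeg ℚ K = t := by
    haveI : Algebra.IsAlgebraic R K := IsLocalization.isAlgebraic _ (nonZeroDivisors R)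
    haveI : @IsScalarTower ℤ ℚ K Algebra.toSMul Algebra.toSMul Algebra.toSMul :=
      IsScalarTower.of_algebraMap_eq' (RingHom.ext_int _ _)
    haveI : Algebra.IsAlgebraic ℤ ℚ := IsLocalization.isAlgebraic ℚ (nonZeroDivisors ℤ)
    haveI : FaithfulSMul ℤ R := (faithfulSMul_iff_algebraMap_injective _ _).mpr
      (algebraMap ℤ R).injective_int
    have h1 := trdeg_add_eq ℤ R (A := K)
    have h2 := trdeg_add_eq ℤ ℚ (A := K)
    rw [trdeg_eq_zero (R := R) (A := K), add_zero] at h1
    rw [trdeg_eq_zero (R := ℤ) (A := ℚ), zero_add] at h2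
    rw [← ht, h1, h2]
  have hrt : r ≤ t + 1 := by
    by_contra hlt
    push Not at hlt
    obtain ⟨x, hx⟩ := exists_algebraicIndependent e he (r := r - 1) (by
      obtain ⟨r', rfl⟩ : ∃ r', r = r' + 1 := ⟨r - 1, by omega⟩
      simpa using hr)
    have h := hx.cardinalMk_le_trdeg
    rw [ht, Cardinal.mk_fin, Nat.cast_le] at h
    omega
  obtain ⟨K₁, _, iA, S₁, C, q₀, -, halg, hb⟩ := points_of_domain e he (k₀ := ℚ)
    (fun a => by rw [eq_ratCast]; exact SubfieldClass.ratCast_mem _ a) htQ
  haveI : CharZero K₁ := charZero_of_injective_algebraMap (algebraMap ℚ K₁).injective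
  obtain rfl : iA = DivisionRing.toRatAlgebra := Subsingleton.elim _ _
  set M := adjoin ℚ (S₁ : Set K₁)
  haveI : FiniteDimensional ℚ M := finiteDimensional_adjoin fun x hx => by
    have := (halg.isAlgebraic ⟨x, subset_adjoin _ _ hx⟩).algebraMap (A := K₁)
    exact this.isIntegral
  haveI : NumberField M :=
    { to_charZero := inferInstance
      to_finiteDimensional := by convert! (inferInstance : FiniteDimensional ℚ M) }
  have hden : ∀ x : {x // x ∈ S₁}, ∃ N : ℕ, N ≠ 0 ∧
      IsIntegral ℤ ((N : M) * ⟨x.1, subset_adjoin _ _ x.2⟩) := by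
    intro x
    obtain ⟨⟨z, hz⟩, hint⟩ := IsIntegral.exists_multiple_integral_of_isLocalization (nonZeroDivisors ℤ)
      (Rₘ := ℚ) (⟨x.1, subset_adjoin _ _ x.2⟩ : M) (Algebra.IsIntegral.isIntegral _)
    refine ⟨z.natAbs, Int.natAbs_ne_zero.mpr (nonZeroDivisors.ne_zero hz), ?_⟩
    rw [Submonoid.smul_def, zsmul_eq_mul] at hint
    change IsIntegral ℤ ((z : M) * _) at hint
    rcases Int.natAbs_eq z with h | h
    · rw [h] at hint; simpa using hint
    · rw [h] at hint
      simpa using hint.neg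
  choose den hden0 hdenint using hden
  set N₁ := ∏ x, den x
  set N := N₁ * (q₀ + 1).factorial with hN
  refine ⟨M, inferInstance, inferInstance, N, t, C,
    Nat.mul_ne_zero (Finset.prod_ne_zero_iff.mpr fun x _ => hden0 x) (Nat.factorial_ne_zero _), hrt,
    fun p hp hpN hP => ?_⟩
  obtain ⟨P, hPp, hPn⟩ := hP
  haveI : Fact p.Prime := ⟨hp⟩
  have hPbot : P ≠ ⊥ := fun h => hp.ne_zero (by rw [← hPn, h, Ideal.absNorm_bot])
  haveI : Finite (NumberField.RingOfIntegers M ⧸ P) :=
    (Ideal.absNorm_ne_zero_iff P).mp (by rw [hPn]; exact hp.ne_zero)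
  letI := Fintype.ofFinite (NumberField.RingOfIntegers M ⧸ P)
  have hc : Fintype.card (NumberField.RingOfIntegers M ⧸ P) = p := by
    rw [← hPn, ← Nat.card_eq_fintype_card, Ideal.absNorm_apply, Submodule.cardQuot_apply]
  let ψ : NumberField.RingOfIntegers M →+* ZMod p :=
    (ZMod.ringEquivOfPrime _ hp hc).symm.toRingHom.comp (Ideal.Quotient.mk P)
  have hu : IsUnit (ψ (N : NumberField.RingOfIntegers M)) := by
    rw [map_natCast, isUnit_iff_ne_zero, Ne, ZMod.natCast_eq_zero_iff]
    exact hpN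
  have huM : IsUnit (algebraMap (NumberField.RingOfIntegers M) M (N : NumberField.RingOfIntegers M)) := by
    rw [map_natCast, isUnit_iff_ne_zero, Nat.cast_ne_zero]
    exact Nat.mul_ne_zero (Finset.prod_ne_zero_iff.mpr fun x _ => hden0 x) (Nat.factorial_ne_zero _)
  let A := Localization.Away (N : NumberField.RingOfIntegers M)
  let Φ₀ : A →+* M := IsLocalization.Away.lift (N : NumberField.RingOfIntegers M) huM
  let Ψ : A →+* ZMod p := IsLocalization.Away.lift (N : NumberField.RingOfIntegers M) hu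
  have hΦ₀ : Function.Injective Φ₀ := by
    rw [injective_iff_map_eq_zero]
    intro x hx
    obtain ⟨⟨a, ⟨_, i, rfl⟩⟩, hax⟩ := IsLocalization.surj (Submonoid.powers (N : NumberField.RingOfIntegers M)) x
    have h1 := congrArg Φ₀ hax
    rw [map_mul, hx, zero_mul] at h1
    simp only [Φ₀, IsLocalization.Away.lift_eq] at h1
    have ha : a = 0 := FaithfulSMul.algebraMap_injective _ M (by rw [← h1, map_zero])
    rw [ha, map_zero] at hax
    exact (IsLocalization.map_units A _).mul_left_eq_zero.mp hax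
  let E := RingEquiv.ofBijective Φ₀.rangeRestrict
    ⟨fun a b h => hΦ₀ (congrArg Subtype.val h), Φ₀.rangeRestrict_surjective⟩
  have hle : Subring.closure (S₁ : Set K₁) ≤ Φ₀.range.map M.toSubalgebra.toSubring.subtype := by
    rw [Subring.closure_le]
    intro x hx
    refine ⟨⟨x, subset_adjoin _ _ hx⟩, ?_, rfl⟩
    obtain ⟨d, hd⟩ : ∃ d, N = den ⟨x, hx⟩ * d :=
      ⟨(∏ y ∈ Finset.univ.erase ⟨x, hx⟩, den y) * (q₀ + 1).factorial, by
        rw [hN, ← mul_assoc, Finset.mul_prod_erase _ _ (Finset.mem_univ _)]⟩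
    refine ⟨algebraMap _ A (⟨_, hdenint ⟨x, hx⟩⟩ * (d : NumberField.RingOfIntegers M)) *
      IsLocalization.Away.invSelf (N : NumberField.RingOfIntegers M), ?_⟩
    refine mul_right_cancel₀ huM.ne_zero ?_
    have hinv : Φ₀ (IsLocalization.Away.invSelf (N : NumberField.RingOfIntegers M)) *
        algebraMap _ M (N : NumberField.RingOfIntegers M) = 1 := by
      have h := congrArg Φ₀ (IsLocalization.Away.mul_invSelf (S := A) (N : NumberField.RingOfIntegers M))
      rw [map_mul, map_one] at h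
      simp only [Φ₀, IsLocalization.Away.lift_eq] at h ⊢
      rw [mul_comm]; exact h
    rw [map_mul, mul_assoc, hinv, mul_one]
    simp only [Φ₀, IsLocalization.Away.lift_eq]
    rw [map_mul, map_natCast, map_natCast, hd]
    push_cast
    rw [NumberField.RingOfIntegers.map_mk]
    ring
  have hmemM : ∀ x : Subring.closure (S₁ : Set K₁), ∃ y : Φ₀.range, ((y : M) : K₁) = x := fun x => by
    obtain ⟨y, hy, hyx⟩ := hle x.2
    exact ⟨⟨y, hy⟩, hyx⟩
  choose lift hlift using hmemM
  let Λ : Subring.closure (S₁ : Set K₁) →+* Φ₀.range :=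
    { toFun := lift
      map_one' := Subtype.ext (Subtype.ext (by rw [hlift]; rfl))
      map_mul' := fun a b => Subtype.ext (Subtype.ext (by rw [hlift]; simp [hlift]))
      map_zero' := Subtype.ext (Subtype.ext (by rw [hlift]; rfl))
      map_add' := fun a b => Subtype.ext (Subtype.ext (by rw [hlift]; simp [hlift])) }
  have hq : q₀ ≤ Nat.card (ZMod p) := by
    rw [Nat.card_zmod]
    by_contra hlt
    exact hpN (dvd_mul_of_dvd_right (Nat.dvd_factorial hp.pos (by omega)) _)
  haveI : Finite (R →+* ZMod p) := Zeta25.finite_hom e he (ZMod p)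
  obtain ⟨S, hS, hS'⟩ := card_hom_le_maximal (R := R) (p := p) (k := ZMod p) (n := 1)
    (by rw [Nat.card_zmod, pow_one])
  refine ⟨S, ?_, fun m hm => ?_⟩
  · calc p ^ t = Nat.card (ZMod p) ^ t := by rw [Nat.card_zmod]
      _ ≤ C * Nat.card (R →+* ZMod p) :=
        hb (ZMod p) hq ⟨(Ψ.comp E.symm.toRingHom).comp Λ⟩
      _ ≤ C * (1 * S.card) := Nat.mul_le_mul_left _ hS
      _ = C * S.card := by rw [one_mul]
  · obtain ⟨h1, h2⟩ := hS' m hm
    rw [pow_one] at h1
    exact le_antisymm h1 h2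

end Groth.Agent.LangWeil25
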