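import Mathlib.FieldTheory.IsAlgClosed.AlgebraicClosure
import Mathlib.FieldTheory.PrimitiveElement
import Mathlib.FieldTheory.Minpoly.IsIntegrallyClosed
import Mathlib.FieldTheory.Normal.Basic
import Mathlib.FieldTheory.Separable
import Mathlib.RingTheory.Localization.Integral
import Mathlib.RingTheory.Algebraic.Integral
import Mathlib.RingTheory.Polynomial.UniqueFactorization
import Mathlib.Algebra.Algebra.Subalgebra.Lattice
import Mathlib.Algebra.Polynomial.BigOperators
import Mathlib.FieldTheory.SeparableClosure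
import Mathlib.RingTheory.Polynomial.RationalRoot

/-!
# A geometrically irreducible Galois covering of the line dominating a given one

For a field extension `F / L(t)`, finite separable with `t` transcendental over `L`, we produce a
monic polynomial `g ∈ L̄[x][y]`, irreducible, all of whose roots are rational functions of one of
them, together with expressions for given elements of `F` as rational functions on `g = 0`.
-/

set_option autoImplicit false

universe u

namespace Groth.Agent.LangWeil25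

open Polynomial IntermediateField

/-- An element of `K₁(β)` is a fraction `U(x, β) / d(x)`. -/
theorem exists_num {R : Type u} [CommRing R] [IsDomain R] {K₁ : Type u} [Field K₁] [Algebra R K₁]
    [IsFractionRing R K₁] {Ω : Type u} [Field Ω] [Algebra R Ω] [Algebra K₁ Ω] [IsScalarTower R K₁ Ω]
    {β z : Ω} (hβ : IsAlgebraic K₁ β) (hz : z ∈ K₁⟮β⟯) :
    ∃ (d : R) (U : R[X]), d ≠ 0 ∧ z * algebraMap R Ω d = aeval β U := by
  have hz' : z ∈ K₁⟮β⟯.toSubalgebra := hz
  rw [adjoin_simple_toSubalgebra_of_isAlgebraic hβ, Algebra.adjoin_singleton_eq_range_aeval] at hz'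
  obtain ⟨q, rfl⟩ := hz'
  obtain ⟨⟨b, hb⟩, hq⟩ := IsLocalization.integerNormalization_map_to_map (nonZeroDivisors R) q
  refine ⟨b, IsLocalization.integerNormalization (nonZeroDivisors R) q, nonZeroDivisors.ne_zero hb, ?_⟩
  have h := congrArg (aeval β) hq
  rw [aeval_map_algebraMap] at h
  rw [h]
  simp [Submonoid.smul_def, Algebra.smul_def, mul_comm, IsScalarTower.algebraMap_apply R K₁ Ω]

/-- A common denominator. -/
theorem exists_num_common {R : Type u} [CommRing R] [IsDomain R] {K₁ : Type u} [Field K₁]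
    [Algebra R K₁] [IsFractionRing R K₁] {Ω : Type u} [Field Ω] [Algebra R Ω] [Algebra K₁ Ω]
    [IsScalarTower R K₁ Ω] {β : Ω} (hβ : IsAlgebraic K₁ β) (Z : Finset Ω)
    (hZ : ∀ z ∈ Z, z ∈ K₁⟮β⟯) :
    ∃ d : R, d ≠ 0 ∧ ∀ z ∈ Z, ∃ U : R[X], z * algebraMap R Ω d = aeval β U := by
  classical
  choose! d U hd hU using fun z (hz : z ∈ Z) => exists_num (R := R) (K₁ := K₁) hβ (hZ z hz)
  refine ⟨∏ z ∈ Z, d z, Finset.prod_ne_zero_iff.mpr hd, fun z hz =>
    ⟨C (∏ w ∈ Z.erase z, d w) * U z, ?_⟩⟩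
  rw [← Finset.mul_prod_erase _ _ hz, map_mul, map_mul, aeval_C, ← hU z hz]
  ring

/-- A primitive element of a splitting field, integral over `R`. -/
theorem exists_beta {R : Type u} [CommRing R] [IsDomain R] {K₁ : Type u} [Field K₁] [Algebra R K₁]
    [IsFractionRing R K₁] {Ω : Type u} [Field Ω] [IsAlgClosed Ω] [Algebra R Ω] [Algebra K₁ Ω]
    [IsScalarTower R K₁ Ω] (W : Finset K₁[X]) (hW : ∀ q ∈ W, q.Separable) :
    ∃ β : Ω, IsIntegral R β ∧ IsSeparable K₁ β ∧
      (∀ q ∈ W, ∀ z : Ω, aeval z q = 0 → z ∈ K₁⟮β⟯) ∧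
      ∀ z : Ω, aeval z (minpoly K₁ β) = 0 → z ∈ K₁⟮β⟯ := by
  classical
  set R0 : Finset Ω := W.biUnion fun q => (q.aroots Ω).toFinset with hR0
  have hmem : ∀ z, z ∈ R0 ↔ ∃ q ∈ W, aeval z q = 0 := fun z => by
    simp only [hR0, Finset.mem_biUnion, Multiset.mem_toFinset, mem_aroots]
    exact ⟨fun ⟨q, hq, h⟩ => ⟨q, hq, h.2⟩, fun ⟨q, hq, h⟩ => ⟨q, hq, (hW q hq).ne_zero, h⟩⟩
  have hR0sep : ∀ z ∈ (R0 : Set Ω), IsSeparable K₁ z := fun z hz => by
    obtain ⟨q, hq, h⟩ := (hmem z).mp hz
    exact (hW q hq).of_dvd (minpoly.dvd K₁ z h)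
  set E : IntermediateField K₁ Ω := adjoin K₁ (R0 : Set Ω) with hE
  haveI : FiniteDimensional K₁ E :=
    finiteDimensional_adjoin fun z hz => (hR0sep z hz).isIntegral
  haveI : Algebra.IsSeparable K₁ E :=
    (IntermediateField.isSeparable_adjoin_iff_isSeparable K₁ Ω).mpr hR0sep
  obtain ⟨α, hα⟩ := Field.exists_primitive_element K₁ E
  have hEα : E = K₁⟮(α : Ω)⟯ := by rw [← lift_adjoin_simple, hα, lift_top]
  have hαsep : IsSeparable K₁ (α : Ω) :=
    IsSeparable.map E.val Subtype.val_injective (Algebra.IsSeparable.isSeparable K₁ α)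
  obtain ⟨⟨d, hd⟩, hβint⟩ := IsIntegral.exists_multiple_integral_of_isLocalization
    (nonZeroDivisors R) (Rₘ := K₁) (α : Ω) hαsep.isIntegral
  have hd0 : algebraMap R K₁ d ≠ 0 := by
    rw [Ne, map_eq_zero_iff _ (IsFractionRing.injective R K₁)]
    exact nonZeroDivisors.ne_zero hd
  obtain ⟨β, hβeq⟩ : ∃ b : Ω, b = algebraMap K₁ Ω (algebraMap R K₁ d) * (α : Ω) := ⟨_, rfl⟩
  replace hβint : IsIntegral R β := by
    rw [hβeq, ← IsScalarTower.algebraMap_apply R K₁ Ω, ← Algebra.smul_def]
    exact hβint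
  have hEβ : E = K₁⟮β⟯ := by
    rw [hEα]
    refine le_antisymm ?_ ?_ <;> rw [adjoin_simple_le_iff]
    · have : (α : Ω) = (algebraMap K₁ Ω (algebraMap R K₁ d))⁻¹ * β := by
        rw [hβeq, inv_mul_cancel_left₀ (by simpa using hd0)]
      rw [this]
      exact mul_mem (inv_mem (IntermediateField.algebraMap_mem _ _)) (mem_adjoin_simple_self K₁ β)
    · rw [hβeq]
      exact mul_mem (IntermediateField.algebraMap_mem _ _) (mem_adjoin_simple_self K₁ _)
  have hβmem : β ∈ E := by rw [hEβ]; exact mem_adjoin_simple_self K₁ β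
  have hsB := IsSeparable.map (x := (⟨β, hβmem⟩ : E)) E.val Subtype.val_injective
    (Algebra.IsSeparable.isSeparable K₁ (⟨β, hβmem⟩ : E))
  rw [IntermediateField.coe_val] at hsB
  refine ⟨β, hβint, hsB, fun q hq z hz => ?_, fun z hz => ?_⟩
  · rw [← hEβ]; exact subset_adjoin K₁ _ ((hmem z).mpr ⟨q, hq, hz⟩)
  have hβalg : IsIntegral K₁ β := hβint.tower_top
  let σ : K₁⟮β⟯ →ₐ[K₁] Ω := (algHomAdjoinIntegralEquiv K₁ hβalg).symm
    ⟨z, mem_aroots.mpr ⟨minpoly.ne_zero hβalg, hz⟩⟩
  have hσ : σ (AdjoinSimple.gen K₁ β) = z := algHomAdjoinIntegralEquiv_symm_apply_gen _ _ _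
  let σ' : E →ₐ[K₁] Ω := σ.comp (IntermediateField.equivOfEq hEβ).toAlgHom
  have key : ∀ y ∈ adjoin K₁ (R0 : Set Ω), ∀ hy' : y ∈ E, σ' ⟨y, hy'⟩ ∈ E := by
    intro y hy
    induction hy using adjoin_induction with
    | mem x hx =>
      intro hy'
      obtain ⟨q, hq, hx'⟩ := (hmem x).mp hx
      refine subset_adjoin K₁ _ ((hmem _).mpr ⟨q, hq, ?_⟩)
      have : aeval (⟨x, hy'⟩ : E) q = 0 := Subtype.val_injective
        ((aeval_algHom_apply E.val (⟨x, hy'⟩ : E) q).symm.trans (hx'.trans (map_zero E.val).symm))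
      rw [aeval_algHom_apply, this, map_zero]
    | algebraMap r =>
      intro hy'
      rw [show (⟨algebraMap K₁ Ω r, hy'⟩ : E) = algebraMap K₁ E r from rfl, σ'.commutes]
      exact IntermediateField.algebraMap_mem _ r
    | add a b ha hb iha ihb =>
      intro hy'
      rw [show (⟨a + b, hy'⟩ : E) = ⟨a, ha⟩ + ⟨b, hb⟩ from rfl, map_add]
      exact add_mem (iha ha) (ihb hb)
    | inv a ha iha =>
      intro hy'
      rw [show (⟨a⁻¹, hy'⟩ : E) = (⟨a, ha⟩ : E)⁻¹ from rfl, map_inv₀]
      exact inv_mem (iha ha)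
    | mul a b ha hb iha ihb =>
      intro hy'
      rw [show (⟨a * b, hy'⟩ : E) = ⟨a, ha⟩ * ⟨b, hb⟩ from rfl, map_mul]
      exact mul_mem (iha ha) (ihb hb)
  have h := key β hβmem hβmem
  rw [← hEβ, ← hσ]
  exact h

variable {L F : Type u} [Field L] [Field F] [Algebra L F]

theorem exists_cover (t : F) (htr : Transcendental L t)
    (hsepF : ∀ z : F, IsSeparable L⟮t⟯ z) (us : Finset F) :
    ∃ (Ω : Type u) (_ : Field Ω) (τ : (AlgebraicClosure L)[X] →+* Ω) (β : Ω) (ι : F →+* Ω)
      (g : (AlgebraicClosure L)[X][X]) (δ : (AlgebraicClosure L)[X])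
      (P : Fin g.natDegree → (AlgebraicClosure L)[X][X]) (i₀ : Fin g.natDegree)
      (U : F → (AlgebraicClosure L)[X][X]),
      g.Monic ∧ Irreducible g ∧ (∀ p, p.eval₂ τ β = 0 ↔ g ∣ p) ∧ derivative g ≠ 0 ∧ δ ≠ 0 ∧
      Function.Injective τ ∧
      C (τ δ ^ g.natDegree) * g.map τ = ∏ i, (C (τ δ) * X - C ((P i).eval₂ τ β)) ∧
      P i₀ = C δ * X ∧
      (∀ x, ι (algebraMap L F x) = τ (C (algebraMap L (AlgebraicClosure L) x))) ∧ ι t = τ X ∧
      ∀ w ∈ us, ι w * τ δ = (U w).eval₂ τ β := by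
  classical
  set KK := AlgebraicClosure L with hKK
  let L1 := FractionRing L[X]
  have hinjt : Function.Injective (aeval t : L[X] →ₐ[L] F) := transcendental_iff_injective.mp htr
  let jF : L1 →ₐ[L] F := IsFractionRing.liftAlgHom hinjt
  have hjF : ∀ p : L[X], jF (algebraMap L[X] L1 p) = aeval t p := fun p => by
    simp [jF, IsFractionRing.liftAlgHom_apply]
  letI : Algebra L1 F := jF.toRingHom.toAlgebra
  let Ω := AlgebraicClosure (FractionRing KK[X])
  let τ : KK[X] →+* Ω := algebraMap KK[X] Ω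
  have hτ : Function.Injective τ := by
    rw [show τ = (algebraMap (FractionRing KK[X]) Ω).comp (algebraMap KK[X] (FractionRing KK[X]))
      from IsScalarTower.algebraMap_eq KK[X] (FractionRing KK[X]) Ω, RingHom.coe_comp]
    exact (algebraMap (FractionRing KK[X]) Ω).injective.comp
      (IsFractionRing.injective KK[X] (FractionRing KK[X]))
  letI : Algebra L[X] Ω := (τ.comp (mapRingHom (algebraMap L KK))).toAlgebra
  have hLinj : Function.Injective (algebraMap L[X] Ω) :=
    hτ.comp (Polynomial.map_injective _ (algebraMap L KK).injective)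
  letI : Algebra L1 Ω := (IsFractionRing.lift hLinj).toAlgebra
  haveI : IsScalarTower L[X] L1 Ω := IsScalarTower.of_algebraMap_eq fun p =>
    (IsFractionRing.lift_algebraMap hLinj p).symm
  -- `F` is separable over `L(t)`
  have hle : L⟮t⟯ ≤ jF.fieldRange := by
    rw [adjoin_le_iff, Set.singleton_subset_iff, SetLike.mem_coe]
    exact ⟨algebraMap L[X] L1 X, by simp [hjF]⟩
  have hsep1 : ∀ z : F, IsSeparable L1 z := by
    intro z
    have h0 := hsepF z
    have hlifts : (minpoly L⟮t⟯ z).map (algebraMap L⟮t⟯ F) ∈ Polynomial.lifts (algebraMap L1 F) := by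
      rw [lifts_iff_coeff_lifts]
      intro n
      rw [coeff_map]
      exact hle ((minpoly L⟮t⟯ z).coeff n).2
    obtain ⟨p, hp⟩ := mem_lifts _ |>.mp hlifts
    have hps : p.Separable := by
      rw [← separable_map (algebraMap L1 F), hp]
      exact Separable.map h0
    refine hps.of_dvd (minpoly.dvd L1 z ?_)
    rw [aeval_def, ← eval_map, hp, eval_map, ← aeval_def, minpoly.aeval]
  haveI : Algebra.IsSeparable L1 F := ⟨hsep1⟩
  let ι1 : F →ₐ[L1] Ω := IsAlgClosed.lift
  obtain ⟨β, hβint, hβsep, hW, hconj⟩ := exists_beta (R := L[X]) (K₁ := L1) (Ω := Ω)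
    ((insert t us).image fun w => minpoly L1 w)
    (fun q hq => by obtain ⟨w, -, rfl⟩ := Finset.mem_image.mp hq; exact hsep1 w)
  have hβalg : IsAlgebraic L1 β := hβsep.isIntegral.isAlgebraic
  haveI : FaithfulSMul KK[X] Ω := (faithfulSMul_iff_algebraMap_injective _ _).mpr hτ
  haveI : FaithfulSMul L[X] Ω := (faithfulSMul_iff_algebraMap_injective _ _).mpr hLinj
  -- the geometric factor
  have hintKK : IsIntegral KK[X] β := by
    obtain ⟨q, hq, hq0⟩ := hβint
    refine ⟨q.map (mapRingHom (algebraMap L KK)), hq.map _, ?_⟩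
    rw [eval₂_map]; exact hq0
  set g := minpoly KK[X] β with hg
  have hgm : g.Monic := minpoly.monic hintKK
  have hgdvd : ∀ p, p.eval₂ τ β = 0 ↔ g ∣ p := fun p =>
    ⟨fun h => minpoly.isIntegrallyClosed_dvd hintKK h,
      fun ⟨q, hq⟩ => by rw [hq, eval₂_mul]; exact mul_eq_zero_of_left (minpoly.aeval KK[X] β) _⟩
  set f := minpoly L[X] β with hf
  have hf1 : minpoly L1 β = f.map (algebraMap L[X] L1) :=
    minpoly.isIntegrallyClosed_eq_field_fractions' L1 hβint
  have hgf : g.map τ ∣ (minpoly L1 β).map (algebraMap L1 Ω) := by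
    rw [hf1, Polynomial.map_map, ← IsScalarTower.algebraMap_eq]
    rw [show algebraMap L[X] Ω = τ.comp (mapRingHom (algebraMap L KK)) from rfl, ← Polynomial.map_map]
    refine Polynomial.map_dvd τ ((hgdvd _).mp ?_)
    rw [eval₂_map]
    exact minpoly.aeval L[X] β
  have hgsep : (g.map τ).Separable := (Separable.map hβsep).of_dvd hgf
  have hder : derivative g ≠ 0 := by
    intro h0
    have h := hgsep.eval₂_derivative_ne_zero (RingHom.id Ω) (x := β) (by
      rw [eval₂_id, eval_map]; exact minpoly.aeval KK[X] β)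
    exact h (by rw [derivative_map, h0, Polynomial.map_zero, eval₂_zero])
  have hroot : ∀ z ∈ (g.map τ).roots, z ∈ L1⟮β⟯ := by
    intro z hz
    rw [mem_roots (hgm.map τ).ne_zero] at hz
    refine hconj z ?_
    obtain ⟨q, hq⟩ := hgf
    rw [aeval_def, ← eval_map, hq, eval_mul, hz.eq_zero, zero_mul]
  have hι : ∀ w ∈ insert t us, ι1 w ∈ L1⟮β⟯ := fun w hw =>
    hW _ (Finset.mem_image_of_mem _ hw) _ (by rw [aeval_algHom_apply, minpoly.aeval, map_zero])
  -- numerators
  set Zs : Finset Ω := (g.map τ).roots.toFinset ∪ us.image ι1 with hZs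
  obtain ⟨δ0, hδ0, hU⟩ := exists_num_common (R := L[X]) hβalg Zs (fun z hz => by
    rcases Finset.mem_union.mp hz with h | h
    · exact hroot z (Multiset.mem_toFinset.mp h)
    · obtain ⟨w, hw, rfl⟩ := Finset.mem_image.mp h
      exact hι w (Finset.mem_insert_of_mem hw))
  choose! U hU using hU
  let m : L[X] →+* KK[X] := mapRingHom (algebraMap L KK)
  have hev : ∀ V : L[X][X], (V.map m).eval₂ τ β = aeval β V := fun V => by rw [eval₂_map]; rfl
  set δ := m δ0 with hδ
  have hnd : (g.map τ).roots.Nodup := nodup_roots hgsep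
  have hspl : (g.map τ).Splits := IsAlgClosed.splits _
  have hcard : Fintype.card {z // z ∈ (g.map τ).roots.toFinset} = g.natDegree := by
    rw [Fintype.card_coe, Multiset.toFinset_card_of_nodup hnd, ← hspl.natDegree_eq_card_roots,
      hgm.natDegree_map]
  let e := (Fintype.equivFinOfCardEq hcard).symm
  have hβroot : β ∈ (g.map τ).roots.toFinset := by
    rw [Multiset.mem_toFinset, mem_roots (hgm.map τ).ne_zero, IsRoot, eval_map]
    exact minpoly.aeval KK[X] β
  set i₀ := e.symm ⟨β, hβroot⟩ with hi₀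
  refine ⟨Ω, inferInstance, τ, β, ι1.toRingHom, g, δ,
    fun i => if i = i₀ then C δ * X else (U (e i).1).map m, i₀, fun w => (U (ι1 w)).map m,
    hgm, minpoly.irreducible hintKK, hgdvd, hder, ?_, hτ, ?_, if_pos rfl, ?_, ?_, ?_⟩
  · exact fun h => hδ0 (Polynomial.map_injective _ (algebraMap L KK).injective (by
      rw [Polynomial.map_zero]; exact h))
  · have hP : ∀ i, (if i = i₀ then C δ * X else (U (e i).1).map m).eval₂ τ β = τ δ * (e i).1 := by
      intro i
      split_ifs with h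
      · rw [eval₂_mul, eval₂_C, eval₂_X, h, hi₀, Equiv.apply_symm_apply]
      · rw [hev, ← hU _ (Finset.mem_union_left _ (e i).2), mul_comm]
        rfl
    rw [Finset.prod_congr rfl fun i _ => by rw [hP i]]
    rw [Finset.prod_congr rfl (g := fun i => C (τ δ) * (X - C (e i).1)) fun i _ => by
      rw [map_mul]; ring, Finset.prod_mul_distrib, Finset.prod_const, Finset.card_univ,
      Fintype.card_fin, ← C_pow]
    have hprod : g.map τ = ∏ i, (X - C ((e i).1 : Ω)) := by
      have h1 : ∏ i, (X - C ((e i).1 : Ω)) = ∏ z : {z // z ∈ (g.map τ).roots.toFinset}, (X - C z.1) :=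
        Fintype.prod_equiv e _ _ fun i => rfl
      rw [h1, Finset.univ_eq_attach, Finset.prod_attach _ (fun z => X - C z),
        Finset.prod_eq_multiset_prod, Multiset.toFinset_val, Multiset.dedup_eq_self.mpr hnd]
      exact hspl.eq_prod_roots_of_monic (hgm.map τ)
    exact congrArg (fun q => C (τ δ ^ g.natDegree) * q) hprod
  · intro x
    have : algebraMap L F x = algebraMap L1 F (algebraMap L[X] L1 (C x)) := by
      change _ = jF _
      rw [hjF, aeval_C]
    rw [this]
    change ι1 (algebraMap L1 F _) = _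
    rw [ι1.commutes, ← IsScalarTower.algebraMap_apply]
    simp [RingHom.algebraMap_toAlgebra]
    rfl
  · have : t = algebraMap L1 F (algebraMap L[X] L1 X) := by
      change t = jF _
      rw [hjF, aeval_X]
    rw [this]
    change ι1 (algebraMap L1 F _) = _
    rw [ι1.commutes, ← IsScalarTower.algebraMap_apply]
    simp [RingHom.algebraMap_toAlgebra]
  · intro w hw
    rw [hev, ← hU _ (Finset.mem_union_right _ (Finset.mem_image_of_mem _ hw))]
    rfl

end Groth.Agent.LangWeil25
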