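import Groth.Agent.Lib.LangWeil25.Count
import Mathlib.FieldTheory.IsAlgClosed.AlgebraicClosure

/-!
# Points on a specialisation of a Galois covering of the line
-/

set_option autoImplicit false

universe u v

namespace Groth.Agent.LangWeil25

open Polynomial

theorem mk_mem_Fl {K : Type u} [Field K] {g : K[X][X]} {c : ℕ} (hg : g.Monic) (hc : WBound g c)
    {p : K[X][X]} {e : ℕ} (h : ∀ n, p.coeff n ≠ 0 → (p.coeff n).natDegree + c * n ≤ e) :
    AdjoinRoot.mk g p ∈ Fl g c e := by
  rw [p.as_sum_range_C_mul_X_pow, map_sum]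
  refine Submodule.sum_mem _ fun n _ => ?_
  rw [map_mul, map_pow, AdjoinRoot.mk_X, AdjoinRoot.mk_C, ← AdjoinRoot.algebraMap_eq]
  by_cases h0 : p.coeff n = 0
  · simp [h0]
  · refine Fl_mono g c ?_ (Fl_mul_mem hg hc (algebraMap_mem hg hc le_rfl) (Fl_pow_mem' hg hc (py_mem hg hc) n))
    have := h n h0
    rw [mul_comm n c]; exact this

/-- At a specialisation to a finite field with `q` elements, a Galois covering of the line has
`q - O(√q)` rational points. -/
theorem curve_points {R : Type u} [CommRing R] {k : Type v} [Field k] [Finite k] (χ : R →+* k)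
    (g : R[X][X]) (hg : g.Monic) {c e : ℕ}
    (hirr : ∀ (L : Type v) [Field L] (φ : R →+* L),
      WBound (g.map (mapRingHom φ)) c ∧ Irreducible (g.map (mapRingHom φ)))
    (hsep : ∃ n j, IsUnit (((derivative g).coeff n).coeff j))
    (δ : R[X]) (hδ : IsUnit δ.leadingCoeff) (hδe : δ.natDegree ≤ e)
    (P : Fin g.natDegree → R[X][X])
    (hP : ∀ i n, (P i).coeff n ≠ 0 → ((P i).coeff n).natDegree + c * n ≤ e)
    (hroots : C (AdjoinRoot.of g δ ^ g.natDegree) * g.map (AdjoinRoot.of g) =
      ∏ i, (C (AdjoinRoot.of g δ) * X - C (AdjoinRoot.mk g (P i))))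
    (i₀ : Fin g.natDegree) (hi₀ : AdjoinRoot.mk g (P i₀) = AdjoinRoot.of g δ * AdjoinRoot.root g) :
    Nat.card k ≤ Nat.card {z : k × k //
        δ.eval₂ χ z.1 ≠ 0 ∧ g.eval₂ (eval₂RingHom χ z.1) z.2 = 0} +
      lowC c g.natDegree e * (Nat.sqrt (Nat.card k) + 2) := by
  classical
  cases nonempty_fintype k
  obtain ⟨p, hp⟩ := CharP.exists k
  haveI := hp
  obtain ⟨n, hprime, hcard⟩ := FiniteField.card k p
  haveI : Fact p.Prime := ⟨hprime⟩
  set K := AlgebraicClosure k
  haveI : CharP K p := charP_of_injective_algebraMap (algebraMap k K).injective p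
  set Q := Nat.card k with hQdef
  have hQ : Q = p ^ (n : ℕ) := by rw [hQdef, Nat.card_eq_fintype_card, hcard]
  have hQ1 : 1 < Q := by rw [hQ]; exact Nat.one_lt_pow n.ne_zero hprime.one_lt
  set χK : R →+* K := (algebraMap k K).comp χ with hχK
  set gK := g.map (mapRingHom χK) with hgK
  obtain ⟨hcK, hirrK⟩ := hirr K χK
  have hgm : gK.Monic := hg.map _
  have hdeg : gK.natDegree = g.natDegree := hg.natDegree_map _
  haveI : IsDomain (AdjoinRoot gK) :=
    AdjoinRoot.isDomain_of_prime hirrK.prime
  let θ : AdjoinRoot g →+* AdjoinRoot gK :=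
    AdjoinRoot.lift ((AdjoinRoot.of gK).comp (mapRingHom χK)) (AdjoinRoot.root gK) (by
      rw [← eval₂_map]; exact AdjoinRoot.eval₂_root gK)
  have hθmk : ∀ q : R[X][X], θ (AdjoinRoot.mk g q) = AdjoinRoot.mk gK (q.map (mapRingHom χK)) := by
    intro q
    rw [AdjoinRoot.lift_mk, ← eval₂_map, ← AdjoinRoot.algebraMap_eq, ← aeval_def,
      AdjoinRoot.aeval_eq]
  have hθof : ∀ q : R[X], θ (AdjoinRoot.of g q) = AdjoinRoot.of gK (q.map χK) := fun q => by
    rw [AdjoinRoot.lift_of]; rfl
  have hsepK : GG gK ≠ 0 := by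
    obtain ⟨m, j, hu⟩ := hsep
    intro h0
    rw [GG, hgK, derivative_map, ← hgK] at h0
    have hne : (derivative g).map (mapRingHom χK) ≠ 0 := fun h => by
      have := congrArg (fun q => (Polynomial.coeff q m).coeff j) h
      simp only [coeff_map, coe_mapRingHom, coeff_zero] at this
      exact (hu.map χK).ne_zero this
    refine hgm.not_dvd_of_natDegree_lt hne ?_ (AdjoinRoot.mk_eq_zero.mp h0)
    rw [hdeg]
    refine lt_of_le_of_lt (natDegree_map_le.trans (natDegree_derivative_le g)) ?_
    have := i₀.2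
    omega
  have hδK : δ.map χK ≠ 0 := fun h => by
    have := congrArg (fun q => Polynomial.coeff q δ.natDegree) h
    rw [coeff_map, coeff_zero] at this
    exact (hδ.map χK).ne_zero this
  have hgQ : ∀ i j, ((gK.coeff i).coeff j) ^ Q = (gK.coeff i).coeff j := fun i j => by
    simp only [gK, coeff_map, coe_mapRingHom, χK, RingHom.comp_apply]
    rw [hQdef, Nat.card_eq_fintype_card, ← map_pow, FiniteField.pow_card]
  let e' : Fin gK.natDegree ≃ Fin g.natDegree := finCongr hdeg
  obtain ⟨S, hS, hlow⟩ := card_points_ge hgm hcK hsepK hδK (natDegree_map_le.trans hδe)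
    (fun i => AdjoinRoot.mk gK ((P (e' i)).map (mapRingHom χK)))
    (fun i => mk_mem_Fl hgm hcK fun m hm => by
      rw [coeff_map, coe_mapRingHom] at hm ⊢
      have h1 : ((P (e' i)).coeff m).natDegree + c * m ≤ e := hP (e' i) m fun h => hm (by rw [h, Polynomial.map_zero])
      have := natDegree_map_le (f := χK) (p := (P (e' i)).coeff m)
      omega)
    (by
      have h := congrArg (Polynomial.map θ) hroots
      rw [Polynomial.map_mul, Polynomial.map_prod, Polynomial.map_C, map_pow, hθof, Polynomial.map_map] at h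
      have h2 : θ.comp (AdjoinRoot.of g) = (AdjoinRoot.of gK).comp (mapRingHom χK) :=
        RingHom.ext fun q => hθof q
      rw [h2] at h
      rw [AdjoinRoot.algebraMap_eq, show AdjoinRoot.of gK (δ.map χK) ^ gK.natDegree =
        AdjoinRoot.of gK (δ.map χK) ^ g.natDegree from congrArg _ hdeg]
      rw [show gK.map (AdjoinRoot.of gK) = g.map ((AdjoinRoot.of gK).comp (mapRingHom χK)) from
        Polynomial.map_map _ _ g, h]
      refine (Fintype.prod_equiv e' _ _ fun i => ?_).symm
      rw [Polynomial.map_sub, Polynomial.map_mul, Polynomial.map_C, Polynomial.map_X, Polynomial.map_C,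
        hθof, hθmk])
    (e'.symm i₀) (by
      rw [e'.apply_symm_apply, ← hθmk, hi₀, map_mul, hθof, AdjoinRoot.algebraMap_eq]
      exact congrArg _ (AdjoinRoot.lift_root _))
    p n Q hQ hQ1 hgQ
  rw [hdeg] at hlow
  refine hlow.trans (Nat.add_le_add_right ?_ _)
  -- the points are rational
  have hrange : ∀ x : K, x ^ Q = x → ∃ y : k, algebraMap k K y = x := by
    intro x hx
    by_contra hne
    push Not at hne
    set im := (Finset.univ : Finset k).map ⟨algebraMap k K, (algebraMap k K).injective⟩ with him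
    have h1 : insert x im ⊆ (X ^ Q - X : K[X]).roots.toFinset := by
      intro y hy
      rw [Multiset.mem_toFinset, mem_roots (FiniteField.X_pow_card_sub_X_ne_zero K hQ1), IsRoot,
        eval_sub, eval_pow, eval_X, sub_eq_zero]
      rcases Finset.mem_insert.mp hy with rfl | hy
      · exact hx
      · obtain ⟨w, -, rfl⟩ := Finset.mem_map.mp hy
        simp only [Function.Embedding.coeFn_mk]
        rw [← map_pow, hQdef, Nat.card_eq_fintype_card, FiniteField.pow_card]
    have h2 := (Finset.card_le_card h1).trans ((Multiset.toFinset_card_le _).trans (card_roots' _))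
    rw [FiniteField.X_pow_card_sub_X_natDegree_eq K hQ1, Finset.card_insert_of_notMem (by
      intro h; obtain ⟨w, -, hw⟩ := Finset.mem_map.mp h; exact hne w hw), Finset.card_map,
      Finset.card_univ, hQdef, Nat.card_eq_fintype_card] at h2
    omega
  rw [Nat.card_eq_fintype_card, ← Fintype.card_coe]
  have hex : ∀ z : S, ∃ w : {z : k × k // δ.eval₂ χ z.1 ≠ 0 ∧ g.eval₂ (eval₂RingHom χ z.1) z.2 = 0},
      (algebraMap k K w.1.1, algebraMap k K w.1.2) = (z : K × K) := by
    rintro ⟨z, hz⟩
    obtain ⟨h1, h2, h3, h4⟩ := hS z hz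
    obtain ⟨a, ha⟩ := hrange _ h1
    obtain ⟨b, hb⟩ := hrange _ h2
    refine ⟨⟨(a, b), fun h => h3 ?_, (algebraMap k K).injective ?_⟩, Prod.ext ha hb⟩
    · have := congrArg (algebraMap k K) h
      rw [map_zero, hom_eval₂, ← hχK, ha] at this
      rw [eval_map]; exact this
    · rw [map_zero, hom_eval₂, hb]
      unfold OnCurve at h4
      rw [hgK, eval₂_map] at h4
      refine Eq.trans ?_ h4
      congr 1
      refine Polynomial.ringHom_ext (fun r => ?_) ?_
      · simp [hχK]
      · simp [ha]
  choose w hw using hex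
  exact Fintype.card_le_of_injective w fun z z' h => Subtype.ext (by rw [← hw z, ← hw z', h])

end Groth.Agent.LangWeil25
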