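import Groth.Agent.Lib.LangWeil25.Stepanov
import Mathlib.FieldTheory.Finite.GaloisField

/-!
# The lower bound for the rational points of a Galois covering of the line
-/

set_option autoImplicit false

universe u

namespace Groth.Agent.LangWeil25

open Polynomial

variable {K : Type u} [Field K] [IsAlgClosed K] {g : K[X][X]} {c : ℕ}

/-- The constant of the lower bound. -/
def lowC (c D e : ℕ) : ℕ := D * stepC c D e + D * (e + c * D * D)

/-- If all roots of `g` are the algebraic functions `P i / δ`, one of them `y` itself, and `g` has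
coefficients fixed by the `Q`-th power map, then `g = 0` has `Q - O(√Q)` rational points. -/
theorem card_points_ge (hg : g.Monic) (hc : WBound g c) [IsDomain (AdjoinRoot g)]
    (hsep : GG g ≠ 0) {e : ℕ} {δ : K[X]} (hδ0 : δ ≠ 0) (hδ : δ.natDegree ≤ e)
    (P : Fin g.natDegree → AdjoinRoot g) (hP : ∀ i, P i ∈ Fl g c e)
    (hroots : Polynomial.C (algebraMap K[X] (AdjoinRoot g) δ ^ g.natDegree) *
        g.map (AdjoinRoot.of g) =
      ∏ i, (Polynomial.C (algebraMap K[X] (AdjoinRoot g) δ) * X - Polynomial.C (P i)))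
    (i₀ : Fin g.natDegree) (hi₀ : P i₀ = algebraMap K[X] (AdjoinRoot g) δ * py g)
    (p n Q : ℕ) [Fact p.Prime] [CharP K p] (hQ : Q = p ^ n) (hQ1 : 1 < Q)
    (hgQ : ∀ i j, ((g.coeff i).coeff j) ^ Q = (g.coeff i).coeff j) :
    ∃ S : Finset (K × K), (∀ z ∈ S, z.1 ^ Q = z.1 ∧ z.2 ^ Q = z.2 ∧ δ.eval z.1 ≠ 0 ∧
        OnCurve g z.1 z.2) ∧ Q ≤ S.card + lowC c g.natDegree e * (Nat.sqrt Q + 2) := by
  classical
  let D := g.natDegree
  have hD : D = g.natDegree := rfl
  haveI : ExpChar K p := ExpChar.prime Fact.out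
  set φ : K →+* K := iterateFrobenius K p n with hφ
  have hφa : ∀ x : K, φ x = x ^ Q := fun x => by rw [hQ]; exact iterateFrobenius_def ..
  set N := Algebra.norm K[X] (GG g) with hN
  have hN0 : N ≠ 0 := norm_ne_zero hg hsep
  set R := (X ^ Q - X : K[X]).roots with hR
  have hRnd : R.Nodup := nodup_roots (galois_poly_separable p Q (hQ ▸ dvd_pow_self p (by
    rintro rfl; simp [hQ] at hQ1)))
  have hRcard : R.toFinset.card = Q := by
    rw [Multiset.toFinset_card_of_nodup hRnd, hR, IsAlgClosed.card_roots_eq_natDegree,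
      FiniteField.X_pow_card_sub_X_natDegree_eq K hQ1]
  have hRmem : ∀ a ∈ R.toFinset, a ^ Q = a := fun a ha => by
    rw [Multiset.mem_toFinset, hR, mem_roots (FiniteField.X_pow_card_sub_X_ne_zero K hQ1), IsRoot,
      eval_sub, eval_pow, eval_X, sub_eq_zero] at ha
    exact ha
  set Good := R.toFinset.filter (fun a => N.eval a ≠ 0 ∧ δ.eval a ≠ 0) with hGood
  have hgood : Q ≤ Good.card + (e + c * D * D) := by
    have h1 : R.toFinset ⊆ Good ∪ (N.roots.toFinset ∪ δ.roots.toFinset) := fun a ha => by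
      by_cases h : N.eval a ≠ 0 ∧ δ.eval a ≠ 0
      · exact Finset.mem_union_left _ (Finset.mem_filter.mpr ⟨ha, h⟩)
      · refine Finset.mem_union_right _ ?_
        rw [not_and_or, not_not, not_not] at h
        rcases h with h | h
        · exact Finset.mem_union_left _ (Multiset.mem_toFinset.mpr ((mem_roots hN0).mpr h))
        · exact Finset.mem_union_right _ (Multiset.mem_toFinset.mpr ((mem_roots hδ0).mpr h))
    have h2 := Finset.card_le_card h1
    rw [hRcard] at h2
    have h3 := Finset.card_union_le Good (N.roots.toFinset ∪ δ.roots.toFinset)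
    have h4 := Finset.card_union_le N.roots.toFinset δ.roots.toFinset
    have h5 := (Multiset.toFinset_card_le N.roots).trans (card_roots' N)
    have h6 := (Multiset.toFinset_card_le δ.roots).trans ((card_roots' δ).trans hδ)
    have h7 : N.natDegree ≤ c * D * D := by
      refine le_trans (natDegree_norm_le hg hc (GG_mem hg hc)) (le_of_eq ?_)
      simp only [ee, hD]; ring
    omega
  let All : Finset (K × K) := Good.biUnion fun a =>
    ((g.map (evalRingHom a)).roots.toFinset).image fun b => (a, b)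
  have hAll : ∀ z ∈ All, z.1 ^ Q = z.1 ∧ N.eval z.1 ≠ 0 ∧ δ.eval z.1 ≠ 0 ∧ OnCurve g z.1 z.2 := by
    intro z hz
    obtain ⟨a, ha, hz⟩ := Finset.mem_biUnion.mp hz
    obtain ⟨b, hb, rfl⟩ := Finset.mem_image.mp hz
    obtain ⟨haR, hNa, hδa⟩ := Finset.mem_filter.mp ha
    rw [Multiset.mem_toFinset, mem_roots (hg.map _).ne_zero, IsRoot, eval_map] at hb
    exact ⟨hRmem a haR, hNa, hδa, hb⟩
  have hAllcard : Good.card * D ≤ All.card := by
    rw [Finset.card_biUnion]
    · rw [← smul_eq_mul, ← Finset.sum_const]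
      refine Finset.sum_le_sum fun a ha => ?_
      rw [Finset.card_image_of_injective _ (fun b b' h => (Prod.mk.inj h).2)]
      obtain ⟨F⟩ := exists_fibre hg (Finset.mem_filter.mp ha).2.1
      refine le_trans (le_of_eq (by simp [hD])) (Finset.card_le_card_of_injOn (s := (Finset.univ : Finset (Fin g.natDegree))) F.pt
        (fun i _ => ?_) F.inj.injOn)
      rw [Finset.mem_coe, Multiset.mem_toFinset, mem_roots (hg.map _).ne_zero, IsRoot, eval_map]
      exact F.onCurve i
    · intro a _ a' _ hne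
      simp only [Function.onFun, Finset.disjoint_left, Finset.mem_image]
      rintro _ ⟨b, -, rfl⟩ ⟨b', -, h⟩
      exact hne (Prod.mk.inj h).1.symm
  have hcover : ∀ z ∈ All, ∃ i, ∃ h : OnCurve g z.1 z.2, δ.eval z.1 * z.2 ^ Q = evAt h (P i) := by
    intro z hz
    obtain ⟨haQ, -, hδa, h⟩ := hAll z hz
    have hb : g.eval₂ (evalRingHom z.1) (z.2 ^ Q) = 0 := by
      have h1 := congrArg φ h
      rw [map_zero, hom_eval₂, hφa] at h1
      rw [← h1, eval₂_eq_sum, eval₂_eq_sum]
      refine Finset.sum_congr rfl fun i _ => ?_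
      refine congrArg (· * _) ?_
      simp only [RingHom.comp_apply, coe_evalRingHom]
      conv_rhs => rw [eval_eq_sum, Polynomial.sum, map_sum]
      rw [eval_eq_sum, Polynomial.sum]
      refine Finset.sum_congr rfl fun j _ => ?_
      rw [map_mul, map_pow, hφa, hφa, hgQ, haQ]
    have h2 := congrArg (fun q => Polynomial.eval (z.2 ^ Q) (Polynomial.map (evAt h) q)) hroots
    simp only [Polynomial.map_mul, Polynomial.map_prod, Polynomial.map_sub, Polynomial.map_C,
      Polynomial.map_X, Polynomial.map_map, eval_mul, eval_prod, eval_sub, eval_C, eval_X,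
      evAt_algebraMap] at h2
    have h3 : (evAt h).comp (AdjoinRoot.of g) = evalRingHom z.1 :=
      RingHom.ext fun q => by
        rw [RingHom.comp_apply, ← AdjoinRoot.algebraMap_eq, evAt_algebraMap]; rfl
    rw [h3, eval_map, hb, mul_zero] at h2
    obtain ⟨i, -, hi⟩ := Finset.prod_eq_zero_iff.mp h2.symm
    exact ⟨i, h, sub_eq_zero.mp hi⟩
  let Si : Fin D → Finset (K × K) := fun i =>
    All.filter (fun z => ∃ h : OnCurve g z.1 z.2, δ.eval z.1 * z.2 ^ Q = evAt h (P i))
  have hSi : ∀ i, (Si i).card ≤ Q + stepC c D e * (Nat.sqrt Q + 2) := fun i =>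
    stepanov hg hc hδ (hP i) p n Q hQ hQ1 (Si i) fun z hz => by
      obtain ⟨hz1, h, hz2⟩ := Finset.mem_filter.mp hz
      obtain ⟨haQ, hNa, hδa, -⟩ := hAll z hz1
      exact ⟨haQ, h, hNa, hδa, hz2⟩
  have hsum : All.card ≤ (Si i₀).card + (D - 1) * (Q + stepC c D e * (Nat.sqrt Q + 2)) := by
    have h1 : All ⊆ Finset.univ.biUnion Si := fun z hz => by
      obtain ⟨i, h, hi⟩ := hcover z hz
      exact Finset.mem_biUnion.mpr ⟨i, Finset.mem_univ _, Finset.mem_filter.mpr ⟨hz, h, hi⟩⟩
    refine le_trans ((Finset.card_le_card h1).trans Finset.card_biUnion_le) ?_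
    rw [← Finset.add_sum_erase _ _ (Finset.mem_univ i₀)]
    refine Nat.add_le_add_left ((Finset.sum_le_card_nsmul _ _ _ fun i _ => hSi i).trans ?_) _
    rw [Finset.card_erase_of_mem (Finset.mem_univ _), Finset.card_univ, Fintype.card_fin,
      smul_eq_mul]
  refine ⟨Si i₀, fun z hz => ?_, ?_⟩
  · obtain ⟨hz1, h, hz2⟩ := Finset.mem_filter.mp hz
    obtain ⟨haQ, -, hδa, -⟩ := hAll z hz1
    rw [hi₀, map_mul, evAt_algebraMap, evAt_py] at hz2
    exact ⟨haQ, mul_left_cancel₀ hδa hz2, hδa, h⟩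
  · have hD0 : 0 < D := Nat.lt_of_le_of_lt (Nat.zero_le _) i₀.2
    obtain ⟨d, hd⟩ : ∃ d, D = d + 1 := ⟨D - 1, by omega⟩
    rw [show D - 1 = d by omega] at hsum
    have hlow : lowC c D e = D * stepC c D e + D * (e + c * D * D) := rfl
    have h9 : (e + c * D * D) * D ≤ D * (e + c * D * D) * (Nat.sqrt Q + 2) := by
      rw [mul_comm (e + c * D * D)]; exact Nat.le_mul_of_pos_right _ (by omega)
    have h10 : Q * D ≤ (Good.card + (e + c * D * D)) * D := Nat.mul_le_mul_right _ hgood
    have h11 : d * (stepC c D e * (Nat.sqrt Q + 2)) ≤ D * (stepC c D e * (Nat.sqrt Q + 2)) :=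
      Nat.mul_le_mul_right _ (by omega)
    rw [hlow]
    have h12 : Q * D = Q * d + Q := by rw [hd]; ring
    nlinarith

end Groth.Agent.LangWeil25
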