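import Groth.Agent.Lib.FunFldRH25.Model
import Mathlib.FieldTheory.RatFunc.IntermediateField

/-!
# The function field of an absolutely irreducible plane curve
-/

set_option autoImplicit false

namespace Groth.Agent.LangWeil25

open Polynomial FunFld FunField FunFldRH25
open scoped IntermediateField

universe u

/-- The curve `h = 0` has a function field with `(x, z)` as a model; its constants are trivial. -/
theorem exists_planeModel {F : Type u} [Field F] (h : F[X][X]) (hm : h.Monic) (hder : derivative h ≠ 0)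
    (hirr : Irreducible (h.map (mapRingHom (algebraMap F (AlgebraicClosure F))))) :
    ∃ (K : Type u) (_ : Field K) (_ : Algebra F K) (M : Model F K), IsFunctionField F K ∧ M.h₀ = h := by
  classical
  set Fb := AlgebraicClosure F
  have hirr₁ : Irreducible h := hm.isPrimitive.irreducible_of_irreducible_map_of_injective
    (Polynomial.map_injective _ (algebraMap F Fb).injective) hirr
  set L₀ := RatFunc F
  set hL : L₀[X] := h.map (algebraMap F[X] L₀) with hhL
  have hLm : hL.Monic := hm.map _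
  have hLirr : Irreducible hL :=
    (IsPrimitive.irreducible_iff_irreducible_map_fraction_map hm.isPrimitive).1 hirr₁
  haveI : Fact (Irreducible hL) := ⟨hLirr⟩
  let K := AdjoinRoot hL
  set x : K := algebraMap L₀ K RatFunc.X with hx
  set z : K := AdjoinRoot.root hL with hz
  have hev : (aeval x : F[X] →ₐ[F] K).toRingHom = (algebraMap L₀ K).comp (algebraMap F[X] L₀) := by
    refine Polynomial.ringHom_ext (fun a => ?_) ?_
    · simp only [AlgHom.toRingHom_eq_coe, RingHom.coe_coe, aeval_C, RingHom.comp_apply]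
      rw [IsScalarTower.algebraMap_apply F L₀ K, RatFunc.algebraMap_C, RatFunc.algebraMap_eq_C]
    · simp only [AlgHom.toRingHom_eq_coe, RingHom.coe_coe, aeval_X, RingHom.comp_apply, hx]
      exact congrArg (algebraMap L₀ K) RatFunc.algebraMap_X.symm
  have hroot : h.eval₂ (aeval x : F[X] →ₐ[F] K).toRingHom z = 0 := by
    rw [hev, ← eval₂_map, AdjoinRoot.algebraMap_eq]; exact AdjoinRoot.eval₂_root hL
  have hker : ∀ w : F[X][X], w.eval₂ (aeval x : F[X] →ₐ[F] K).toRingHom z = 0 → h ∣ w := fun w hw => by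
    rw [hev, ← eval₂_map, AdjoinRoot.algebraMap_eq, ← AdjoinRoot.algebraMap_eq, ← aeval_def,
      AdjoinRoot.aeval_eq, AdjoinRoot.mk_eq_zero] at hw
    exact (Polynomial.map_dvd_map _ (IsFractionRing.injective F[X] L₀) hm).1 hw
  have hfin : Module.Finite L₀ K := hLm.finite_adjoinRoot
  have htr : Transcendental F x := fun ha =>
    RatFunc.transcendental_X ((isAlgebraic_algebraMap_iff (algebraMap L₀ K).injective).1 ha)
  -- `F(x)` is the image of `RatFunc F`
  let φ : L₀ →ₐ[F] K := IsScalarTower.toAlgHom F L₀ K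
  have hrange : φ.fieldRange = F⟮x⟯ := by
    rw [AlgHom.fieldRange_eq_map, ← RatFunc.adjoin_X, IntermediateField.adjoin_map, Set.image_singleton]
    rfl
  let e : L₀ ≃+* F⟮x⟯ := ((AlgEquiv.ofInjectiveField φ).trans (IntermediateField.equivOfEq hrange)).toRingEquiv
  have he : (algebraMap F⟮x⟯ K).comp e.toRingHom = (RingEquiv.refl K).toRingHom.comp (algebraMap L₀ K) :=
    RingHom.ext fun q => rfl
  have hfr : Module.finrank L₀ K = Module.finrank F⟮x⟯ K :=
    Algebra.finrank_eq_of_equiv_equiv e (RingEquiv.refl K) he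
  have hfrD : Module.finrank L₀ K = h.natDegree := by
    rw [(AdjoinRoot.powerBasis hLm.ne_zero).finrank, AdjoinRoot.powerBasis_dim]
    exact hm.natDegree_map _
  haveI hfd : FiniteDimensional F⟮x⟯ K := by
    refine Module.finite_of_finrank_pos ?_
    rw [← hfr, hfrD]
    exact Nat.pos_of_ne_zero fun h0 => hder (by rw [eq_C_of_natDegree_eq_zero h0, derivative_C])
  haveI : Algebra.IsSeparable L₀ K := by
    have hsep : hL.Separable := by
      refine (separable_iff_derivative_ne_zero hLirr).2 ?_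
      rw [hhL, derivative_map]
      exact (Polynomial.map_ne_zero_iff (IsFractionRing.injective F[X] L₀)).2 hder
    have hzs : IsSeparable L₀ z := by
      rw [IsSeparable, hz, AdjoinRoot.minpoly_root hLm.ne_zero, hLm.leadingCoeff, inv_one, map_one, mul_one]
      exact hsep
    haveI : Algebra.IsSeparable L₀ L₀⟮z⟯ := (IntermediateField.isSeparable_adjoin_simple_iff_isSeparable _ _).2 hzs
    have htop : L₀⟮z⟯ = ⊤ := by
      refine eq_top_iff.2 fun y _ => ?_
      obtain ⟨q, rfl⟩ := AdjoinRoot.mk_surjective y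
      rw [← AdjoinRoot.aeval_eq]
      exact IntermediateField.algebra_adjoin_le_adjoin _ _
        (Algebra.adjoin_singleton_eq_range_aeval L₀ z ▸ ⟨q, rfl⟩)
    exact Algebra.IsSeparable.of_algHom L₀ L₀⟮z⟯
      ((IntermediateField.equivOfEq htop).trans IntermediateField.topEquiv).symm.toAlgHom
  haveI : Algebra.IsSeparable F⟮x⟯ K := Algebra.IsSeparable.of_equiv_equiv e (RingEquiv.refl K) he
  refine ⟨K, inferInstance, inferInstance,
    ⟨x, z, h, htr, fun y => Algebra.IsSeparable.isSeparable _ y, hm, hroot, hker, by rw [← hfr, hfrD], hder⟩,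
    ⟨⟨x, htr, hfd⟩, fun y hy => ?_⟩, rfl⟩
  -- constants
  set hb : Fb[X][X] := h.map (mapRingHom (algebraMap F Fb)) with hhb
  have hbm : hb.Monic := hm.map _
  set L₁ := RatFunc Fb
  set hL1 : L₁[X] := hb.map (algebraMap Fb[X] L₁) with hhL1
  haveI : Fact (Irreducible hL1) :=
    ⟨(IsPrimitive.irreducible_iff_irreducible_map_fraction_map hbm.isPrimitive).1 hirr⟩
  let σ : L₀ →+* L₁ := IsFractionRing.map (A := F[X]) (B := Fb[X]) (j := mapRingHom (algebraMap F Fb))
    (Polynomial.map_injective _ (algebraMap F Fb).injective)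
  have hσ : ∀ q : F[X], σ (algebraMap F[X] L₀ q) = algebraMap Fb[X] L₁ (q.map (algebraMap F Fb)) := fun q =>
    IsLocalization.map_eq _ q
  let ι : K →+* AdjoinRoot hL1 := AdjoinRoot.lift ((AdjoinRoot.of hL1).comp σ) (AdjoinRoot.root hL1) (by
    rw [hhL, eval₂_map, RingHom.comp_assoc, show σ.comp (algebraMap F[X] L₀) =
      (algebraMap Fb[X] L₁).comp (mapRingHom (algebraMap F Fb)) from RingHom.ext hσ, ← RingHom.comp_assoc,
      ← eval₂_map, ← hhb, ← eval₂_map]
    exact AdjoinRoot.eval₂_root hL1)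
  have hιF : ι.comp (algebraMap F K) = (AdjoinRoot.of hL1).comp ((algebraMap Fb[X] L₁).comp (C.comp (algebraMap F Fb))) := by
    ext a
    simp only [RingHom.comp_apply]
    rw [IsScalarTower.algebraMap_apply F F[X] K, IsScalarTower.algebraMap_apply F[X] L₀ K,
      AdjoinRoot.algebraMap_eq, show ι (AdjoinRoot.of hL (algebraMap F[X] L₀ (algebraMap F F[X] a))) =
        AdjoinRoot.of hL1 (σ (algebraMap F[X] L₀ (algebraMap F F[X] a))) from AdjoinRoot.lift_of _, hσ,
      Polynomial.algebraMap_eq, Polynomial.map_C]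
  obtain ⟨w, hw⟩ := AdjoinRoot.mk_surjective y
  let μ : Fb →+* AdjoinRoot hL1 := (AdjoinRoot.of hL1).comp ((algebraMap Fb[X] L₁).comp C)
  letI : Algebra Fb (AdjoinRoot hL1) := μ.toAlgebra
  have hint : IsIntegral Fb (ι y) := by
    obtain ⟨p, hpm, hp⟩ := hy.isIntegral
    refine ⟨p.map (algebraMap F Fb), hpm.map _, ?_⟩
    rw [eval₂_map, show (algebraMap Fb (AdjoinRoot hL1)).comp (algebraMap F Fb) = ι.comp (algebraMap F K) from
      hιF.symm, ← hom_eval₂, hp, map_zero]
  obtain ⟨a, ha⟩ := minpoly.mem_range_of_degree_eq_one Fb (ι y)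
    (IsAlgClosed.degree_eq_one_of_irreducible Fb (minpoly.irreducible hint))
  set w' := w %ₘ hL with hw'
  have hwy : AdjoinRoot.mk hL w' = y := by
    rw [← hw, AdjoinRoot.mk_eq_mk]
    exact ⟨-(w /ₘ hL), by linear_combination modByMonic_add_div w hL⟩
  have hdeg : (w'.map σ - C (algebraMap Fb[X] L₁ (C a))).degree < hL1.degree := by
    have hD : hL1.degree = hL.degree := by
      rw [hhL1, hhb, hhL, (hm.map _).degree_map, hm.degree_map, hm.degree_map]
    refine lt_of_le_of_lt (degree_sub_le _ _) (max_lt ?_ ?_)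
    · rw [hD]; exact lt_of_le_of_lt degree_map_le (degree_modByMonic_lt w hLm)
    · refine lt_of_le_of_lt degree_C_le ?_
      rw [hD, degree_eq_natDegree hLm.ne_zero, hhL, hm.natDegree_map]
      exact_mod_cast Nat.pos_of_ne_zero fun h0 => hder (by rw [eq_C_of_natDegree_eq_zero h0, derivative_C])
  have hzero : AdjoinRoot.mk hL1 (w'.map σ - C (algebraMap Fb[X] L₁ (C a))) = 0 := by
    rw [map_sub, AdjoinRoot.mk_C, show AdjoinRoot.of hL1 (algebraMap Fb[X] L₁ (C a)) = ι y from ha,
      ← hwy, sub_eq_zero, AdjoinRoot.lift_mk, ← eval₂_map, ← AdjoinRoot.algebraMap_eq, ← aeval_def,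
      AdjoinRoot.aeval_eq]
  have hw0 : w'.map σ = C (algebraMap Fb[X] L₁ (C a)) := sub_eq_zero.1 (by
    by_contra hne
    exact AdjoinRoot.mk_ne_zero_of_degree_lt ((hbm.map _)) hne hdeg hzero)
  have hwC : w' = C (w'.coeff 0) := by
    refine eq_C_of_natDegree_eq_zero ?_
    rw [← natDegree_map_eq_of_injective σ.injective, hw0, natDegree_C]
  set r := w'.coeff 0 with hr
  have hyr : algebraMap L₀ K r = y := by
    rw [AdjoinRoot.algebraMap_eq, ← AdjoinRoot.mk_C, ← hwC, hwy]
  have hralg : IsIntegral F r := (isIntegral_algHom_iff φ φ.toRingHom.injective).1 (by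
    show IsIntegral F (algebraMap L₀ K r); rw [hyr]; exact hy.isIntegral)
  obtain ⟨P, hP⟩ := IsIntegrallyClosed.algebraMap_eq_of_integral (R := F[X]) (K := L₀) hralg.tower_top
  have hP0 : P.natDegree = 0 := by
    by_contra hne
    refine (RatFunc.transcendental_X (K := F)).aeval P hne
      (mem_nonZeroDivisors_of_ne_zero (leadingCoeff_ne_zero.2 fun h0 => hne (by rw [h0, natDegree_zero]))) ?_
    have : aeval (RatFunc.X : L₀) P = algebraMap F[X] L₀ P := by
      rw [← RatFunc.algebraMap_X, aeval_algebraMap_apply, aeval_X_left_apply]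
    rw [this, hP]; exact hralg.isAlgebraic
  refine ⟨P.coeff 0, ?_⟩
  rw [← hyr, ← hP, eq_C_of_natDegree_eq_zero hP0, coeff_C_zero, IsScalarTower.algebraMap_apply F L₀ K,
    RatFunc.algebraMap_C, RatFunc.algebraMap_eq_C]

end Groth.Agent.LangWeil25
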