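import Groth.Agent.Lib.LangWeil25.ModelPts
import Groth.Agent.Lib.LangWeil25.PlaneModel
import Groth.Agent.Lib.Zeta25.FrobFix

/-!
# The number of points of absolutely irreducible plane curves, uniformly
-/

set_option autoImplicit false

namespace Groth.Agent.LangWeil25

open Polynomial FunFld FunField FunFldRH25 WithZero
open scoped IntermediateField Multiplicative

universe u

variable {k K : Type u} [Field k] [Field K] [Algebra k K]

theorem val_root_le_pow (M : Model k K) {c : ℕ} (hc : WBound M.h₀ c) (P : Place k K) (hx : 1 < P.1 M.x) :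
    P.1 M.z ≤ P.1 M.x ^ c := by
  by_contra hlt
  push Not at hlt
  set a := P.1 M.x
  set b := P.1 M.z
  set D := M.h₀.natDegree with hD
  have hac : (1 : WithZero (Multiplicative ℤ)) ≤ a ^ c := one_le_pow₀ hx.le
  have hb1 : 1 < b := lt_of_le_of_lt hac hlt
  have hcoe : ∀ q : k[X], P.1 (aeval M.x q) ≤ a ^ q.natDegree := fun q => by
    conv_lhs => rw [q.as_sum_range_C_mul_X_pow, map_sum]
    refine Valuation.map_sum_le _ fun i hi => ?_
    rw [map_mul, map_pow, aeval_C, aeval_X, map_mul, map_pow]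
    exact (mul_le_of_le_one_left' (P.2.1 _)).trans (pow_le_pow_right₀ hx.le (Finset.mem_range_succ_iff.1 hi))
  have hroot := M.root
  rw [eval₂_eq_sum_range, Finset.sum_range_succ, M.monic.coeff_natDegree, map_one, one_mul] at hroot
  have h1 : P.1 (M.z ^ D) < b ^ D := by
    rw [eq_neg_of_add_eq_zero_right hroot, Valuation.map_neg]
    refine Valuation.map_sum_lt _ (pow_ne_zero _ (lt_trans zero_lt_one hb1).ne') fun i hi => ?_
    rw [Finset.mem_range] at hi
    rw [map_mul, map_pow]
    calc P.1 (aeval M.x (M.h₀.coeff i)) * b ^ i ≤ (a ^ c) ^ (D - i) * b ^ i := by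
          refine mul_le_mul_left ((hcoe _).trans ?_) _
          rw [← pow_mul]
          exact pow_le_pow_right₀ hx.le (hc i)
      _ < b ^ (D - i) * b ^ i := by
          refine mul_lt_mul_of_pos_right ?_ (pow_pos (lt_trans zero_lt_one hb1) _)
          exact pow_lt_pow_left₀ hlt zero_le (by omega)
      _ = b ^ D := by rw [← pow_add, Nat.sub_add_cancel hi.le]
  rw [map_pow] at h1
  exact lt_irrefl _ h1

/-- Riemann: the genus of a plane model is bounded by its weighted degree. -/
theorem genus_le (hK : IsFunctionField k K) (M : Model k K) {c : ℕ} (hc : WBound M.h₀ c) :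
    genus k K ≤ c * M.h₀.natDegree * M.h₀.natDegree := by
  classical
  have hF := ff hK
  set D := M.h₀.natDegree with hD
  have hD0 : 0 < D := Nat.pos_of_ne_zero fun h0 => M.der (by rw [eq_C_of_natDegree_eq_zero h0, derivative_C])
  set n := 2 * genus k K + c * D with hn
  set B : Divisor k K := n • poleDiv M.x with hB
  have hBdeg : B.deg = (n : ℤ) * D := by rw [hB, deg_smul, deg_poleDiv hF M.tr, M.finrank_eq]
  have hell : (ell B : ℤ) = (n : ℤ) * D + 1 - genus k K := by
    rw [ell_of_large_deg hK B ?_, hBdeg]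
    rw [hBdeg]
    have h1 : (n : ℤ) ≤ (n : ℤ) * D := le_mul_of_one_le_right (Int.natCast_nonneg _) (by omega)
    omega
  haveI := finiteDimensional_L hF B
  let ι := Σ j : Fin D, Fin (n - c * (j : ℕ) + 1)
  let v : ι → K := fun s => M.x ^ (s.2 : ℕ) * M.z ^ (s.1 : ℕ)
  have hmem : ∀ s, v s ∈ FunFld.L B := fun s P => by
    rw [show P.1 (v s) = P.1 M.x ^ (s.2 : ℕ) * P.1 M.z ^ (s.1 : ℕ) by simp [v]]
    have hBP : B P = n * max (-P.ord M.x) 0 := by
      rw [hB, Finsupp.coe_smul, Pi.smul_apply, poleDiv_apply hF, nsmul_eq_mul]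
    by_cases hx : P.1 M.x ≤ 1
    · refine (mul_le_one' (pow_le_one' hx _)
        (pow_le_one' (val_le_of_monic M.monic M.root P hx) _)).trans ?_
      rw [← exp_zero, exp_le_exp, hBP]
      positivity
    · push Not at hx
      have hx0 : M.x ≠ 0 := ne_zero_of_transcendental M.tr
      refine le_trans (mul_le_mul_right (pow_le_pow_left' (val_root_le_pow M hc P hx) _) _) ?_
      rw [← pow_mul, ← pow_add, val_eq_exp_neg_ord P hx0, ← exp_nsmul, exp_le_exp, hBP, nsmul_eq_mul]
      refine mul_le_mul ?_ (le_max_left _ _) ?_ (Int.natCast_nonneg _)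
      · have h2 := s.2.2
        have h1 : c * (s.1 : ℕ) ≤ c * D := Nat.mul_le_mul_left _ s.1.2.le
        exact_mod_cast (show (s.2 : ℕ) + c * (s.1 : ℕ) ≤ n by omega)
      · have : 1 < exp (-P.ord M.x) := by rw [← val_eq_exp_neg_ord P hx0]; exact hx
        rw [← exp_zero, exp_lt_exp] at this
        omega
  have hli : LinearIndependent k v := by
    rw [Fintype.linearIndependent_iff]
    intro a ha
    let w : k[X][X] := ∑ j : Fin D, C (∑ i : Fin (n - c * (j : ℕ) + 1), C (a ⟨j, i⟩) * X ^ (i : ℕ)) * X ^ (j : ℕ)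
    have hw : w.eval₂ (aeval M.x : k[X] →ₐ[k] K).toRingHom M.z = 0 := by
      rw [← ha]
      simp only [w, eval₂_finsetSum, eval₂_mul, eval₂_C, eval₂_pow, eval₂_X, AlgHom.toRingHom_eq_coe, RingHom.coe_coe,
        map_sum, map_mul, aeval_C, map_pow, aeval_X, Finset.sum_mul, v, Algebra.smul_def, mul_assoc]
      rw [Fintype.sum_sigma]
    have hw0 : w = 0 := by
      refine eq_zero_of_dvd_of_degree_lt (M.ker w hw) ?_
      rw [degree_eq_natDegree M.monic.ne_zero]
      exact degree_sum_fin_lt (R := k[X]) fun j : Fin D => ∑ i : Fin (n - c * (j : ℕ) + 1), C (a ⟨j, i⟩) * X ^ (i : ℕ)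
    rintro ⟨j, i⟩
    have h1 := congrArg (fun q : k[X][X] => (q.coeff (j : ℕ)).coeff (i : ℕ)) hw0
    simp only [w, finsetSum_coeff, coeff_C_mul, coeff_X_pow, mul_ite, mul_one, mul_zero, coeff_zero] at h1
    rw [Finset.sum_eq_single j (fun b _ hb => by rw [if_neg fun e => hb (Fin.ext e.symm)]; rfl)
      (fun h => absurd (Finset.mem_univ _) h), if_pos rfl] at h1
    simp only [finsetSum_coeff, coeff_C_mul, coeff_X_pow, mul_ite, mul_one, mul_zero] at h1
    rw [Finset.sum_eq_single i (fun b _ hb => by rw [if_neg fun e => hb (Fin.ext e.symm)])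
      (fun h => absurd (Finset.mem_univ _) h), if_pos rfl] at h1
    exact h1
  have hli' : LinearIndependent k (fun s => (⟨v s, hmem s⟩ : FunFld.L B)) :=
    LinearIndependent.of_comp (FunFld.L B).subtype hli
  have h := hli'.fintype_card_le_finrank
  rw [Fintype.card_sigma] at h
  simp only [Fintype.card_fin] at h
  have h2 : D * (n + 1) ≤ (∑ j : Fin D, (n - c * (j : ℕ) + 1)) + D * (c * D) := by
    calc D * (n + 1) = ∑ _j : Fin D, (n + 1) := by simp
      _ ≤ ∑ j : Fin D, ((n - c * (j : ℕ) + 1) + c * D) := Finset.sum_le_sum fun j _ => by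
          have h1 : c * (j : ℕ) ≤ c * D := Nat.mul_le_mul_left _ j.2.le
          omega
      _ = _ := by rw [Finset.sum_add_distrib]; simp
  have h3 : (D * (n + 1) : ℤ) ≤ (ell B : ℤ) + D * (c * D) := by
    have := h2.trans (Nat.add_le_add_right h _)
    exact_mod_cast this
  rw [hell] at h3
  have h4 : (genus k K : ℤ) ≤ (c * D * D : ℕ) := by
    push_cast
    nlinarith
  exact_mod_cast h4

/-- Absolutely irreducible plane curves of bounded weight have `|F| + O(√|F|)` rational points. -/
theorem curve_bound (c D : ℕ) : ∃ C : ℕ, ∀ (F : Type u) [Field F] [Finite F] (h : F[X][X]), h.Monic →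
    h.natDegree = D → derivative h ≠ 0 → WBound h c →
    Irreducible (h.map (mapRingHom (algebraMap F (AlgebraicClosure F)))) →
      |(Nat.card {z : F × F // h.eval₂ (evalRingHom z.1) z.2 = 0} : ℝ) - Nat.card F| ≤
        C * Real.sqrt (Nat.card F) := by
  refine ⟨2 * (c * D * D) + 1 + (2 * (D * (c * D) * D) + D), fun F _ _ h hm hdeg hder hc hirr => ?_⟩
  classical
  obtain ⟨K, _, _, M, hK, hM⟩ := exists_planeModel h hm hder hirr
  subst hdeg
  subst hM
  set h₀ := M.h₀
  set D := h₀.natDegree with hD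
  have hF := ff hK
  set Fb := AlgebraicClosure F
  set hb := h₀.map (mapRingHom (algebraMap F Fb)) with hhb
  have hbm : hb.Monic := hm.map _
  haveI : IsDomain (AdjoinRoot hb) := AdjoinRoot.isDomain_of_prime hirr.prime
  have hbD : hb.natDegree = D := hm.natDegree_map _
  set N := Algebra.norm Fb[X] (GG hb) with hN
  have hN0 : N ≠ 0 := norm_ne_zero hbm (fun h0 => by
    refine hbm.not_dvd_of_natDegree_lt ?_ ?_ (AdjoinRoot.mk_eq_zero.mp h0)
    · rw [hhb, derivative_map]
      exact (Polynomial.map_ne_zero_iff (map_injective _ (algebraMap F Fb).injective)).2 hder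
    · refine natDegree_derivative_lt fun e => hder ?_
      rw [hbD] at e
      rw [eq_C_of_natDegree_eq_zero e, derivative_C])
  have hNdeg : N.natDegree ≤ D * (c * D) := by
    have hcb : WBound hb c := fun i => by
      rw [hbD, hhb, coeff_map, coe_mapRingHom]
      exact natDegree_map_le.trans (hc i)
    refine (natDegree_norm_le hbm hcb (GG_mem hbm hcb)).trans (le_of_eq ?_)
    simp only [ee, hbD]
  obtain ⟨R, hR, hup, hlo⟩ := model_npts hF M hirr one_ne_zero
  simp only [pow_one] at hR
  change npts F K 1 ≤ R.card + N.natDegree * D + Module.finrank F⟮M.x⁻¹⟯ K at hup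
  change R.card ≤ npts F K 1 + N.natDegree * D at hlo
  -- geometric and rational points
  let ι : F × F → Fb × Fb := fun z => (algebraMap F Fb z.1, algebraMap F Fb z.2)
  have hι : Function.Injective ι := fun z w e =>
    Prod.ext ((algebraMap F Fb).injective (Prod.mk.inj e).1) ((algebraMap F Fb).injective (Prod.mk.inj e).2)
  have hon : ∀ z : F × F, OnCurve hb (ι z).1 (ι z).2 ↔ h₀.eval₂ (evalRingHom z.1) z.2 = 0 := fun z => by
    rw [OnCurve, hhb, eval₂_map, show (evalRingHom (ι z).1).comp (mapRingHom (algebraMap F Fb)) =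
      (algebraMap F Fb).comp (evalRingHom z.1) from ?_, ← hom_eval₂, map_eq_zero]
    refine Polynomial.ringHom_ext (fun a => ?_) ?_ <;> simp [ι]
  have hfix : ∀ a : F, algebraMap F Fb a ^ Nat.card F = algebraMap F Fb a := fun a => by
    letI := Fintype.ofFinite F
    rw [← map_pow, Nat.card_eq_fintype_card, FiniteField.pow_card]
  letI := Fintype.ofFinite F
  set T : Finset (F × F) := Finset.univ.filter fun z => h₀.eval₂ (evalRingHom z.1) z.2 = 0 with hT
  have hcard : Nat.card {z : F × F // h₀.eval₂ (evalRingHom z.1) z.2 = 0} = T.card := by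
    rw [Nat.card_eq_fintype_card, Fintype.card_subtype]
  have hRT : R.card ≤ T.card := by
    refine (Finset.card_le_card fun z hz => ?_).trans (Finset.card_image_le (f := ι) (s := T))
    obtain ⟨h1, h2, -, h4⟩ := (hR z).1 hz
    obtain ⟨a, ha⟩ := Zeta25.Geom.mem_range_of_pow_card_eq F Fb z.1 h1
    obtain ⟨b, hb'⟩ := Zeta25.Geom.mem_range_of_pow_card_eq F Fb z.2 h2
    refine Finset.mem_image.2 ⟨(a, b), Finset.mem_filter.2 ⟨Finset.mem_univ _, (hon _).1 ?_⟩, Prod.ext ha hb'⟩
    show OnCurve hb (algebraMap F Fb a) (algebraMap F Fb b)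
    rw [ha, hb']; exact h4
  have hTR : T.card ≤ R.card + N.natDegree * D := by
    rw [← Finset.card_filter_add_card_filter_not (fun z : F × F => N.eval (ι z).1 ≠ 0)]
    refine Nat.add_le_add ?_ ?_
    · refine Finset.card_le_card_of_injOn ι (fun z hz => ?_) hι.injOn
      obtain ⟨hz, hne⟩ := Finset.mem_filter.1 hz
      exact (hR _).2 ⟨hfix _, hfix _, hne, (hon z).2 (Finset.mem_filter.1 hz).2⟩
    · refine (Finset.card_le_card (t := (Finset.univ.filter fun a => N.eval (algebraMap F Fb a) = 0).biUnion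
        fun a => ((h₀.map (evalRingHom a)).roots.toFinset).image fun b => (a, b)) fun z hz => ?_).trans ?_
      · obtain ⟨hz, hne⟩ := Finset.mem_filter.1 hz
        refine Finset.mem_biUnion.2 ⟨z.1, Finset.mem_filter.2 ⟨Finset.mem_univ _, not_not.1 hne⟩,
          Finset.mem_image.2 ⟨z.2, ?_, rfl⟩⟩
        rw [Multiset.mem_toFinset, mem_roots (hm.map _).ne_zero, IsRoot, eval_map]
        exact (Finset.mem_filter.1 hz).2
      · refine (Finset.card_biUnion_le_card_mul _ _ D fun a _ => ?_).trans (Nat.mul_le_mul_right D ?_)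
        · refine Finset.card_image_le.trans ((Multiset.toFinset_card_le _).trans ((card_roots' _).trans ?_))
          rw [hm.natDegree_map]
        · refine le_trans ?_ ((Multiset.toFinset_card_le N.roots).trans (card_roots' N))
          refine Finset.card_le_card_of_injOn (algebraMap F Fb) (fun a ha => ?_) (algebraMap F Fb).injective.injOn
          rw [Finset.mem_coe, Multiset.mem_toFinset, mem_roots hN0]
          exact (Finset.mem_filter.1 ha).2
  -- Weil
  obtain ⟨α, -, hα, hσ⟩ := GeomFF26.exists_reciprocal_roots hK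
  have hnorm : ∀ i, ‖α i‖ = Real.sqrt (Nat.card F) := fun i => by
    rw [← norm_sq_eq hK α hα Fin.revPerm (fun i => by rw [Fin.revPerm_apply, mul_comm]; exact hσ i) i,
      Real.sqrt_sq (norm_nonneg _)]
  have key := npts_eq hK α hα one_ne_zero
  simp only [pow_one] at key
  have hW : |(npts F K 1 : ℝ) - ((Nat.card F : ℝ) + 1)| ≤ 2 * (c * D * D : ℕ) * Real.sqrt (Nat.card F) := by
    have e : ((((npts F K 1 : ℝ) - ((Nat.card F : ℝ) + 1)) : ℝ) : ℂ) = -∑ i, α i := by
      push_cast
      rw [key]; ring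
    rw [← Real.norm_eq_abs, ← Complex.norm_real, e, norm_neg]
    refine (norm_sum_le _ _).trans ?_
    rw [Finset.sum_congr rfl fun i _ => hnorm i, Finset.sum_const, Finset.card_univ, Fintype.card_fin, nsmul_eq_mul]
    refine mul_le_mul_of_nonneg_right ?_ (Real.sqrt_nonneg _)
    have := genus_le hK M hc
    exact_mod_cast (Nat.mul_le_mul_left 2 this)
  have hM' : Module.finrank F⟮M.x⁻¹⟯ K = D := by
    have heq : (F⟮M.x⁻¹⟯ : IntermediateField F K) = F⟮M.x⟯ := by
      apply le_antisymm <;> rw [IntermediateField.adjoin_simple_le_iff]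
      · exact inv_mem (IntermediateField.mem_adjoin_simple_self F M.x)
      · simpa using inv_mem (IntermediateField.mem_adjoin_simple_self F M.x⁻¹)
    rw [heq]; exact M.finrank_eq
  rw [hM'] at hup
  set E := D * (c * D) * D with hE
  have hE' : N.natDegree * D ≤ E := Nat.mul_le_mul_right D hNdeg
  have h1 : (npts F K 1 : ℝ) ≤ (T.card : ℝ) + E + D := by
    exact_mod_cast (show npts F K 1 ≤ T.card + E + D by omega)
  have h2 : (T.card : ℝ) ≤ (npts F K 1 : ℝ) + 2 * E := by
    exact_mod_cast (show T.card ≤ npts F K 1 + 2 * E by omega)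
  rw [hcard]
  have hs : (1 : ℝ) ≤ Real.sqrt (Nat.card F) := Real.one_le_sqrt.2 (by exact_mod_cast Nat.card_pos)
  obtain ⟨h3, h4⟩ := abs_le.1 hW
  have h5 : (E : ℝ) ≤ E * Real.sqrt (Nat.card F) := le_mul_of_one_le_right (Nat.cast_nonneg _) hs
  have h6 : (D : ℝ) ≤ D * Real.sqrt (Nat.card F) := le_mul_of_one_le_right (Nat.cast_nonneg _) hs
  rw [abs_le]
  push_cast at h3 h4 ⊢
  constructor <;> nlinarith [Nat.cast_nonneg (α := ℝ) E, Nat.cast_nonneg (α := ℝ) D]

end Groth.Agent.LangWeil25
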