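import Groth.Agent.Lib.LangWeil25.Taylor
import Mathlib.RingTheory.PowerSeries.Inverse
import Mathlib.RingTheory.PowerSeries.Substitution
import Mathlib.LinearAlgebra.Vandermonde
import Mathlib.LinearAlgebra.Matrix.Charpoly.Coeff
import Mathlib.FieldTheory.IsAlgClosed.Basic

/-!
# Power series expansions of `K[x, y]/(g)` at the points of a separable fibre
-/

set_option autoImplicit false

universe u

namespace Groth.Agent.LangWeil25

open Polynomial

variable {K : Type u} [Field K] {g : K[X][X]} {c : ℕ} {a b : K}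

/-- `(a, b)` is a point of the curve `g = 0`. -/
def OnCurve (g : K[X][X]) (a b : K) : Prop := g.eval₂ (evalRingHom a) b = 0

/-- Evaluation at a point. -/
noncomputable def evAt (h : OnCurve g a b) : AdjoinRoot g →+* K :=
  AdjoinRoot.lift (evalRingHom a) b h

theorem evAt_mk (h : OnCurve g a b) (p : K[X][X]) :
    evAt h (AdjoinRoot.mk g p) = p.eval₂ (evalRingHom a) b := AdjoinRoot.lift_mk _ _

theorem evAt_algebraMap (h : OnCurve g a b) (p : K[X]) :
    evAt h (algebraMap K[X] (AdjoinRoot g) p) = p.eval a := by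
  rw [AdjoinRoot.algebraMap_eq]; exact AdjoinRoot.lift_of _

theorem evAt_const (h : OnCurve g a b) (r : K) : evAt h (algebraMap K (AdjoinRoot g) r) = r := by
  rw [IsScalarTower.algebraMap_apply K K[X] (AdjoinRoot g), evAt_algebraMap]
  simp

theorem evAt_smul (h : OnCurve g a b) (r : K) (z : AdjoinRoot g) :
    evAt h (r • z) = r * evAt h z := by
  rw [Algebra.smul_def, map_mul, evAt_const]

theorem evAt_px (h : OnCurve g a b) : evAt h (px g) = a := by
  rw [px, evAt_algebraMap]; simp

theorem evAt_py (h : OnCurve g a b) : evAt h (py g) = b := AdjoinRoot.lift_root _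

theorem evAt_GG (h : OnCurve g a b) :
    evAt h (GG g) = ((derivative g).map (evalRingHom a)).eval b := by
  rw [GG, evAt_mk, eval_map]

/-- The expansion at a point. -/
noncomputable def psi (h : OnCurve g a b) : AdjoinRoot g →+* PowerSeries K :=
  (PowerSeries.rescale ((evAt h (GG g) ^ 2)⁻¹)).comp ((PowerSeries.map (evAt h)).comp (Psi g))

theorem coeff_psi (h : OnCurve g a b) (z : AdjoinRoot g) (k : ℕ) :
    PowerSeries.coeff k (psi h z) =
      ((evAt h (GG g) ^ 2)⁻¹) ^ k * evAt h (PowerSeries.coeff k (Psi g z)) := by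
  simp [psi, PowerSeries.coeff_rescale, PowerSeries.coeff_map]

/-- `p ↦ p (a + t)`. -/
noncomputable def shiftA (a : K) : K[X] →+* PowerSeries K :=
  eval₂RingHom PowerSeries.C (PowerSeries.C a + PowerSeries.X)

theorem psi_algebraMap (h : OnCurve g a b) (hG : evAt h (GG g) ≠ 0) :
    (psi h).comp (algebraMap K[X] (AdjoinRoot g)) = shiftA a := by
  refine Polynomial.ringHom_ext (fun r => ?_) ?_
  · rw [RingHom.comp_apply, show algebraMap K[X] (AdjoinRoot g) (C r) = algebraMap K (AdjoinRoot g) r
      from (IsScalarTower.algebraMap_apply K K[X] (AdjoinRoot g) r).symm]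
    refine PowerSeries.ext fun k => ?_
    rw [coeff_psi, Psi_algebraMap, PowerSeries.algebraMap_apply]
    simp only [shiftA, coe_eval₂RingHom, eval₂_C, PowerSeries.coeff_C]
    split_ifs with hk
    · subst hk; simp [evAt_const]
    · simp
  · refine PowerSeries.ext fun k => ?_
    rw [RingHom.comp_apply, coeff_psi, Psi_px]
    simp only [shiftA, coe_eval₂RingHom, eval₂_X, psX, map_add, PowerSeries.coeff_C_mul,
      PowerSeries.coeff_C, PowerSeries.coeff_X]
    rcases k with _ | _ | k
    · simp [evAt_px]
    · simp [hG]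
    · simp

theorem psi_smul (h : OnCurve g a b) (hG : evAt h (GG g) ≠ 0) (r : K) (z : AdjoinRoot g) :
    psi h (r • z) = r • psi h z := by
  rw [Algebra.smul_def, map_mul, IsScalarTower.algebraMap_apply K K[X] (AdjoinRoot g),
    Algebra.smul_def]
  congr 1
  have := RingHom.congr_fun (psi_algebraMap h hG) (algebraMap K K[X] r)
  rw [RingHom.comp_apply] at this
  rw [this]
  simp [shiftA, PowerSeries.algebraMap_apply]

theorem constantCoeff_psi (h : OnCurve g a b) (z : AdjoinRoot g) :
    PowerSeries.constantCoeff (psi h z) = evAt h z := by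
  rw [← PowerSeries.coeff_zero_eq_constantCoeff_apply, coeff_psi, pow_zero, one_mul]
  have : ((PowerSeries.constantCoeff).comp (Psi g)) = RingHom.id (AdjoinRoot g) := by
    refine Ideal.Quotient.ringHom_ext (Polynomial.ringHom_ext' (Polynomial.ringHom_ext (fun r => ?_) ?_) ?_)
    · change PowerSeries.constantCoeff (Psi g (algebraMap K[X] (AdjoinRoot g) (C r))) =
        algebraMap K[X] (AdjoinRoot g) (C r)
      rw [show algebraMap K[X] (AdjoinRoot g) (C r) = algebraMap K (AdjoinRoot g) r
        from (IsScalarTower.algebraMap_apply K K[X] (AdjoinRoot g) r).symm, Psi_algebraMap,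
        PowerSeries.algebraMap_apply, PowerSeries.constantCoeff_C]
    · change PowerSeries.constantCoeff (Psi g (px g)) = px g
      rw [Psi_px]; simp [psX]
    · change PowerSeries.constantCoeff (Psi g (py g)) = py g
      rw [Psi_py]; simp [psY]
  have h2 := RingHom.congr_fun this z
  rw [RingHom.comp_apply, RingHom.id_apply] at h2
  rw [PowerSeries.coeff_zero_eq_constantCoeff_apply, h2]

theorem shiftA_eq (a : K) (p : K[X]) : shiftA a p = (taylor a p : PowerSeries K) := by
  have : shiftA a = (Polynomial.coeToPowerSeries.ringHom).comp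
      (taylorAlgHom a).toRingHom := by
    refine Polynomial.ringHom_ext (fun r => ?_) ?_
    · simp [shiftA]
    · simp [shiftA, add_comm]
  rw [this]; rfl

theorem shiftA_injective (a : K) : Function.Injective (shiftA a) := fun p q h => by
  rw [shiftA_eq, shiftA_eq] at h
  exact taylor_injective a (Polynomial.coe_inj.mp h)

/-- If `t^n` divides `p (a + t)` then `(x - a)^n` divides `p`. -/
theorem le_rootMultiplicity_of_X_pow_dvd {a : K} {p : K[X]} (hp : p ≠ 0) {n : ℕ}
    (h : PowerSeries.X ^ n ∣ shiftA a p) : n ≤ p.rootMultiplicity a := by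
  rw [shiftA_eq, PowerSeries.X_pow_dvd_iff] at h
  rw [le_rootMultiplicity_iff hp]
  have h1 : (X : K[X]) ^ n ∣ taylor a p := by
    rw [Polynomial.X_pow_dvd_iff]
    intro k hk
    simpa using h k hk
  obtain ⟨q, hq⟩ := h1
  refine ⟨taylor (-a) q, ?_⟩
  have h2 := congrArg (taylor (-a)) hq
  rw [taylor_taylor, neg_add_cancel, taylor_zero] at h2
  rw [h2, taylor_mul, taylor_pow, taylor_X, map_neg, sub_eq_add_neg]

/-- A fibre with `D` distinct points at which `g'` does not vanish. -/
structure Fibre (g : K[X][X]) (a : K) where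
  pt : Fin g.natDegree → K
  inj : Function.Injective pt
  onCurve : ∀ i, OnCurve g a (pt i)
  etale : ∀ i, evAt (onCurve i) (GG g) ≠ 0
  surj : ∀ b, OnCurve g a b → ∃ i, pt i = b

/-- The norm is the product of the expansions at the points of a fibre. -/
theorem shiftA_norm (hg : g.Monic) (F : Fibre g a) (z : AdjoinRoot g) :
    shiftA a (Algebra.norm K[X] z) = ∏ i, psi (F.onCurve i) z := by
  classical
  let V : Matrix (Fin g.natDegree) (Fin g.natDegree) (PowerSeries K) :=
    Matrix.of fun p i => psi (F.onCurve p) (yb hg i)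
  let M := (Algebra.leftMulMatrix (yb hg) z).map (shiftA a)
  have hV : IsUnit V.det := by
    rw [PowerSeries.isUnit_iff_constantCoeff, RingHom.map_det]
    have : (PowerSeries.constantCoeff).mapMatrix V = Matrix.vandermonde F.pt := by
      ext p i
      simp [V, constantCoeff_psi, yb_apply, evAt_py]
    rw [this, isUnit_iff_ne_zero, Matrix.det_vandermonde_ne_zero_iff]
    exact F.inj
  have h : V * M = Matrix.diagonal (fun p => psi (F.onCurve p) z) * V := by
    ext1 p i
    rw [Matrix.diagonal_mul, Matrix.mul_apply]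
    simp only [V, Matrix.of_apply, M, Matrix.map_apply]
    rw [← map_mul (psi (F.onCurve p))]
    conv_rhs => rw [← (yb hg).sum_repr (z * yb hg i), map_sum]
    refine Finset.sum_congr rfl fun j _ => ?_
    rw [Algebra.leftMulMatrix_eq_repr_mul, Algebra.smul_def, map_mul (psi (F.onCurve p)),
      ← RingHom.congr_fun (psi_algebraMap (F.onCurve p) (F.etale p)), RingHom.comp_apply, mul_comm]
  have h2 := congrArg Matrix.det h
  rw [Matrix.det_mul, Matrix.det_mul, Matrix.det_diagonal, mul_comm _ V.det] at h2
  have h3 := hV.mul_left_cancel h2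
  rwa [show M = (shiftA a).mapMatrix (Algebra.leftMulMatrix (yb hg) z) from rfl, ← RingHom.map_det,
    ← Algebra.norm_eq_matrix_det] at h3

theorem dvd_norm (hg : g.Monic) (z : AdjoinRoot g) :
    z ∣ algebraMap K[X] (AdjoinRoot g) (Algebra.norm K[X] z) := by
  classical
  set M := Algebra.leftMulMatrix (yb hg) z with hM
  have h0 : aeval z M.charpoly = 0 := by
    refine (Algebra.leftMulMatrix_injective (yb hg)) ?_
    rw [← aeval_algHom_apply, map_zero, ← hM]
    exact Matrix.aeval_self_charpoly M
  obtain ⟨q, hq⟩ := X_dvd_sub_C (p := M.charpoly)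
  have h1 := congrArg (aeval z) hq
  rw [map_sub, h0, aeval_C, map_mul, aeval_X, zero_sub] at h1
  rw [Algebra.norm_eq_matrix_det (yb hg), ← hM, Matrix.det_eq_sign_charpoly_coeff, map_mul]
  refine dvd_mul_of_dvd_right ⟨-aeval z q, ?_⟩ _
  rw [mul_neg, ← h1, neg_neg]

/-- Over an algebraically closed field the fibre is full where the norm of `g'` is not zero. -/
theorem exists_fibre [IsAlgClosed K] (hg : g.Monic)
    (ha : (Algebra.norm K[X] (GG g)).eval a ≠ 0) : Nonempty (Fibre g a) := by
  classical
  set f := g.map (evalRingHom a) with hf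
  have hfm : f.Monic := hg.map _
  have hdeg : f.natDegree = g.natDegree := hg.natDegree_map _
  have hmem : ∀ b, b ∈ f.roots ↔ OnCurve g a b := fun b => by
    rw [mem_roots hfm.ne_zero, IsRoot, hf, eval_map]; rfl
  have hG : ∀ b, (h : OnCurve g a b) → evAt h (GG g) ≠ 0 := fun b h hb => ha (by
    obtain ⟨w, hw⟩ := dvd_norm hg (GG g)
    rw [← evAt_algebraMap h, hw, map_mul, hb, zero_mul])
  have hnd : f.roots.Nodup := by
    rw [Multiset.nodup_iff_count_le_one]
    intro b
    rw [count_roots]
    by_contra hlt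
    push Not at hlt
    obtain ⟨h1, h2⟩ := (one_lt_rootMultiplicity_iff_isRoot hfm.ne_zero).mp hlt
    have hb : OnCurve g a b := (hmem b).mp ((mem_roots hfm.ne_zero).mpr h1)
    refine hG b hb ?_
    rw [evAt_GG, ← derivative_map]
    exact h2
  have hcard : Fintype.card {b // b ∈ f.roots.toFinset} = g.natDegree := by
    rw [Fintype.card_coe, Multiset.toFinset_card_of_nodup hnd, ← hdeg]
    exact IsAlgClosed.card_roots_eq_natDegree
  let e := (Fintype.equivFinOfCardEq hcard).symm
  refine ⟨⟨fun i => (e i).1, fun i j h => e.injective (Subtype.ext h),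
    fun i => (hmem _).mp (Multiset.mem_toFinset.mp (e i).2), fun i => hG _ _,
    fun b hb => ⟨e.symm ⟨b, Multiset.mem_toFinset.mpr ((hmem b).mpr hb)⟩, by simp⟩⟩⟩

theorem norm_ne_zero [IsDomain (AdjoinRoot g)] (hg : g.Monic) {z : AdjoinRoot g} (hz : z ≠ 0) :
    Algebra.norm K[X] z ≠ 0 :=
  haveI : Module.Free K[X] (AdjoinRoot g) := Module.Free.of_basis (yb hg)
  haveI : Module.Finite K[X] (AdjoinRoot g) := Module.Finite.of_basis (yb hg)
  Algebra.norm_ne_zero_iff.mpr hz

/-- Each expansion is injective, and bounds the vanishing order by the degree of the norm. -/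
theorem not_X_pow_dvd_psi [IsDomain (AdjoinRoot g)] (hg : g.Monic) (F : Fibre g a)
    (i : Fin g.natDegree) {z : AdjoinRoot g} (hz : z ≠ 0) {n : ℕ}
    (hn : (Algebra.norm K[X] z).natDegree < n) :
    ¬ PowerSeries.X ^ n ∣ psi (F.onCurve i) z := fun h => by
  have h0 := norm_ne_zero hg hz
  have h1 : PowerSeries.X ^ n ∣ shiftA a (Algebra.norm K[X] z) := by
    rw [shiftA_norm hg F]
    exact h.trans (Finset.dvd_prod_of_mem (fun j => psi (F.onCurve j) z) (Finset.mem_univ i))
  have h2 := le_rootMultiplicity_of_X_pow_dvd h0 h1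
  have h3 : (Algebra.norm K[X] z).rootMultiplicity a ≤ (Algebra.norm K[X] z).natDegree := by
    classical
    rw [← count_roots]
    exact le_trans (Multiset.count_le_card _ _) (card_roots' _)
  omega

end Groth.Agent.LangWeil25
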