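import Groth.Agent.Lib.LangWeil25.Weight
import Mathlib.RingTheory.Nullstellensatz
import Mathlib.Algebra.Polynomial.RingDivision
import Mathlib.RingTheory.Ideal.Span

/-!
# Absolute irreducibility spreads out

If `g ∈ K[x][y]` is monic and irreducible over the algebraically closed field `K`, then there are
finitely many elements of `K` such that every ring map to a field out of a subring containing them
carries `g` to an irreducible polynomial.
-/

set_option autoImplicit false

universe u v w

namespace Groth.Agent.LangWeil25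

open Polynomial

section Phi

variable {R : Type v} [CommRing R]

/-- The weight grading `x ↦ x T`, `y ↦ y T^c`. -/
noncomputable def PhiW (c : ℕ) : R[X][X] →+* R[X][X][X] :=
  let i : R →+* R[X][X][X] := C.comp (C.comp C)
  let f : R[X] →+* R[X][X][X] := eval₂RingHom (S := R[X][X][X]) i (C (C X) * X)
  eval₂RingHom (S := R[X][X][X]) f (C X * X ^ c)

theorem coeff_PhiW (c : ℕ) (p : R[X][X]) (m n j : ℕ) :
    (((PhiW c p).coeff m).coeff n).coeff j =
      if j + c * n = m then (p.coeff n).coeff j else 0 := by
  induction p using Polynomial.induction_on' with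
  | add p q hp hq =>
    simp only [map_add, coeff_add, hp, hq]
    split_ifs <;> simp
  | monomial N q =>
    induction q using Polynomial.induction_on' with
    | add q r hq hr =>
      simp only [map_add, coeff_add, hq, hr]
      split_ifs <;> simp
    | monomial J r =>
      have h : PhiW c (monomial N (monomial J r)) =
          monomial (J + c * N) (monomial N (monomial J r)) := by
        simp only [← C_mul_X_pow_eq_monomial, PhiW, coe_eval₂RingHom, eval₂_mul, eval₂_C,
          eval₂_X_pow, eval₂_X, RingHom.comp_apply, map_mul, map_pow]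
        ring
      rw [h]
      simp only [coeff_monomial]
      by_cases hm : J + c * N = m <;> by_cases hn : N = n <;> by_cases hj : J = j <;>
        simp_all [coeff_monomial]

theorem natDegree_PhiW_le {g : R[X][X]} {c M : ℕ}
    (h : ∀ n j, (g.coeff n).coeff j ≠ 0 → j + c * n ≤ M) : (PhiW c g).natDegree ≤ M := by
  rw [natDegree_le_iff_coeff_eq_zero]
  intro m hm
  ext n j
  rw [coeff_PhiW]
  split_ifs with hjm
  · by_contra h0
    have := h n j (by simpa using h0)
    omega
  · simp

theorem le_natDegree_PhiW {g : R[X][X]} {c : ℕ} {n j : ℕ} (h : (g.coeff n).coeff j ≠ 0) :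
    j + c * n ≤ (PhiW c g).natDegree := by
  refine le_natDegree_of_ne_zero fun h0 => h ?_
  have := congrArg (fun q => (Polynomial.coeff q n).coeff j) h0
  simp only [coeff_PhiW, coeff_zero] at this
  simpa using this

end Phi

variable {K : Type u} [Field K]

/-- Monic factors inherit the weight bound. -/
theorem WBound.of_mul {g g1 g2 : K[X][X]} {c : ℕ} (hc : WBound g c) (h1 : g1.Monic) (h2 : g2.Monic)
    (h : g1 * g2 = g) : WBound g1 c := by
  have hm : (g1 * g2).natDegree = g1.natDegree + g2.natDegree := h1.natDegree_mul h2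
  have hle : (PhiW c g).natDegree ≤ c * g.natDegree := natDegree_PhiW_le fun n j hnj => by
    have hj : j ≤ (g.coeff n).natDegree := le_natDegree_of_ne_zero hnj
    have hn : n ≤ g.natDegree := le_natDegree_of_ne_zero fun h0 => hnj (by simp [h0])
    have := hc n
    have : c * (g.natDegree - n) + c * n = c * g.natDegree := by
      rw [← Nat.mul_add, Nat.sub_add_cancel hn]
    omega
  have hlead : ∀ q : K[X][X], q.Monic → c * q.natDegree ≤ (PhiW c q).natDegree := fun q hq => by
    simpa using le_natDegree_PhiW (c := c) (g := q) (n := q.natDegree) (j := 0)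
      (by rw [hq.coeff_natDegree, coeff_one_zero]; exact one_ne_zero)
  have hne : ∀ q : K[X][X], q.Monic → PhiW c q ≠ 0 := fun q hq h0 => by
    have := congrArg (fun r => ((Polynomial.coeff r (c * q.natDegree)).coeff q.natDegree).coeff 0) h0
    simp [coeff_PhiW, hq.coeff_natDegree] at this
  intro i
  rcases Nat.eq_zero_or_pos (g1.coeff i).natDegree with h0 | h0
  · simp [h0]
  · have hi : g1.coeff i ≠ 0 := fun h => by simp [h] at h0
    have h3 := le_natDegree_PhiW (c := c) (g := g1) (n := i) (j := (g1.coeff i).natDegree)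
      (leadingCoeff_ne_zero.mpr hi)
    have hi' : i ≤ g1.natDegree := le_natDegree_of_ne_zero hi
    have h4 := natDegree_mul (hne g1 h1) (hne g2 h2)
    rw [← map_mul, h] at h4
    have h5 := hlead g2 h2
    have h6 : c * (g1.natDegree - i) + c * i = c * g1.natDegree := by
      rw [← Nat.mul_add, Nat.sub_add_cancel hi']
    have h7 : c * g.natDegree = c * g1.natDegree + c * g2.natDegree := by
      rw [← h, hm, Nat.mul_add]
    omega

section Generic

/-- The variables of a factorisation of bidegree bounded by `(d, M)` and `(e, M)`. -/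
abbrev FVar (d e M : ℕ) : Type := (Fin d × Fin (M + 1)) ⊕ (Fin e × Fin (M + 1))

variable {R : Type v} [CommRing R]

/-- A monic polynomial of degree `d` with coefficients of degree at most `M`. -/
noncomputable def monicPoly (d M : ℕ) (v : Fin d × Fin (M + 1) → R) : R[X][X] :=
  X ^ d + ∑ n : Fin d, monomial (n : ℕ) (∑ j : Fin (M + 1), monomial (j : ℕ) (v (n, j)))

theorem monicPoly_map {S : Type w} [CommRing S] (f : R →+* S) (d M : ℕ)
    (v : Fin d × Fin (M + 1) → R) :
    (monicPoly d M v).map (mapRingHom f) = monicPoly d M (f ∘ v) := by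
  simp [monicPoly, Polynomial.map_sum]

theorem eq_monicPoly {q : R[X][X]} (hq : q.Monic) {M : ℕ}
    (hM : ∀ n < q.natDegree, (q.coeff n).natDegree ≤ M) :
    q = monicPoly q.natDegree M fun z => (q.coeff z.1).coeff z.2 := by
  conv_lhs => rw [hq.as_sum]
  rw [monicPoly]
  congr 1
  rw [Finset.sum_range]
  refine Finset.sum_congr rfl fun n _ => ?_
  rw [C_mul_X_pow_eq_monomial]
  congr 1
  conv_lhs => rw [(q.coeff n).as_sum_range' (M + 1) (Nat.lt_succ_of_le (hM n n.2))]
  rw [Finset.sum_range]

/-- The equations of a factorisation of `q` in bidegree `(d, e)`. -/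
noncomputable def factEq (d e M : ℕ) (q : R[X][X]) : (MvPolynomial (FVar d e M) R)[X][X] :=
  monicPoly d M (fun z => MvPolynomial.X (Sum.inl z)) *
    monicPoly e M (fun z => MvPolynomial.X (Sum.inr z)) - q.map (mapRingHom MvPolynomial.C)

theorem factEq_map {S : Type w} [CommRing S] (d e M : ℕ) (q : R[X][X])
    (f : MvPolynomial (FVar d e M) R →+* S) :
    (factEq d e M q).map (mapRingHom f) =
      monicPoly d M (f ∘ fun z => MvPolynomial.X (Sum.inl z)) *
        monicPoly e M (f ∘ fun z => MvPolynomial.X (Sum.inr z)) -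
        q.map (mapRingHom (f.comp MvPolynomial.C)) := by
  rw [factEq, Polynomial.map_sub, Polynomial.map_mul, monicPoly_map, monicPoly_map,
    Polynomial.map_map, mapRingHom_comp]

end Generic

variable [IsAlgClosed K]

/-- Irreducibility survives every specialisation of a suitable finitely generated subring. -/
theorem exists_irreducible_spread {g : K[X][X]} (hg : g.Monic) (hirr : Irreducible g) {c : ℕ}
    (hc : WBound g c) :
    ∃ Z : Finset K, ∀ (R : Type u) [CommRing R] (ι : R →+* K), Function.Injective ι →
      (↑Z : Set K) ⊆ Set.range ι → ∀ (g₀ : R[X][X]), g₀.Monic →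
      g₀.map (mapRingHom ι) = g → ∀ (L : Type w) [Field L] (χ : R →+* L),
        WBound (g₀.map (mapRingHom χ)) c ∧ Irreducible (g₀.map (mapRingHom χ)) := by
  classical
  set D := g.natDegree with hD
  set M := c * D with hM
  have hD1 : 1 ≤ D := by
    rw [Nat.one_le_iff_ne_zero]
    intro h0
    exact hirr.not_isUnit (by rw [hg.natDegree_eq_zero.mp h0]; exact isUnit_one)
  let gv : ∀ (d : Fin D), (MvPolynomial (FVar d (D - d) M) K)[X][X] := fun d => factEq d (D - d) M g
  let I : ∀ (d : Fin D), Ideal (MvPolynomial (FVar d (D - d) M) K) := fun d =>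
    Ideal.span (Set.range fun z : ℕ × ℕ => ((gv d).coeff z.1).coeff z.2)
  have htop : ∀ d : Fin D, (d : ℕ) ≠ 0 → I d = ⊤ := by
    intro d hd
    rw [← Ideal.radical_eq_top,
      ← MvPolynomial.vanishingIdeal_zeroLocus_eq_radical (K := K), eq_top_iff]
    intro f _
    rw [MvPolynomial.mem_vanishingIdeal_iff]
    intro x hx
    exfalso
    have h0 : (gv d).map (mapRingHom (MvPolynomial.aeval x).toRingHom) = 0 := by
      ext n j
      rw [coeff_map, coe_mapRingHom, coeff_map, coeff_zero, coeff_zero]
      exact hx _ (Ideal.subset_span ⟨(n, j), rfl⟩)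
    have hC : (MvPolynomial.aeval x).toRingHom.comp MvPolynomial.C = RingHom.id K :=
      RingHom.ext fun r => by simp
    simp only [gv, factEq_map, hC, mapRingHom_id, Polynomial.map_id, sub_eq_zero] at h0
    have hm1 : ∀ (e : ℕ) (v : Fin e × Fin (M + 1) → K), (monicPoly e M v).Monic ∧
        (monicPoly e M v).natDegree = e := by
      intro e v
      have hlt : (∑ n : Fin e, monomial (n : ℕ) (∑ j : Fin (M + 1), monomial (j : ℕ) (v (n, j)))).degree
          < (e : WithBot ℕ) := by
        refine lt_of_le_of_lt (degree_sum_le _ _) ((Finset.sup_lt_iff ?_).mpr fun n _ => ?_)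
        · exact WithBot.bot_lt_coe e
        · exact lt_of_le_of_lt (degree_monomial_le _ _) (WithBot.coe_lt_coe.mpr n.2)
      exact ⟨monic_X_pow_add hlt, by
        rw [monicPoly, natDegree_add_eq_left_of_degree_lt (by rwa [degree_X_pow]), natDegree_X_pow]⟩
    obtain ⟨hm, hn⟩ := hm1 d ((MvPolynomial.aeval x).toRingHom ∘ fun z =>
      (MvPolynomial.X (Sum.inl z) : MvPolynomial (FVar d (D - d) M) K))
    obtain ⟨hm', hn'⟩ := hm1 (D - d)
      ((MvPolynomial.aeval x).toRingHom ∘ fun z =>
        (MvPolynomial.X (Sum.inr z) : MvPolynomial (FVar d (D - d) M) K))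
    rcases (hg.irreducible_iff_natDegree.mp hirr).2 _ _ hm hm' h0 with h | h
    · omega
    · have := d.2; omega
  have hid : ∀ d : Fin D, (d : ℕ) ≠ 0 → ∃ h : (ℕ × ℕ) →₀ MvPolynomial (FVar d (D - d) M) K,
      h.sum (fun z a => a * ((gv d).coeff z.1).coeff z.2) = 1 := by
    intro d hd
    have h1 : (1 : MvPolynomial (FVar d (D - d) M) K) ∈ I d := by rw [htop d hd]; exact Submodule.mem_top
    obtain ⟨h, hh⟩ := Finsupp.mem_span_range_iff_exists_finsupp.mp h1
    exact ⟨h, by simpa [smul_eq_mul] using hh⟩
  choose! h hh using hid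
  refine ⟨Finset.univ.biUnion fun d : Fin D => (h d).support.biUnion fun z =>
    (h d z).support.image fun m => MvPolynomial.coeff m (h d z), ?_⟩
  intro R _ ι hι hZ g₀ hg₀ hmap L _ χ
  have hdeg : g₀.natDegree = D := by
    rw [hD, ← hmap, natDegree_map_eq_of_injective (map_injective _ hι)]
  have hdegL : (g₀.map (mapRingHom χ)).natDegree = D := by rw [hg₀.natDegree_map, hdeg]
  have hcL : WBound (g₀.map (mapRingHom χ)) c := fun i => by
    rw [hdegL, coeff_map, coe_mapRingHom]
    refine le_trans natDegree_map_le ?_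
    have := hc i
    rwa [← hmap, coeff_map, coe_mapRingHom, natDegree_map_eq_of_injective hι,
      hmap, ← hD] at this
  refine ⟨hcL, ?_⟩
  rw [(hg₀.map _).irreducible_iff_natDegree]
  refine ⟨fun h1 => by rw [h1, natDegree_one] at hdegL; omega, fun a b ha hb hab => ?_⟩
  by_contra hne
  push Not at hne
  have hsum : a.natDegree + b.natDegree = D := by rw [← ha.natDegree_mul hb, hab, hdegL]
  set d : Fin D := ⟨a.natDegree, by omega⟩ with hd
  have hd0 : (d : ℕ) ≠ 0 := hne.1
  -- lift the identity to `R`
  let gvR : (MvPolynomial (FVar d (D - d) M) R)[X][X] := factEq d (D - d) M g₀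
  have hlift : ∀ z, h d z ∈ Set.range (MvPolynomial.map (σ := FVar d (D - d) M) ι) := by
    intro z
    rw [MvPolynomial.mem_range_map_iff_coeffs_subset]
    intro r hr
    rw [Finset.mem_coe, MvPolynomial.mem_coeffs_iff] at hr
    obtain ⟨m, hm, rfl⟩ := hr
    refine hZ ?_
    refine Finset.mem_biUnion.mpr ⟨d, Finset.mem_univ _, Finset.mem_biUnion.mpr ⟨z, ?_, ?_⟩⟩
    · rw [Finsupp.mem_support_iff]
      intro h0
      rw [h0] at hm
      simp at hm
    · exact Finset.mem_image.mpr ⟨m, hm, rfl⟩
  choose h' hh' using hlift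
  have hgvR : gvR.map (mapRingHom (MvPolynomial.map ι)) = gv d := by
    simp only [gvR, gv]
    have e1 : ∀ (τ : Fin d × Fin (M + 1) → FVar d (D - d) M),
        ((MvPolynomial.map ι) ∘ fun z => (MvPolynomial.X (τ z) : MvPolynomial (FVar d (D - d) M) R)) =
          fun z => MvPolynomial.X (τ z) := fun τ => funext fun z => MvPolynomial.map_X _ _
    have e2 : ∀ (τ : Fin (D - d) × Fin (M + 1) → FVar d (D - d) M),
        ((MvPolynomial.map ι) ∘ fun z => (MvPolynomial.X (τ z) : MvPolynomial (FVar d (D - d) M) R)) =
          fun z => MvPolynomial.X (τ z) := fun τ => funext fun z => MvPolynomial.map_X _ _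
    have e3 : (MvPolynomial.map ι).comp (MvPolynomial.C (σ := FVar d (D - d) M)) =
        MvPolynomial.C.comp ι := RingHom.ext fun r => MvPolynomial.map_C _ _
    rw [factEq_map, e1, e2, e3, factEq]
    refine congrArg _ ?_
    rw [← hmap, Polynomial.map_map, mapRingHom_comp]
  have hidR : ∑ z ∈ (h d).support, h' z * (gvR.coeff z.1).coeff z.2 = 1 := by
    refine MvPolynomial.map_injective ι hι ?_
    rw [map_sum, map_one, ← hh d hd0]
    refine Finset.sum_congr rfl fun z _ => ?_
    simp only [map_mul, hh', ← hgvR, coeff_map, coe_mapRingHom]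
  let x : FVar d (D - d) M → L := Sum.elim (fun z => (a.coeff z.1).coeff z.2)
    (fun z => (b.coeff z.1).coeff z.2)
  have h0 : gvR.map (mapRingHom (MvPolynomial.eval₂Hom χ x)) = 0 := by
    simp only [gvR, factEq_map]
    rw [sub_eq_zero]
    have hC : (MvPolynomial.eval₂Hom χ x).comp MvPolynomial.C = χ := RingHom.ext fun r => by simp
    rw [hC, ← hab]
    have hwa : WBound a c := WBound.of_mul hcL ha hb hab
    have hwb : WBound b c := WBound.of_mul hcL hb ha (by rw [mul_comm, hab])
    have hbd : b.natDegree = D - d := by simp only [hd]; omega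
    refine congrArg₂ (· * ·) ?_ ?_
    · conv_rhs => rw [eq_monicPoly ha (M := M) (fun n _ => (hwa n).trans (by
        rw [hM]; exact Nat.mul_le_mul_left _ (by omega)))]
      refine congrArg (monicPoly a.natDegree M) (funext fun z => ?_)
      exact MvPolynomial.eval₂Hom_X' _ _ _
    · have hb' := eq_monicPoly hb (M := M) (fun n _ => (hwb n).trans (by
        rw [hM]; exact Nat.mul_le_mul_left _ (by omega)))
      conv_rhs => rw [hb']
      generalize hk : b.natDegree = k at hbd ⊢
      subst hbd
      refine congrArg (monicPoly _ M) (funext fun z => ?_)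
      exact MvPolynomial.eval₂Hom_X' _ _ _
  have h1 := congrArg (MvPolynomial.eval₂Hom χ x) hidR
  rw [map_sum, map_one, Finset.sum_eq_zero] at h1
  · exact zero_ne_one h1
  · intro z _
    have := congrArg (fun q => (Polynomial.coeff q z.1).coeff z.2) h0
    simp only [coeff_map, coe_mapRingHom, coeff_zero] at this
    rw [map_mul, this, mul_zero]

end Groth.Agent.LangWeil25
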