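import Groth.Agent.Lib.LangWeil25.Special
import Mathlib.RingTheory.Localization.Away.Basic
import Mathlib.Algebra.Ring.Subring.Basic

/-!
# Counting homomorphisms to finite fields: the inductive step
-/

set_option autoImplicit false

universe u v

namespace Groth.Agent.LangWeil25

open Polynomial

theorem finite_hom_closure {K : Type u} [Field K] (S : Finset K) (k : Type v) [Field k] [Finite k] :
    Finite (Subring.closure (S : Set K) →+* k) := by
  refine Finite.of_injective (β := S → k) (fun φ x => φ ⟨x.1, Subring.subset_closure x.2⟩)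
    fun φ φ' h => ?_
  refine RingHom.ext fun x => ?_
  obtain ⟨x, hx⟩ := x
  induction hx using Subring.closure_induction with
  | mem y hy => exact congr_fun h ⟨y, hy⟩
  | zero => exact (map_zero φ).trans (map_zero φ').symm
  | one => exact (map_one φ).trans (map_one φ').symm
  | add a b ha hb iha ihb =>
    exact (map_add φ ⟨a, ha⟩ ⟨b, hb⟩).trans ((congrArg₂ (· + ·) iha ihb).trans
      (map_add φ' ⟨a, ha⟩ ⟨b, hb⟩).symm)
  | neg a ha iha =>
    exact (map_neg φ ⟨a, ha⟩).trans ((congrArg Neg.neg iha).trans (map_neg φ' ⟨a, ha⟩).symm)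
  | mul a b ha hb iha ihb =>
    exact (map_mul φ ⟨a, ha⟩ ⟨b, hb⟩).trans ((congrArg₂ (· * ·) iha ihb).trans
      (map_mul φ' ⟨a, ha⟩ ⟨b, hb⟩).symm)

theorem hom_ext_closure {K : Type u} [Field K] {S : Set K} {k : Type v} [Ring k]
    {φ φ' : Subring.closure S →+* k}
    (h : ∀ x (hx : x ∈ S), φ ⟨x, Subring.subset_closure hx⟩ = φ' ⟨x, Subring.subset_closure hx⟩) :
    φ = φ' := by
  refine RingHom.ext fun x => ?_
  obtain ⟨x, hx⟩ := x
  induction hx using Subring.closure_induction with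
  | mem y hy => exact h y hy
  | zero => exact (map_zero φ).trans (map_zero φ').symm
  | one => exact (map_one φ).trans (map_one φ').symm
  | add a b ha hb iha ihb =>
    exact (map_add φ ⟨a, ha⟩ ⟨b, hb⟩).trans ((congrArg₂ (· + ·) iha ihb).trans
      (map_add φ' ⟨a, ha⟩ ⟨b, hb⟩).symm)
  | neg a ha iha =>
    exact (map_neg φ ⟨a, ha⟩).trans ((congrArg Neg.neg iha).trans (map_neg φ' ⟨a, ha⟩).symm)
  | mul a b ha hb iha ihb =>
    exact (map_mul φ ⟨a, ha⟩ ⟨b, hb⟩).trans ((congrArg₂ (· * ·) iha ihb).trans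
      (map_mul φ' ⟨a, ha⟩ ⟨b, hb⟩).symm)

/-- Homomorphisms out of an algebraic extension of finite type have boundedly many extensions. -/
theorem card_ext_le {R : Type u} [CommRing R] {R₀ : Type u} [CommRing R₀] (ψ : R₀ →+* R)
    {ι : Type u} [Fintype ι] (z : ι → R) (pol : ι → R₀[X])
    (hroot : ∀ i, (pol i).eval₂ ψ (z i) = 0) (hlc : ∀ i, IsUnit (ψ (pol i).leadingCoeff))
    {k : Type v} [Field k] [Finite k]
    (hext : ∀ φ φ' : R →+* k, (∀ i, φ (z i) = φ' (z i)) → φ.comp ψ = φ'.comp ψ → φ = φ')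
    (φ₀ : R₀ →+* k) :
    Nat.card {φ : R →+* k // φ.comp ψ = φ₀} ≤ ∏ i, (pol i).natDegree := by
  classical
  rcases isEmpty_or_nonempty {φ : R →+* k // φ.comp ψ = φ₀} with h | ⟨⟨φ₁, hφ₁⟩⟩
  · simp
  have hne : ∀ i, (pol i).map φ₀ ≠ 0 := fun i h => by
    have := congrArg (fun q => Polynomial.coeff q (pol i).natDegree) h
    rw [coeff_map, coeff_zero, ← hφ₁, RingHom.comp_apply] at this
    exact ((hlc i).map φ₁).ne_zero this
  let f : {φ : R →+* k // φ.comp ψ = φ₀} → ∀ i, {y // y ∈ ((pol i).map φ₀).roots.toFinset} :=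
    fun φ i => ⟨φ.1 (z i), by
      rw [Multiset.mem_toFinset, mem_roots (hne i), IsRoot, eval_map]
      have h := (hom_eval₂ (pol i) ψ φ.1 (z i)).symm
      rw [hroot, map_zero] at h
      exact (eval₂_congr φ.2.symm rfl rfl).trans h⟩
  have hf : Function.Injective f := fun φ φ' h =>
    Subtype.ext (hext _ _ (fun i => congrArg Subtype.val (congr_fun h i)) (φ.2.trans φ'.2.symm))
  refine le_trans (Nat.card_le_card_of_injective f hf) ?_
  rw [Nat.card_eq_fintype_card, Fintype.card_pi]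
  refine Finset.prod_le_prod' fun i _ => ?_
  rw [Fintype.card_coe]
  exact (Multiset.toFinset_card_le _).trans ((card_roots' _).trans natDegree_map_le)

/-- The inductive step of the point count. -/
theorem count_step {R : Type u} [CommRing R] {RR : Type u} [CommRing RR] {R₀ : Type u} [CommRing R₀]
    (ψ : R₀ →+* R) (ψ' : R₀ →+* RR) (g : R[X][X]) (hg : g.Monic) {c e M : ℕ}
    (hirr : ∀ (L : Type v) [Field L] (φ : R →+* L),
      WBound (g.map (mapRingHom φ)) c ∧ Irreducible (g.map (mapRingHom φ)))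
    (hsep : ∃ n j, IsUnit (((derivative g).coeff n).coeff j))
    (δ : R[X]) (hδ : IsUnit δ.leadingCoeff) (hδe : δ.natDegree ≤ e)
    (P : Fin g.natDegree → R[X][X])
    (hP : ∀ i n, (P i).coeff n ≠ 0 → ((P i).coeff n).natDegree + c * n ≤ e)
    (hroots : C (AdjoinRoot.of g δ ^ g.natDegree) * g.map (AdjoinRoot.of g) =
      ∏ i, (C (AdjoinRoot.of g δ) * X - C (AdjoinRoot.mk g (P i))))
    (i₀ : Fin g.natDegree) (hi₀ : AdjoinRoot.mk g (P i₀) = AdjoinRoot.of g δ * AdjoinRoot.root g)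
    (Φ : RR →+* Localization.Away (AdjoinRoot.of g δ)) (tt : RR)
    (htt : Φ tt = algebraMap (AdjoinRoot g) _ (AdjoinRoot.of g X))
    (hψ : ∀ y, Φ (ψ' y) = algebraMap (AdjoinRoot g) _ (AdjoinRoot.of g (C (ψ y))))
    (k : Type v) [Field k] [Finite k] [Finite (R →+* k)] [Finite (RR →+* k)]
    (hM : ∀ φ₀ : R₀ →+* k, Nat.card {φ : R →+* k // φ.comp ψ = φ₀} ≤ M)
    (hbig : (6 * lowC c g.natDegree e + 3) * (6 * lowC c g.natDegree e + 3) ≤ Nat.card k) :
    Nat.card (R →+* k) * Nat.card k ≤ 2 * (M * g.natDegree) * Nat.card (RR →+* k) := by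
  classical
  set Q := Nat.card k with hQ
  set C₀ := lowC c g.natDegree e with hC
  let T : (R →+* k) → Type v := fun χ =>
    {z : k × k // δ.eval₂ χ z.1 ≠ 0 ∧ g.eval₂ (eval₂RingHom χ z.1) z.2 = 0}
  have hT : ∀ χ, Q ≤ 2 * Nat.card (T χ) := fun χ => by
    have h : Q ≤ Nat.card (T χ) + C₀ * (Nat.sqrt Q + 2) :=
      curve_points χ g hg hirr hsep δ hδ hδe P hP hroots i₀ hi₀
    have h1 : 6 * C₀ + 3 ≤ Nat.sqrt Q := Nat.le_sqrt.mpr hbig
    have h2 : Nat.sqrt Q * Nat.sqrt Q ≤ Q := Nat.sqrt_le Q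
    have h3 : (6 * C₀ + 3) * Nat.sqrt Q ≤ Nat.sqrt Q * Nat.sqrt Q := Nat.mul_le_mul_right _ h1
    nlinarith
  haveI : Fintype (R →+* k) := Fintype.ofFinite _
  haveI : ∀ χ, Fintype (T χ) := fun χ => Fintype.ofFinite _
  haveI : Fintype (RR →+* k) := Fintype.ofFinite _
  let ev : ∀ χ : R →+* k, T χ → AdjoinRoot g →+* k := fun χ z =>
    AdjoinRoot.lift (eval₂RingHom χ z.1.1) z.1.2 z.2.2
  have hu : ∀ χ (z : T χ), IsUnit (ev χ z (AdjoinRoot.of g δ)) := fun χ z => by
    rw [AdjoinRoot.lift_of, isUnit_iff_ne_zero]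
    exact z.2.1
  let ρ : (Σ χ, T χ) → (RR →+* k) := fun p =>
    (IsLocalization.Away.lift (AdjoinRoot.of g δ) (hu p.1 p.2)).comp Φ
  have hρt : ∀ p : Σ χ, T χ, ρ p tt = p.2.1.1 := fun p => by
    simp only [ρ, RingHom.comp_apply, htt, IsLocalization.Away.lift_eq]
    simp [ev, AdjoinRoot.lift_of]
  have hρψ : ∀ p : Σ χ, T χ, (ρ p).comp ψ' = p.1.comp ψ := fun p => RingHom.ext fun y => by
    simp only [ρ, RingHom.comp_apply, hψ, IsLocalization.Away.lift_eq]
    simp [ev, AdjoinRoot.lift_of]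
  have hfib : ∀ φ : RR →+* k, ((Finset.univ : Finset (Σ χ, T χ)).filter (fun p => ρ p = φ)).card ≤
      M * g.natDegree := by
    intro φ
    have hsub : ((Finset.univ : Finset (Σ χ, T χ)).filter (fun p => ρ p = φ)).card ≤
        ∑ χ ∈ (Finset.univ : Finset (R →+* k)).filter (fun χ => χ.comp ψ = φ.comp ψ'),
          ((Finset.univ : Finset (T χ)).filter (fun z => z.1.1 = φ tt)).card := by
      rw [← Finset.card_sigma]
      refine Finset.card_le_card fun p hp => ?_
      obtain ⟨χ, z⟩ := p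
      have hp' : ρ ⟨χ, z⟩ = φ := (Finset.mem_filter.mp hp).2
      simp only [Finset.mem_sigma, Finset.mem_filter, Finset.mem_univ, true_and]
      exact ⟨by rw [← hp', hρψ], by rw [← hp', hρt]⟩
    refine hsub.trans ?_
    refine le_trans (Finset.sum_le_card_nsmul _ _ g.natDegree fun χ _ => ?_) ?_
    · set f := g.map (eval₂RingHom χ (φ tt)) with hf
      refine le_trans ?_ ((Multiset.toFinset_card_le _).trans ((card_roots' f).trans_eq (hg.natDegree_map _)))
      refine Finset.card_le_card_of_injOn (fun z => z.1.2) (fun z hz => ?_) fun z hz z' hz' h => ?_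
      · rw [Finset.mem_coe, Finset.mem_filter] at hz
        rw [Finset.mem_coe, Multiset.mem_toFinset, mem_roots (hg.map _).ne_zero, IsRoot, eval_map,
          ← hz.2]
        exact z.2.2
      · rw [Finset.mem_coe, Finset.mem_filter] at hz hz'
        exact Subtype.ext (Prod.ext (hz.2.trans hz'.2.symm) h)
    · rw [smul_eq_mul]
      refine Nat.mul_le_mul_right _ ?_
      refine le_trans (le_of_eq ?_) (hM (φ.comp ψ'))
      rw [Nat.card_eq_fintype_card, Fintype.card_subtype]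
  have h1 : Nat.card (R →+* k) * Q ≤ 2 * Fintype.card (Σ χ, T χ) := by
    rw [Fintype.card_sigma, Finset.mul_sum, Nat.card_eq_fintype_card, ← Finset.card_univ,
      ← smul_eq_mul, ← Finset.sum_const]
    exact Finset.sum_le_sum fun χ _ => by rw [← Nat.card_eq_fintype_card]; exact hT χ
  refine h1.trans ?_
  rw [mul_assoc 2]
  refine Nat.mul_le_mul_left _ ?_
  rw [← Finset.card_univ, Nat.card_eq_fintype_card]
  refine le_trans (Finset.card_le_mul_card_image (f := ρ) Finset.univ (M * g.natDegree) fun φ _ => hfib φ) ?_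
  exact Nat.mul_le_mul_left _ (Finset.card_le_univ _)

end Groth.Agent.LangWeil25
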