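import Groth.Agent.Lib.LangWeil25.Setup
import Groth.Agent.Lib.LangWeil25.Factor
import Groth.Agent.Lib.LangWeil25.StepAux
import Mathlib.FieldTheory.SeparablyGenerated
import Mathlib.RingTheory.AlgebraicIndependent.AlgebraicClosure
import Mathlib.RingTheory.AlgebraicIndependent.TranscendenceBasis
import Mathlib.RingTheory.AlgebraicIndependent.Transcendental

/-!
# Points of finitely generated domains in finite fields

For a finitely generated domain of transcendence degree `r` over the prime field there is a constant
`C` such that every large finite field `k` carrying a point of a fixed finitely generated domain of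
transcendence degree `0` has at least `|k| ^ r / C` points of the given one.
-/

set_option autoImplicit false

universe u v

namespace Groth.Agent.LangWeil25

open Polynomial IntermediateField

theorem exists_frac {k₀ : Type} [Field k₀] {K : Type u} [Field K] [Algebra k₀ K]
    (hprime : ∀ a : k₀, algebraMap k₀ K a ∈ (⊥ : Subfield K)) {S : Set K} {x : K}
    (hx : x ∈ adjoin k₀ S) :
    ∃ n ∈ Subring.closure S, ∃ d ∈ Subring.closure S, d ≠ 0 ∧ x * d = n := by
  have h : x ∈ Subfield.closure S := by
    have hle : (adjoin k₀ S).toSubfield ≤ Subfield.closure S := by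
      rw [adjoin_toSubfield, Subfield.closure_le]
      rintro y (⟨a, rfl⟩ | hy)
      · exact (bot_le : (⊥ : Subfield K) ≤ _) (hprime a)
      · exact Subfield.subset_closure hy
    exact hle hx
  obtain ⟨n, hn, d, hd, rfl⟩ := Subfield.mem_closure_iff.mp h
  by_cases hd0 : d = 0
  · exact ⟨0, zero_mem _, 1, one_mem _, one_ne_zero, by simp [hd0]⟩
  · exact ⟨n, hn, d, hd, hd0, div_mul_cancel₀ n hd0⟩

/-- A bivariate polynomial with all coefficients in the range of a map comes from one. -/
theorem exists_lift_two {A B : Type u} [CommRing A] [CommRing B] (f : A →+* B) {p : B[X][X]}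
    (h : ∀ n j, (p.coeff n).coeff j ∈ f.range) :
    ∃ p₀ : A[X][X], p₀.map (mapRingHom f) = p := by
  refine (mem_lifts p).mp ((lifts_iff_coeff_lifts p).mpr fun n => ?_)
  obtain ⟨q, hq⟩ := (mem_lifts (f := f) (p.coeff n)).mp
    ((lifts_iff_coeff_lifts _).mpr fun j => RingHom.mem_range.mp (h n j))
  exact ⟨q, hq⟩

/-- The inverse images of finitely many monic polynomials over `closure`. -/
theorem exists_pol {k₀ : Type} [Field k₀] {K : Type u} [Field K] [Algebra k₀ K]
    (hprime : ∀ a : k₀, algebraMap k₀ K a ∈ (⊥ : Subfield K)) {L : Type u} [Field L] [Algebra L K]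
    [Algebra k₀ L] [IsScalarTower k₀ L K] (T : Set L) (hT : adjoin k₀ T = ⊤) {z : K}
    (hz : IsAlgebraic L z) :
    ∃ p : K[X], p.leadingCoeff ≠ 0 ∧ p.eval z = 0 ∧
      ∀ n, p.coeff n ∈ Subring.closure (algebraMap L K '' T) := by
  classical
  set q := (minpoly L z).map (algebraMap L K) with hq
  have hqm : q.Monic := (minpoly.monic hz.isIntegral).map _
  have hmem : ∀ n, q.coeff n ∈ adjoin k₀ (algebraMap L K '' T) := fun n => by
    have h := IntermediateField.adjoin_map k₀ T (IsScalarTower.toAlgHom k₀ L K)
    rw [hT, IsScalarTower.coe_toAlgHom'] at h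
    rw [hq, coeff_map, ← h]
    exact ⟨_, trivial, rfl⟩
  choose nu hnu de hde hde0 heq using fun n => exists_frac hprime (hmem n)
  set s := Finset.range (q.natDegree + 1) with hs
  refine ⟨C (∏ n ∈ s, de n) * q, ?_, ?_, fun n => ?_⟩
  · rw [leadingCoeff_mul, leadingCoeff_C, hqm.leadingCoeff, mul_one]
    exact Finset.prod_ne_zero_iff.mpr fun n _ => hde0 n
  · rw [eval_mul, hq, eval_map, ← aeval_def, minpoly.aeval, mul_zero]
  · rw [coeff_C_mul]
    by_cases hn : n ∈ s
    · rw [← Finset.mul_prod_erase _ _ hn, mul_comm (de n), mul_assoc, mul_comm (de n), heq]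
      exact mul_mem (prod_mem fun m _ => hde m) (hnu n)
    · rw [coeff_eq_zero_of_natDegree_lt (Nat.lt_of_succ_le (not_lt.mp (Finset.mem_range.not.mp hn))),
        mul_zero]
      exact zero_mem _

/-- **Lang–Weil lower bound** for finitely generated domains. -/
theorem exists_points {k₀ : Type} [Field k₀] [PerfectField k₀] (r : ℕ) :
    ∀ {K : Type u} [Field K] [Algebra k₀ K],
      (∀ a : k₀, algebraMap k₀ K a ∈ (⊥ : Subfield K)) → ∀ S : Finset K,
      Algebra.trdeg k₀ (adjoin k₀ (S : Set K)) = r →
      ∃ (K₁ : Type u) (_ : Field K₁) (_ : Algebra k₀ K₁) (S₁ : Finset K₁) (C q₀ : ℕ),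
        (∀ a : k₀, algebraMap k₀ K₁ a ∈ (⊥ : Subfield K₁)) ∧
        Algebra.IsAlgebraic k₀ (adjoin k₀ (S₁ : Set K₁)) ∧
        ∀ (k : Type v) [Field k] [Finite k], q₀ ≤ Nat.card k →
          Nonempty (Subring.closure (S₁ : Set K₁) →+* k) →
          Nat.card k ^ r ≤ C * Nat.card (Subring.closure (S : Set K) →+* k) := by
  induction r with
  | zero =>
    intro K _ _ hprime S hS
    refine ⟨K, inferInstance, inferInstance, S, 1, 0, hprime, trdeg_eq_zero_iff.mp (by simpa using hS),
      fun k _ _ _ hne => ?_⟩
    haveI := finite_hom_closure S k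
    rw [pow_zero, one_mul]
    exact Nat.card_pos
  | succ r ih =>
    intro K _ _ hprime S hS
    classical
    set F := adjoin k₀ (S : Set K) with hF
    haveI : Algebra.EssFiniteType k₀ F :=
      IntermediateField.essFiniteType_iff.mpr ⟨S, rfl⟩
    obtain ⟨s, hs, hsep⟩ := exists_isTranscendenceBasis_and_isSeparable_of_perfectField k₀ F
    have hscard : s.card = r + 1 := by
      have h := hs.cardinalMk_eq_trdeg
      rw [hS, Cardinal.mk_coe_finset] at h
      exact_mod_cast h
    obtain ⟨t, ht⟩ := Finset.card_pos.mp (by omega : 0 < s.card)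
    set s' := s.erase t with hs'
    set L : IntermediateField k₀ F := adjoin k₀ (s' : Set F) with hL
    have hprimeF : ∀ a : k₀, algebraMap k₀ F a ∈ (⊥ : Subfield F) := fun a => by
      have h : (⊥ : Subfield K) ≤ (⊥ : Subfield F).map (F.toSubfield.subtype) := bot_le
      obtain ⟨b, hb, hb'⟩ := h (hprime a)
      rwa [show algebraMap k₀ F a = b from Subtype.ext hb'.symm]
    -- `t` is transcendental over `L` and `F` is separable over `L(t)`
    have himage : ((fun i : s => (i : F)) '' {i | (i : F) ≠ t}) = (s' : Set F) := by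
      ext x
      simp [hs', and_comm]
    have htr : Transcendental L t := by
      have h := hs.1.transcendental_adjoin (s := {i : s | (i : F) ≠ t}) (i := ⟨t, ht⟩) (by simp)
      rw [himage] at h
      exact IntermediateField.transcendental_adjoin_iff.mpr h
    have hsepF : ∀ z : F, IsSeparable L⟮t⟯ z := by
      have heq : (L⟮t⟯).restrictScalars k₀ = adjoin k₀ (s : Set F) := by
        rw [hL, adjoin_adjoin_left]
        congr 1
        rw [hs', Finset.coe_erase, Set.diff_union_self, Set.union_eq_left.mpr]
        simpa using ht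
      rw [← heq] at hsep
      exact fun z => (Algebra.isSeparable_def _ _).mp hsep z
    -- the generators, with denominators
    have hfrac : ∀ w : F, ∃ n ∈ Subring.closure (Subtype.val ⁻¹' (S : Set K) : Set F),
        ∃ d ∈ Subring.closure (Subtype.val ⁻¹' (S : Set K) : Set F), d ≠ 0 ∧ w * d = n := by
      intro w
      obtain ⟨n, hn, d, hd, hd0, heq⟩ := exists_frac hprime w.2
      have hle : ∀ x ∈ Subring.closure (S : Set K), ∃ hx : x ∈ F,
          (⟨x, hx⟩ : F) ∈ Subring.closure (Subtype.val ⁻¹' (S : Set K) : Set F) := by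
        intro x hx
        induction hx using Subring.closure_induction with
        | mem y hy => exact ⟨subset_adjoin _ _ hy, Subring.subset_closure hy⟩
        | zero => exact ⟨zero_mem _, zero_mem _⟩
        | one => exact ⟨one_mem _, one_mem _⟩
        | add a b _ _ iha ihb =>
          obtain ⟨ha, ha'⟩ := iha
          obtain ⟨hb, hb'⟩ := ihb
          exact ⟨add_mem ha hb, add_mem ha' hb'⟩
        | neg a _ iha =>
          obtain ⟨ha, ha'⟩ := iha
          exact ⟨neg_mem ha, neg_mem ha'⟩
        | mul a b _ _ iha ihb =>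
          obtain ⟨ha, ha'⟩ := iha
          obtain ⟨hb, hb'⟩ := ihb
          exact ⟨mul_mem ha hb, mul_mem ha' hb'⟩
      obtain ⟨hnF, hn'⟩ := hle n hn
      obtain ⟨hdF, hd'⟩ := hle d hd
      exact ⟨⟨n, hnF⟩, hn', ⟨d, hdF⟩, hd', fun h => hd0 (congrArg Subtype.val h),
        Subtype.ext (by simpa using heq)⟩
    choose num hnum den hden hden0 hfr using hfrac
    set SF : Finset F := S.attach.image fun x => ⟨x.1, subset_adjoin _ _ x.2⟩ with hSF
    set us : Finset F := SF ∪ s ∪ s.image fun w => (den w)⁻¹ with hus
    -- the covering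
    obtain ⟨Ω, _, τ, β, ι, g, δ, P, i₀, U, hgm, hgirr, hgdvd, hder, hδ0, hτ, hroots, hPi₀,
      hιL, hιt, hιU⟩ := exists_cover t htr hsepF us
    set KK := AlgebraicClosure L
    obtain ⟨c, hc⟩ : ∃ c, c = (Finset.range (g.natDegree + 1)).sup fun i => (g.coeff i).natDegree :=
      ⟨_, rfl⟩
    have hwb : WBound g c := fun i => by
      rcases lt_trichotomy i g.natDegree with h | h | h
      · rw [hc]; refine le_trans (Finset.le_sup (f := fun i => (g.coeff i).natDegree)
          (Finset.mem_range.mpr (by omega))) (Nat.le_mul_of_pos_right _ (by omega))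
      · rw [h, hgm.coeff_natDegree, natDegree_one]; exact Nat.zero_le _
      · rw [coeff_eq_zero_of_natDegree_lt h, natDegree_zero]; exact Nat.zero_le _
    obtain ⟨e, he⟩ : ∃ e, e = δ.natDegree + Finset.univ.sup (fun i : Fin g.natDegree =>
      (P i).support.sup fun n => ((P i).coeff n).natDegree + c * n) := ⟨_, rfl⟩
    obtain ⟨Z₁, hZ₁⟩ := exists_irreducible_spread.{u, v} hgm hgirr hwb
    obtain ⟨dn, hdn⟩ : ∃ n, (derivative g).coeff n ≠ 0 := by
      by_contra h
      push Not at h
      exact hder (Polynomial.ext fun n => by rw [h n, coeff_zero])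
    -- the finite set generating the base ring
    let co : KK[X] → Finset KK := fun q => q.support.image q.coeff
    let co2 : KK[X][X] → Finset KK := fun q => q.support.biUnion fun n => co (q.coeff n)
    let base : Finset KK := s'.image fun w =>
      if h : w ∈ L then algebraMap L KK ⟨w, h⟩ else 0
    set Z₀ : Finset KK := base ∪ co2 g ∪ co δ ∪ (Finset.univ.biUnion fun i => co2 (P i)) ∪
      (us.biUnion fun w => co2 (U w)) ∪ Z₁ ∪
      {δ.leadingCoeff⁻¹, (((derivative g).coeff dn).leadingCoeff)⁻¹} with hZ₀
    set T : Set L := Subtype.val ⁻¹' (s' : Set F) with hT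
    have hTgen : adjoin k₀ T = ⊤ := by
      refine eq_top_iff.mpr fun x _ => ?_
      have hx : (x : F) ∈ (adjoin k₀ T).map L.val := by
        rw [IntermediateField.adjoin_map]
        have : L.val '' T = (s' : Set F) := by
          rw [hT, IntermediateField.coe_val, Set.image_preimage_eq_iff.mpr]
          exact fun y hy => ⟨⟨y, subset_adjoin _ _ hy⟩, rfl⟩
        rw [this]
        exact x.2
      obtain ⟨y, hy, hyx⟩ := hx
      rwa [show x = y from Subtype.ext hyx.symm]
    have hprimeKK : ∀ a : k₀, algebraMap k₀ KK a ∈ (⊥ : Subfield KK) := fun a => by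
      have h : (⊥ : Subfield F) ≤ (⊥ : Subfield L).map (L.toSubfield.subtype) := bot_le
      obtain ⟨b, hb, hb'⟩ := h (hprimeF a)
      have h2 : (⊥ : Subfield L) ≤ (⊥ : Subfield KK).comap (algebraMap L KK) := bot_le
      rw [IsScalarTower.algebraMap_apply k₀ L KK, show algebraMap k₀ L a = b from Subtype.ext hb'.symm]
      exact h2 hb
    set R₀ := Subring.closure (algebraMap L KK '' T) with hR₀
    have hpol : ∀ z : KK, ∃ p : KK[X], p.leadingCoeff ≠ 0 ∧ p.eval z = 0 ∧ ∀ n, p.coeff n ∈ R₀ :=
      fun z => exists_pol hprimeKK T hTgen (Algebra.IsAlgebraic.isAlgebraic z)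
    choose pol hpol0 hpolz hpolR using hpol
    set Z : Finset KK := Z₀ ∪ Z₀.image fun z => ((pol z).leadingCoeff)⁻¹ with hZ
    set R := Subring.closure (Z : Set KK) with hR
    have hZR : ∀ z ∈ Z₀, z ∈ R := fun z hz =>
      Subring.subset_closure (Finset.mem_union_left _ hz)
    have hco : ∀ (q : KK[X]), (↑(co q) : Set KK) ⊆ R → ∀ j, q.coeff j ∈ R := fun q h j => by
      by_cases hj : q.coeff j = 0
      · rw [hj]; exact zero_mem _
      · exact h (Finset.mem_image_of_mem _ (mem_support_iff.mpr hj))
    have hco2 : ∀ (q : KK[X][X]), (↑(co2 q) : Set KK) ⊆ R → ∀ n j, (q.coeff n).coeff j ∈ R.subtype.range :=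
      fun q h n j => ⟨⟨(q.coeff n).coeff j, by
        by_cases hn : q.coeff n = 0
        · simp [hn]
        · exact hco _ (fun z hz => h (Finset.mem_biUnion.mpr ⟨n, mem_support_iff.mpr hn, hz⟩)) j⟩, rfl⟩
    have hsub : ∀ A : Finset KK, A ⊆ Z₀ → (↑A : Set KK) ⊆ R := fun A h z hz => hZR z (h hz)
    have hR₀R : R₀ ≤ R := by
      rw [hR₀, Subring.closure_le]
      rintro _ ⟨⟨w, hwL⟩, hw, rfl⟩
      refine hZR _ ?_
      simp only [hZ₀, Finset.mem_union]
      left; left; left; left; left; left
      exact Finset.mem_image.mpr ⟨w, hw, by rw [dif_pos hwL]⟩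
    -- lift everything to `R`
    obtain ⟨g₀, hg₀⟩ := exists_lift_two R.subtype (hco2 g (hsub _ (by
      intro z hz; simp only [hZ₀, Finset.mem_union]; tauto)))
    have hinj : Function.Injective (mapRingHom R.subtype) :=
      Polynomial.map_injective _ Subtype.val_injective
    have hg₀m : g₀.Monic := monic_of_injective hinj (by rw [hg₀]; exact hgm)
    have hdeg : g₀.natDegree = g.natDegree := by
      rw [← hg₀, natDegree_map_eq_of_injective hinj]
    obtain ⟨δ₀, hδ₀⟩ : ∃ q : R[X], q.map R.subtype = δ := (mem_lifts δ).mp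
      ((lifts_iff_coeff_lifts δ).mpr fun j => ⟨⟨_, hco δ (hsub _ (by
        intro z hz; simp only [hZ₀, Finset.mem_union]; tauto)) j⟩, rfl⟩)
    choose P₀ hP₀ using fun i => exists_lift_two R.subtype (hco2 (P i) (hsub _ (by
      intro z hz
      simp only [hZ₀, Finset.mem_union]
      have : z ∈ Finset.univ.biUnion fun i => co2 (P i) :=
        Finset.mem_biUnion.mpr ⟨i, Finset.mem_univ _, hz⟩
      tauto)))
    have hUl : ∀ w ∈ us, ∃ q : R[X][X], q.map (mapRingHom R.subtype) = U w := fun w hw =>
      exists_lift_two R.subtype (hco2 (U w) (hsub _ (by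
        intro z hz
        simp only [hZ₀, Finset.mem_union]
        have : z ∈ us.biUnion fun w => co2 (U w) := Finset.mem_biUnion.mpr ⟨w, hw, hz⟩
        tauto)))
    choose! U₀ hU₀ using hUl
    -- the coordinate ring inside `Ω`
    let τ₀ : R[X] →+* Ω := τ.comp (mapRingHom R.subtype)
    have hrel : g₀.eval₂ τ₀ β = 0 := by
      rw [← eval₂_map, hg₀]; exact (hgdvd g).mpr dvd_rfl
    let ev : AdjoinRoot g₀ →+* Ω := AdjoinRoot.lift τ₀ β hrel
    have hev : Function.Injective ev := by
      rw [injective_iff_map_eq_zero]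
      intro a ha
      obtain ⟨q, rfl⟩ := AdjoinRoot.mk_surjective a
      rw [AdjoinRoot.lift_mk, ← eval₂_map] at ha
      rw [AdjoinRoot.mk_eq_zero, ← Polynomial.map_dvd_map (mapRingHom R.subtype) hinj hg₀m, hg₀]
      exact (hgdvd _).mp ha
    have hevmk : ∀ q : R[X][X], ev (AdjoinRoot.mk g₀ q) = (q.map (mapRingHom R.subtype)).eval₂ τ β :=
      fun q => by rw [AdjoinRoot.lift_mk, eval₂_map]
    have hevof : ∀ q : R[X], ev (AdjoinRoot.of g₀ q) = τ (q.map R.subtype) :=
      fun q => AdjoinRoot.lift_of _
    set δA := AdjoinRoot.of g₀ δ₀ with hδA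
    have hδu : IsUnit (ev δA) := by
      rw [hevof, hδ₀, isUnit_iff_ne_zero, map_ne_zero_iff _ hτ]
      exact hδ0
    let Φ₀ : Localization.Away δA →+* Ω := IsLocalization.Away.lift δA hδu
    have hΦ₀ : Function.Injective Φ₀ := by
      rw [injective_iff_map_eq_zero]
      intro x hx
      obtain ⟨⟨a, ⟨_, n, rfl⟩⟩, hax⟩ := IsLocalization.surj (Submonoid.powers δA) x
      have h1 := congrArg Φ₀ hax
      rw [map_mul, hx, zero_mul] at h1
      simp only [Φ₀, IsLocalization.Away.lift_eq] at h1
      have ha : a = 0 := hev (by rw [← h1, map_zero])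
      rw [ha, map_zero] at hax
      exact (IsLocalization.map_units (Localization.Away δA) _).mul_left_eq_zero.mp hax
    set RR := Subring.closure (us : Set F) with hRR
    have hrange : ∀ x : RR, ι x ∈ Φ₀.range := by
      intro x
      have hle : RR ≤ Φ₀.range.comap ι := by
        rw [hRR, Subring.closure_le]
        intro w hw
        rw [SetLike.mem_coe, Subring.mem_comap]
        refine ⟨algebraMap _ _ (AdjoinRoot.mk g₀ (U₀ w)) *
          IsLocalization.Away.invSelf δA, ?_⟩
        refine mul_right_cancel₀ hδu.ne_zero ?_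
        rw [map_mul, mul_assoc, show Φ₀ (IsLocalization.Away.invSelf δA) * ev δA =
          Φ₀ (IsLocalization.Away.invSelf δA * algebraMap _ _ δA) by
            rw [map_mul]; simp [Φ₀, IsLocalization.Away.lift_eq],
          mul_comm (IsLocalization.Away.invSelf δA), IsLocalization.Away.mul_invSelf, map_one, mul_one]
        simp only [Φ₀, IsLocalization.Away.lift_eq]
        rw [hevmk, hU₀ w hw, ← hιU w hw, hevof, hδ₀]
      exact hle x.2
    choose Φfun hΦfun using fun x => RingHom.mem_range.mp (hrange x)
    let Φ : RR →+* Localization.Away δA :=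
      { toFun := Φfun
        map_one' := hΦ₀ (by rw [hΦfun]; simp)
        map_mul' := fun x y => hΦ₀ (by simp [hΦfun])
        map_zero' := hΦ₀ (by rw [hΦfun]; simp)
        map_add' := fun x y => hΦ₀ (by simp [hΦfun]) }
    have hΦeq : ∀ (x : RR) (y : AdjoinRoot g₀), ι x = ev y →
        Φ x = algebraMap _ _ y := fun x y h => hΦ₀ (by
      rw [show Φ₀ (Φ x) = ι x from hΦfun x, h]
      simp [Φ₀, IsLocalization.Away.lift_eq])
    -- the subring generated by `s'`
    set R₀F := Subring.closure (T : Set L) with hR₀F
    let ψ : R₀F →+* R := ((algebraMap L KK).comp R₀F.subtype).codRestrict R fun x => by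
      refine hR₀R ?_
      rw [hR₀, ← RingHom.map_closure]
      exact ⟨x.1, x.2, rfl⟩
    let ψ' : R₀F →+* RR := (L.toSubalgebra.toSubring.subtype.comp R₀F.subtype).codRestrict RR
      fun x => by
        have hle : R₀F ≤ RR.comap L.toSubalgebra.toSubring.subtype := by
          rw [hR₀F, Subring.closure_le]
          intro w hw
          refine Subring.subset_closure ?_
          rw [hus, Finset.coe_union, Finset.coe_union]
          exact Or.inl (Or.inr (Finset.mem_of_mem_erase hw))
        exact hle x.2
    -- the bound on the number of extensions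
    have hlift1 : ∀ z, ∃ q : R₀F[X], q.map ((algebraMap L KK).comp R₀F.subtype) = pol z := fun z =>
      (mem_lifts _).mp ((lifts_iff_coeff_lifts _).mpr fun n => by
        have h := hpolR z n
        rw [hR₀, ← RingHom.map_closure] at h
        obtain ⟨y, hy, hy'⟩ := h
        exact ⟨⟨y, hy⟩, hy'⟩)
    choose pol₀ hpol₀ using hlift1
    have hinjR₀ : Function.Injective ((algebraMap L KK).comp R₀F.subtype) :=
      (algebraMap L KK).injective.comp Subtype.val_injective
    set M := ∏ z : {z // z ∈ Z₀}, (pol₀ z).natDegree with hM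
    have hMb : ∀ (k : Type v) [Field k] [Finite k] (φ₀ : R₀F →+* k),
        Nat.card {φ : R →+* k // φ.comp ψ = φ₀} ≤ M := by
      intro k _ _ φ₀
      refine card_ext_le ψ (fun z : {z // z ∈ Z₀} => (⟨z, hZR z z.2⟩ : R)) (fun z => pol₀ z)
        (fun z => Subtype.val_injective ?_) (fun z => ?_) ?_ φ₀
      · change R.subtype _ = R.subtype 0
        rw [hom_eval₂, map_zero]
        change (pol₀ z).eval₂ ((algebraMap L KK).comp R₀F.subtype) (z : KK) = 0
        rw [← eval_map, hpol₀]
        exact hpolz z
      · have hlc : (pol z).leadingCoeff = (algebraMap L KK).comp R₀F.subtype (pol₀ z).leadingCoeff := by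
          rw [← hpol₀, leadingCoeff_map_of_injective hinjR₀]
        refine IsUnit.of_mul_eq_one ⟨((pol z).leadingCoeff)⁻¹,
          Subring.subset_closure (Finset.mem_union_right _ (Finset.mem_image_of_mem _ z.2))⟩
          (Subtype.ext ?_)
        change _ * _ = (1 : KK)
        have key : ((ψ (pol₀ z).leadingCoeff : R) : KK) = (pol z).leadingCoeff := hlc.symm
        rw [key]
        exact mul_inv_cancel₀ (hpol0 z)
      · intro φ φ' hz hψ
        refine hom_ext_closure fun x hx => ?_
        rcases Finset.mem_union.mp hx with h | h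
        · exact hz ⟨x, h⟩
        · obtain ⟨z, hz₀, rfl⟩ := Finset.mem_image.mp h
          have hlc : (pol z).leadingCoeff = (algebraMap L KK).comp R₀F.subtype (pol₀ z).leadingCoeff := by
            rw [← hpol₀, leadingCoeff_map_of_injective hinjR₀]
          set u : R := ψ (pol₀ z).leadingCoeff with hu
          set v : R := ⟨((pol z).leadingCoeff)⁻¹, Subring.subset_closure hx⟩ with hv
          have huv : u * v = 1 := Subtype.ext (by
            change _ * _ = (1 : KK)
            rw [hv]
            simp only
            rw [show ((u : R) : KK) = (pol z).leadingCoeff from hlc.symm]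
            exact mul_inv_cancel₀ (hpol0 z))
          have h1 : φ u * φ v = 1 := by rw [← map_mul, huv, map_one]
          have h2 : φ u * φ' v = 1 := by
            rw [show φ u = φ' u from RingHom.congr_fun hψ _, ← map_mul, huv, map_one]
          exact mul_left_cancel₀ (left_ne_zero_of_mul_eq_one h1) (h1.trans h2.symm)
    -- the transcendence degree of the new base
    have htrdeg : Algebra.trdeg k₀ (adjoin k₀ (Z : Set KK)) = r := by
      have hs'ind : AlgebraicIndependent k₀ (fun w : {w // w ∈ s'} => (⟨w.1, subset_adjoin _ _ w.2⟩ : L)) := by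
        refine AlgebraicIndependent.of_comp L.val ?_
        exact hs.1.comp (fun w : {w // w ∈ s'} => (⟨w.1, Finset.mem_of_mem_erase w.2⟩ : s))
          (fun a b h => Subtype.ext (Subtype.ext_iff.mp h :))
      have hLr : Algebra.trdeg k₀ L = r := by
        have hb : IsTranscendenceBasis k₀ (fun w : {w // w ∈ s'} => (⟨w.1, subset_adjoin _ _ w.2⟩ : L)) := by
          rw [hs'ind.isTranscendenceBasis_iff_isAlgebraic, ← IntermediateField.isAlgebraic_adjoin_iff_top]
          have hrg : Set.range (fun w : {w // w ∈ s'} => (⟨w.1, subset_adjoin _ _ w.2⟩ : L)) = T := by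
            ext ⟨x, hx⟩
            simp [hT]
          rw [hrg, hTgen]
          exact ⟨fun x => isAlgebraic_algebraMap (⟨x, trivial⟩ : (⊤ : IntermediateField k₀ L))⟩
        rw [← hb.cardinalMk_eq_trdeg, Cardinal.mk_coe_finset, hs', Finset.card_erase_of_mem ht, hscard]
        simp
      have hKKr : Algebra.trdeg k₀ KK = r := by
        rw [← trdeg_add_eq k₀ L (A := KK), hLr, trdeg_eq_zero, add_zero]
      refine le_antisymm (hKKr ▸ trdeg_le_of_injective (adjoin k₀ (Z : Set KK)).val Subtype.val_injective) ?_
      have hLle : ∀ x : L, algebraMap L KK x ∈ adjoin k₀ (Z : Set KK) := by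
        intro x
        have hle : (⊤ : IntermediateField k₀ L) ≤
            (adjoin k₀ (Z : Set KK)).comap (IsScalarTower.toAlgHom k₀ L KK) := by
          rw [← hTgen, adjoin_le_iff]
          intro w hw
          refine subset_adjoin _ _ (Finset.mem_union_left _ ?_)
          simp only [hZ₀, Finset.mem_union]
          left; left; left; left; left; left
          exact Finset.mem_image.mpr ⟨w.1, hw, by rw [dif_pos w.2]; rfl⟩
        exact hle trivial
      exact hLr ▸ trdeg_le_of_injective
        ((IsScalarTower.toAlgHom k₀ L KK).codRestrict (adjoin k₀ (Z : Set KK)).toSubalgebra hLle)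
        (fun a b h => (algebraMap L KK).injective (congrArg Subtype.val h))
    obtain ⟨K₁, iF, iA, S₁, C₁, q₁, hp₁, halg₁, hbound⟩ := ih hprimeKK Z htrdeg
    refine ⟨K₁, iF, iA, S₁, C₁ * (2 * (M * g₀.natDegree)),
      max q₁ ((6 * lowC c g₀.natDegree e + 3) * (6 * lowC c g₀.natDegree e + 3)), hp₁, halg₁, ?_⟩
    intro k _ _ hk hne
    haveI := finite_hom_closure Z k
    haveI := finite_hom_closure us k
    have h1 := hbound k (le_trans (le_max_left _ _) hk) hne
    -- restriction is injective
    have hres : Nat.card (RR →+* k) ≤ Nat.card (Subring.closure (S : Set K) →+* k) := by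
      haveI := finite_hom_closure S k
      let j : Subring.closure (S : Set K) →+* RR :=
        { toFun := fun x => ⟨⟨x.1, (Subring.closure_le.mpr (subset_adjoin k₀ (S : Set K)) :
              Subring.closure (S : Set K) ≤ F.toSubalgebra.toSubring) x.2⟩, by
            have hle : Subring.closure (S : Set K) ≤ RR.map F.toSubalgebra.toSubring.subtype := by
              rw [Subring.closure_le]
              intro y hy
              refine ⟨⟨y, subset_adjoin _ _ hy⟩, Subring.subset_closure ?_, rfl⟩
              rw [hus, Finset.coe_union, Finset.coe_union]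
              exact Or.inl (Or.inl (Finset.mem_image.mpr ⟨⟨y, hy⟩, Finset.mem_attach _ _, rfl⟩))
            obtain ⟨y, hy, hyx⟩ := hle x.2
            convert! hy using 1; exact (Subtype.ext hyx).symm⟩
          map_one' := rfl
          map_mul' := fun _ _ => rfl
          map_zero' := rfl
          map_add' := fun _ _ => rfl }
      refine Nat.card_le_card_of_injective (fun φ => φ.comp j) fun φ φ' h => ?_
      have hcl : ∀ y : F, y ∈ Subring.closure (Subtype.val ⁻¹' (S : Set K) : Set F) →
          ∀ hy : y ∈ RR, φ ⟨y, hy⟩ = φ' ⟨y, hy⟩ := by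
        intro y hy hyR
        have hyS : (y : K) ∈ Subring.closure (S : Set K) := by
          have hle : Subring.closure (Subtype.val ⁻¹' (S : Set K) : Set F) ≤
              (Subring.closure (S : Set K)).comap F.toSubalgebra.toSubring.subtype := by
            rw [Subring.closure_le]
            exact fun w hw => Subring.subset_closure hw
          exact hle hy
        exact RingHom.congr_fun h ⟨_, hyS⟩
      refine hom_ext_closure fun x hx => ?_
      have hsden : ∀ w ∈ s, ∀ hd : (den w)⁻¹ ∈ RR, φ ⟨_, hd⟩ = φ' ⟨_, hd⟩ := by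
        intro w hw hd
        have hdR : den w ∈ RR := Subring.closure_mono (fun y hy => by
          rw [hus, Finset.coe_union, Finset.coe_union]
          exact Or.inl (Or.inl (Finset.mem_image.mpr ⟨⟨(y : K), hy⟩, Finset.mem_attach _ _, rfl⟩)))
          (hden w)
        have huv : (⟨den w, hdR⟩ : RR) * ⟨_, hd⟩ = 1 := Subtype.ext (mul_inv_cancel₀ (hden0 w))
        have h1 : φ ⟨den w, hdR⟩ * φ ⟨_, hd⟩ = 1 := by rw [← map_mul, huv, map_one]
        have h2 : φ ⟨den w, hdR⟩ * φ' ⟨_, hd⟩ = 1 := by
          rw [hcl _ (hden w) hdR, ← map_mul, huv, map_one]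
        exact mul_left_cancel₀ (left_ne_zero_of_mul_eq_one h1) (h1.trans h2.symm)
      have hx' := hx
      rw [hus, Finset.coe_union, Finset.coe_union] at hx'
      rcases hx' with (hx' | hx') | hx'
      · obtain ⟨y, -, rfl⟩ := Finset.mem_image.mp hx'
        exact hcl _ (Subring.subset_closure y.2) _
      · have hd : (den x)⁻¹ ∈ RR := Subring.subset_closure (by
          rw [hus, Finset.coe_union, Finset.coe_union]
          exact Or.inr (Finset.mem_image_of_mem _ hx'))
        have hnR : num x ∈ RR := Subring.closure_mono (fun y hy => by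
          rw [hus, Finset.coe_union, Finset.coe_union]
          exact Or.inl (Or.inl (Finset.mem_image.mpr ⟨⟨(y : K), hy⟩, Finset.mem_attach _ _, rfl⟩)))
          (hnum x)
        have hxe : (⟨x, Subring.subset_closure hx⟩ : RR) = ⟨num x, hnR⟩ * ⟨_, hd⟩ := Subtype.ext (by
          change x = num x * (den x)⁻¹
          rw [← hfr x, mul_inv_cancel_right₀ (hden0 x)])
        rw [hxe, map_mul, map_mul, hcl _ (hnum x) hnR, hsden x hx' hd]
      · obtain ⟨w, hw, rfl⟩ := Finset.mem_image.mp hx'
        exact hsden w hw _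
    refine le_trans ?_ (Nat.mul_le_mul_left _ hres)
    -- apply the step
    let e' : Fin g₀.natDegree ≃ Fin g.natDegree := finCongr hdeg
    have hstep := count_step ψ ψ' g₀ hg₀m (c := c) (e := e) (M := M)
      (fun L' _ φ => hZ₁ R R.subtype Subtype.val_injective (fun z hz => ⟨⟨z, hZR z (by
        simp only [hZ₀, Finset.mem_union]; tauto)⟩, rfl⟩) g₀ hg₀m hg₀ L' φ)
      (by
        refine ⟨dn, ((derivative g).coeff dn).natDegree, ?_⟩
        have h0 : ((derivative g).coeff dn).leadingCoeff ≠ 0 := leadingCoeff_ne_zero.mpr hdn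
        refine IsUnit.of_mul_eq_one ⟨(((derivative g).coeff dn).leadingCoeff)⁻¹, hZR _ (by
          simp [hZ₀])⟩ (Subtype.ext ?_)
        change R.subtype _ * _ = (1 : KK)
        rw [show R.subtype (((derivative g₀).coeff dn).coeff ((derivative g).coeff dn).natDegree) =
          ((derivative g).coeff dn).leadingCoeff by
            rw [← hg₀, derivative_map, coeff_map, coe_mapRingHom, leadingCoeff, coeff_map]]
        exact mul_inv_cancel₀ h0)
      δ₀ (by
        refine IsUnit.of_mul_eq_one ⟨δ.leadingCoeff⁻¹, hZR _ (by simp [hZ₀])⟩ (Subtype.ext ?_)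
        change R.subtype δ₀.leadingCoeff * _ = (1 : KK)
        rw [← leadingCoeff_map_of_injective (f := R.subtype) Subtype.val_injective, hδ₀]
        exact mul_inv_cancel₀ (leadingCoeff_ne_zero.mpr hδ0))
      (by rw [← natDegree_map_eq_of_injective (f := R.subtype) Subtype.val_injective δ₀, hδ₀, he]; omega)
      (fun i => P₀ (e' i))
      (fun i n hn => by
        have hne : (P (e' i)).coeff n ≠ 0 := by
          rw [← hP₀, coeff_map]
          exact fun h => hn (hinj (by rw [h, map_zero]))
        have hd : ((P₀ (e' i)).coeff n).natDegree = ((P (e' i)).coeff n).natDegree := by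
          rw [← hP₀ (e' i), coeff_map, coe_mapRingHom,
            natDegree_map_eq_of_injective Subtype.val_injective]
        rw [hd, he]
        refine le_trans ?_ (Nat.le_add_left _ _)
        exact le_trans (Finset.le_sup (f := fun n => ((P (e' i)).coeff n).natDegree + c * n)
          (mem_support_iff.mpr hne)) (Finset.le_sup (f := fun i : Fin g.natDegree =>
            (P i).support.sup fun n => ((P i).coeff n).natDegree + c * n) (Finset.mem_univ (e' i))))
      (by
        refine Polynomial.map_injective ev hev ?_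
        rw [Polynomial.map_mul, Polynomial.map_prod, Polynomial.map_C, map_pow, Polynomial.map_map,
          hevof, hδ₀]
        have hcomp : ev.comp (AdjoinRoot.of g₀) = τ.comp (mapRingHom R.subtype) :=
          RingHom.ext fun q => AdjoinRoot.lift_of hrel
        rw [hcomp, ← Polynomial.map_map, hg₀, show τ δ ^ g₀.natDegree = τ δ ^ g.natDegree from
          congrArg _ hdeg, hroots]
        refine (Fintype.prod_equiv e' _ _ fun i => ?_).symm
        rw [Polynomial.map_sub, Polynomial.map_mul, Polynomial.map_C, Polynomial.map_X, Polynomial.map_C,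
          hevof, hevmk, hP₀, hδ₀])
      (e'.symm i₀) (hev (by
        rw [e'.apply_symm_apply, hevmk, hP₀, hPi₀, map_mul, hevof, hδ₀, eval₂_mul, eval₂_C, eval₂_X]
        exact congrArg _ (AdjoinRoot.lift_root hrel).symm))
      Φ ⟨t, Subring.subset_closure (by
        rw [hus, Finset.coe_union, Finset.coe_union]; exact Or.inl (Or.inr ht))⟩
      (hΦeq _ _ (by rw [hevof, hιt, Polynomial.map_X]))
      (fun y => hΦeq _ _ (by
        rw [hevof, Polynomial.map_C]
        exact hιL (y : L)))
      k (fun φ₀ => hMb k φ₀) (le_trans (le_max_right _ _) hk)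
    calc Nat.card k ^ (r + 1) = Nat.card k ^ r * Nat.card k := pow_succ _ _
      _ ≤ C₁ * Nat.card (R →+* k) * Nat.card k := Nat.mul_le_mul_right _ h1
      _ ≤ C₁ * (2 * (M * g₀.natDegree) * Nat.card (RR →+* k)) := by
          rw [mul_assoc]; exact Nat.mul_le_mul_left _ hstep
      _ = C₁ * (2 * (M * g₀.natDegree)) * Nat.card (RR →+* k) := by ring

end Groth.Agent.LangWeil25
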