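import Groth.Agent.Lib.FunFldRH25.Model
import Groth.Agent.Lib.LangWeil25.Model

/-!
# A plane model of a geometric extension is absolutely irreducible
-/

set_option autoImplicit false

namespace Groth.Agent.LangWeil25

open Polynomial FunFld FunField FunFldRH25
open scoped TensorProduct

universe u

theorem irreducible_map_of_geometric {L K : Type u} [Field L] [Field K] [Algebra L K] (M : Model L K)
    (hg : IsGeometric L K) : Irreducible (M.h₀.map (mapRingHom (algebraMap L (AlgebraicClosure L)))) := by
  classical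
  set Lb := AlgebraicClosure L
  set hb := M.h₀.map (mapRingHom (algebraMap L Lb)) with hhb
  have hbm : hb.Monic := M.monic.map _
  have hD : hb.natDegree = M.h₀.natDegree := M.monic.natDegree_map _
  have hD0 : 0 < M.h₀.natDegree :=
    Nat.pos_of_ne_zero fun h0 => M.der (by rw [eq_C_of_natDegree_eq_zero h0, derivative_C])
  refine (hbm.irreducible_iff_natDegree).2 ⟨fun h1 => by
    rw [h1, natDegree_one] at hD; omega, fun g₁ g₂ hm₁ hm₂ hprod => ?_⟩
  -- a finite field of definition
  let co : Lb[X][X] → Finset Lb := fun w => (Finset.range (w.natDegree + 1)).biUnion fun n =>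
    (Finset.range ((w.coeff n).natDegree + 1)).image fun j => (w.coeff n).coeff j
  set S := co g₁ ∪ co g₂
  set L' : IntermediateField L Lb := IntermediateField.adjoin L (S : Set Lb)
  haveI : FiniteDimensional L L' :=
    IntermediateField.finiteDimensional_adjoin fun a _ => Algebra.IsIntegral.isIntegral a
  have hmem : ∀ (w : Lb[X][X]), co w ⊆ S → ∀ n j, (w.coeff n).coeff j ∈ (L'.val.toRingHom).range := by
    intro w hw n j
    have : (w.coeff n).coeff j ∈ L' := by
      by_cases hn : n ∈ Finset.range (w.natDegree + 1)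
      · by_cases hj : j ∈ Finset.range ((w.coeff n).natDegree + 1)
        · exact IntermediateField.subset_adjoin L _
            (hw (Finset.mem_biUnion.2 ⟨n, hn, Finset.mem_image.2 ⟨j, hj, rfl⟩⟩))
        · rw [coeff_eq_zero_of_natDegree_lt (by simpa using hj)]; exact zero_mem _
      · rw [coeff_eq_zero_of_natDegree_lt (p := w) (by simpa using hn), coeff_zero]; exact zero_mem _
    exact ⟨⟨_, this⟩, rfl⟩
  obtain ⟨a₁, ha₁⟩ := exists_lift_two L'.val.toRingHom (hmem g₁ Finset.subset_union_left)
  obtain ⟨a₂, ha₂⟩ := exists_lift_two L'.val.toRingHom (hmem g₂ Finset.subset_union_right)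
  have hinj : Function.Injective (mapRingHom L'.val.toRingHom) :=
    Polynomial.map_injective _ L'.val.toRingHom.injective
  have hmap : a₁ * a₂ = M.h₀.map (mapRingHom (algebraMap L L')) := by
    refine Polynomial.map_injective _ hinj ?_
    rw [Polynomial.map_mul, ha₁, ha₂, hprod, hhb, Polynomial.map_map, mapRingHom_comp]
    congr 3
  -- evaluate in `L' ⊗ K`
  let σ : L'[X] →ₐ[L'] (L' ⊗[L] K) := aeval ((1 : L') ⊗ₜ[L] M.x)
  let z' : L' ⊗[L] K := (1 : L') ⊗ₜ[L] M.z
  have key : (M.h₀.map (mapRingHom (algebraMap L L'))).eval₂ σ.toRingHom z' = 0 := by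
    rw [eval₂_map, show σ.toRingHom.comp (mapRingHom (algebraMap L L')) =
        (Algebra.TensorProduct.includeRight : K →ₐ[L] L' ⊗[L] K).toRingHom.comp (aeval M.x : L[X] →ₐ[L] K).toRingHom from ?_]
    · rw [show z' = (Algebra.TensorProduct.includeRight : K →ₐ[L] L' ⊗[L] K).toRingHom M.z from rfl, ← hom_eval₂,
        M.root, map_zero]
    · refine Polynomial.ringHom_ext (fun c => ?_) ?_
      · simp [σ]
      · simp [σ]
  rw [← hmap] at key
  have nzd : ∀ a b : L' ⊗[L] K, a * b = 0 → a = 0 ∨ b = 0 := fun a b hab => by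
    rcases eq_or_ne a 0 with ha | ha
    · exact Or.inl ha
    · obtain ⟨a', ha'⟩ := (hg L' inferInstance).mul_inv_cancel ha
      refine Or.inr ?_
      calc b = a * a' * b := by rw [ha', one_mul]
        _ = a' * (a * b) := by rw [mul_comm a a', mul_assoc]
        _ = 0 := by rw [hab, mul_zero]
  replace key : a₁.eval₂ σ.toRingHom z' = 0 ∨ a₂.eval₂ σ.toRingHom z' = 0 :=
    nzd _ _ ((Polynomial.eval₂_mul σ.toRingHom z').symm.trans key)
  -- a relation of small degree is trivial
  have small : ∀ w : L'[X][X], w.eval₂ σ.toRingHom z' = 0 → w.natDegree < M.h₀.natDegree → w = 0 := by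
    intro w hw hlt
    set B := Module.finBasis L L'
    refine Polynomial.ext fun n => Polynomial.ext fun j => ?_
    rw [coeff_zero, coeff_zero]
    refine B.ext_elem fun i => ?_
    rw [map_zero, Finsupp.coe_zero, Pi.zero_apply]
    let T : L' ⊗[L] K →ₗ[L] K := (TensorProduct.lid L K).toLinearMap.comp (TensorProduct.map (B.coord i) LinearMap.id)
    have hT : ∀ (c : L') (y : K), T (c ⊗ₜ[L] y) = (B.repr c i) • y := fun c y => by simp [T]
    set v : L[X][X] := ∑ n ∈ Finset.range (w.natDegree + 1),
      C (∑ j ∈ Finset.range ((w.coeff n).natDegree + 1), C (B.repr ((w.coeff n).coeff j) i) * X ^ j) * X ^ n with hv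
    have hv0 : v.eval₂ (aeval M.x : L[X] →ₐ[L] K).toRingHom M.z = 0 := by
      have h0 := congrArg T hw
      rw [map_zero, eval₂_eq_sum_range, map_sum] at h0
      rw [← h0, hv, eval₂_finsetSum]
      refine Finset.sum_congr rfl fun n _ => ?_
      rw [eval₂_mul, eval₂_C, eval₂_pow, eval₂_X, map_sum, Finset.sum_mul]
      conv_rhs => rw [(w.coeff n).as_sum_range_C_mul_X_pow, map_sum, Finset.sum_mul, map_sum]
      refine Finset.sum_congr rfl fun j _ => ?_
      simp only [σ, AlgHom.toRingHom_eq_coe, RingHom.coe_coe, map_mul, aeval_C, map_pow, aeval_X, z',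
        Algebra.TensorProduct.tmul_pow, one_pow, Algebra.TensorProduct.algebraMap_apply,
        Algebra.TensorProduct.tmul_mul_tmul, mul_one, one_mul, hT]
      simp [Algebra.smul_def, mul_assoc]
    have hvd : v.natDegree ≤ w.natDegree := natDegree_sum_le_of_forall_le _ _ fun n hn =>
      (natDegree_C_mul_X_pow_le _ _).trans (Finset.mem_range_succ_iff.1 hn)
    have hv00 : v = 0 := by
      by_contra hne
      have := natDegree_le_of_dvd (M.ker v hv0) hne
      omega
    by_cases hn : n ∈ Finset.range (w.natDegree + 1)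
    swap
    · rw [coeff_eq_zero_of_natDegree_lt (p := w) (by simpa using hn), coeff_zero, map_zero, Finsupp.coe_zero, Pi.zero_apply]
    by_cases hj : j ∈ Finset.range ((w.coeff n).natDegree + 1)
    swap
    · rw [coeff_eq_zero_of_natDegree_lt (by simpa using hj), map_zero, Finsupp.coe_zero, Pi.zero_apply]
    have h1 := congrArg (fun p : L[X][X] => (p.coeff n).coeff j) hv00
    simp only [coeff_zero, hv, finsetSum_coeff, coeff_C_mul, coeff_X_pow, mul_ite, mul_one, mul_zero,
      Finset.sum_ite_eq, hn, hj, if_true] at h1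
    exact h1
  have hd₁ : g₁.natDegree = a₁.natDegree := by
    rw [← ha₁, natDegree_map_eq_of_injective (Polynomial.map_injective _ L'.val.toRingHom.injective)]
  have hd₂ : g₂.natDegree = a₂.natDegree := by
    rw [← ha₂, natDegree_map_eq_of_injective (Polynomial.map_injective _ L'.val.toRingHom.injective)]
  have hsum : g₁.natDegree + g₂.natDegree = M.h₀.natDegree := by
    rw [← hm₁.natDegree_mul hm₂, hprod, hD]
  rcases key with h | h
  · right
    by_contra hne
    refine hm₁.ne_zero ?_
    rw [← ha₁, small a₁ h (by omega), Polynomial.map_zero]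
  · left
    by_contra hne
    refine hm₂.ne_zero ?_
    rw [← ha₂, small a₂ h (by omega), Polynomial.map_zero]

end Groth.Agent.LangWeil25
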