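import Groth.Agent.Lib.Zeta25.PointBoundAlg
import Mathlib.RingTheory.Localization.Away.Basic
import Mathlib.RingTheory.Ideal.GoingUp
import Mathlib.FieldTheory.IsAlgClosed.Basic
import Mathlib.Data.Real.Sqrt

/-!
# Points of finitely generated algebras over finite fields in finite extensions
-/

set_option autoImplicit false

universe u v

namespace Groth.Agent.LangWeil25

variable (k : Type u) [Field k]

/-- `R` has `q ^ r + O(q ^ (r - 1/2))` points over extensions with `q` elements. -/
def IsLW (R : Type u) [CommRing R] [Algebra k R] (r : ℕ) : Prop :=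
  ∃ C : ℕ, ∀ (F : Type u) [Field F] [Finite F] [Algebra k F],
    |(Nat.card (R →ₐ[k] F) : ℝ) - (Nat.card F : ℝ) ^ r| * Real.sqrt (Nat.card F) ≤
      C * (Nat.card F : ℝ) ^ r

variable {k}

theorem finite_algHom_finite {A : Type u} [CommRing A] [Algebra k A] [Algebra.FiniteType k A]
    (F : Type u) [Field F] [Finite F] [Algebra k F] : Finite (A →ₐ[k] F) := by
  obtain ⟨n, e, he⟩ := Algebra.FiniteType.iff_quotient_mvPolynomial''.mp ‹Algebra.FiniteType k A›
  refine Finite.of_injective (fun φ : A →ₐ[k] F => fun i => φ (e (MvPolynomial.X i))) fun φ ψ h => ?_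
  exact (AlgHom.cancel_right he).1 (MvPolynomial.algHom_ext fun i => congrFun h i)

variable [Finite k]

theorem exists_card_algHom_le {A : Type u} [CommRing A] [Algebra k A] [Algebra.FiniteType k A] {r : ℕ}
    (hd : ringKrullDim A ≤ r) :
    ∃ C : ℕ, ∀ (F : Type u) [Field F] [Finite F] [Algebra k F], Nat.card (A →ₐ[k] F) ≤ C * Nat.card F ^ r := by
  haveI : Module.Finite ℤ k := Module.Finite.of_finite
  haveI : Algebra.FiniteType ℤ A := Algebra.FiniteType.trans (S := k) inferInstance ‹_›
  obtain ⟨n, e, he⟩ := Algebra.FiniteType.iff_quotient_mvPolynomial''.mp ‹Algebra.FiniteType ℤ A›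
  let E := RingHom.quotientKerEquivOfSurjective (f := e.toRingHom) he
  obtain ⟨c, p₀, hc⟩ := Zeta25.good_quotient.{u} (RingHom.ker e.toRingHom) r
    ((ringKrullDim_eq_of_ringEquiv E).le.trans hd)
  refine ⟨c, fun F _ _ _ => le_trans ?_ (hc F)⟩
  haveI := Zeta25.finite_hom _ (Ideal.Quotient.mk_surjective (I := RingHom.ker e.toRingHom)) F
  refine le_trans (Nat.card_le_card_of_injective (fun φ : A →ₐ[k] F => φ.toRingHom.comp E.toRingHom)
    fun φ ψ h => AlgHom.coe_ringHom_injective ((RingHom.cancel_right (g₁ := φ.toRingHom) (g₂ := ψ.toRingHom) E.surjective).1 h)) ?_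
  refine Nat.le_mul_of_pos_right _ ?_
  split_ifs
  · exact Nat.card_pos
  · exact one_pos

/-- The zero locus of a nonzero function has dimension one less. -/
theorem exists_card_zero_le {A : Type u} [CommRing A] [IsDomain A] [Algebra k A] [Algebra.FiniteType k A] {r : ℕ}
    (hd : ringKrullDim A ≤ r) {f : A} (hf : f ≠ 0) :
    ∃ C : ℕ, ∀ (F : Type u) [Field F] [Finite F] [Algebra k F],
      Nat.card {φ : A →ₐ[k] F // φ f = 0} * Nat.card F ≤ C * Nat.card F ^ r := by
  let I := Ideal.span {f}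
  have hle := ringKrullDim_quotient_succ_le_of_nonZeroDivisor (mem_nonZeroDivisors_of_ne_zero hf)
  have hinj : ∀ (F : Type u) [Field F] [Algebra k F], ∃ g : {φ : A →ₐ[k] F // φ f = 0} → (A ⧸ I →ₐ[k] F),
      Function.Injective g := fun F _ _ =>
    ⟨fun φ => Ideal.Quotient.liftₐ I φ.1 fun a ha => by
      obtain ⟨b, rfl⟩ := Ideal.mem_span_singleton'.1 ha
      rw [map_mul, φ.2, mul_zero],
     fun φ ψ h => Subtype.ext (AlgHom.ext fun a => AlgHom.congr_fun h (Ideal.Quotient.mk I a))⟩
  by_cases htop : I = ⊤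
  · refine ⟨0, fun F _ _ _ => ?_⟩
    have : IsEmpty {φ : A →ₐ[k] F // φ f = 0} := ⟨fun φ => by
      obtain ⟨b, hb⟩ := Ideal.mem_span_singleton'.1 (show (1 : A) ∈ I by rw [htop]; trivial)
      have := congrArg φ.1 hb
      rw [map_mul, φ.2, mul_zero, map_one] at this
      exact zero_ne_one this⟩
    simp
  haveI : Nontrivial (A ⧸ I) := Ideal.Quotient.nontrivial_iff.2 htop
  obtain ⟨s, rfl⟩ : ∃ s, r = s + 1 := by
    refine ⟨r - 1, ?_⟩
    have h0 := (ringKrullDim_nonneg_of_nontrivial (R := A ⧸ I))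
    have h1 : (0 : WithBot ℕ∞) + 1 ≤ r := (add_le_add h0 le_rfl).trans (hle.trans hd)
    have : (1 : ℕ) ≤ r := by exact_mod_cast (by simpa using h1 : (1 : WithBot ℕ∞) ≤ r)
    omega
  have hq : ringKrullDim (A ⧸ I) ≤ (s : ℕ) := by
    have h := hle.trans hd
    generalize ringKrullDim (A ⧸ Ideal.span {f}) = D at h ⊢
    induction D using WithBot.recBotCoe with
    | bot => exact bot_le
    | coe a =>
      have h' : ((a + 1 : ℕ∞) : WithBot ℕ∞) ≤ (((s + 1 : ℕ) : ℕ∞) : WithBot ℕ∞) := by
        push_cast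
        exact_mod_cast h
      rw [WithBot.coe_le_coe, Nat.cast_succ] at h'
      have := (ENat.add_le_add_iff_right ENat.one_ne_top).mp h'
      exact_mod_cast this
  obtain ⟨C, hC⟩ := exists_card_algHom_le (k := k) hq
  refine ⟨C, fun F _ _ _ => ?_⟩
  obtain ⟨g, hg⟩ := hinj F
  haveI := finite_algHom_finite (k := k) (A := A ⧸ I) F
  rw [pow_succ, ← mul_assoc]
  exact Nat.mul_le_mul_right _ ((Nat.card_le_card_of_injective g hg).trans (hC F))

omit [Finite k] in
/-- The points of a localisation are the points where the inverted element is nonzero. -/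
theorem card_algHom_away {A : Type u} [CommRing A] [Algebra k A] (f : A) (F : Type u) [Field F] [Algebra k F] :
    Nat.card (Localization.Away f →ₐ[k] F) = Nat.card {φ : A →ₐ[k] F // φ f ≠ 0} := by
  refine Nat.card_congr
    { toFun := fun ψ => ⟨ψ.comp (IsScalarTower.toAlgHom k A (Localization.Away f)), fun h => ?_⟩
      invFun := fun φ => IsLocalization.liftAlgHom (M := Submonoid.powers f) (f := φ.1) fun y => by
        obtain ⟨n, hn⟩ := y.2
        rw [← hn, map_pow]
        exact (isUnit_iff_ne_zero.2 φ.2).pow n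
      left_inv := fun ψ => ?_
      right_inv := fun φ => Subtype.ext (AlgHom.ext fun a => by simp) }
  · have hu := (IsLocalization.Away.algebraMap_isUnit (S := Localization.Away f) f).map ψ
    exact hu.ne_zero h
  · refine AlgHom.coe_ringHom_injective (IsLocalization.ringHom_ext (Submonoid.powers f) (RingHom.ext fun a => ?_))
    simp

omit [Finite k] in
theorem card_algHom_split {A : Type u} [CommRing A] [Algebra k A] [Algebra.FiniteType k A] (f : A)
    (F : Type u) [Field F] [Finite F] [Algebra k F] :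
    Nat.card (A →ₐ[k] F) = Nat.card {φ : A →ₐ[k] F // φ f = 0} + Nat.card (Localization.Away f →ₐ[k] F) := by
  classical
  haveI := finite_algHom_finite (k := k) (A := A) F
  rw [card_algHom_away, ← Nat.card_sum]
  exact Nat.card_congr (Equiv.sumCompl _).symm

theorem IsLW.away {A : Type u} [CommRing A] [IsDomain A] [Algebra k A] [Algebra.FiniteType k A] {r : ℕ}
    (h : IsLW k A r) (hd : ringKrullDim A ≤ r) {f : A} (hf : f ≠ 0) : IsLW k (Localization.Away f) r := by
  obtain ⟨C, hC⟩ := h
  obtain ⟨C', hC'⟩ := exists_card_zero_le (k := k) hd hf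
  refine ⟨C + C', fun F _ _ _ => ?_⟩
  have h2 := hC' F
  have h1 := hC F
  rw [card_algHom_split f F] at h1
  set Z := Nat.card {φ : A →ₐ[k] F // φ f = 0}
  set q : ℝ := (Nat.card F : ℝ)
  have hq1 : (1 : ℝ) ≤ q := by simp only [q]; exact_mod_cast Nat.card_pos
  have hs : Real.sqrt q ≤ q := Real.sqrt_le_iff.2 ⟨by linarith, by nlinarith⟩
  have h3 : (Z : ℝ) * q ≤ C' * q ^ r := by simp only [q]; exact_mod_cast h2
  push_cast at h1 ⊢
  have h4 : |(Nat.card (Localization.Away f →ₐ[k] F) : ℝ) - q ^ r| ≤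
      |(Z : ℝ) + Nat.card (Localization.Away f →ₐ[k] F) - q ^ r| + Z := by
    have := abs_sub ((Z : ℝ) + Nat.card (Localization.Away f →ₐ[k] F) - q ^ r) (Z : ℝ)
    rw [Nat.abs_cast] at this
    refine le_trans (le_of_eq ?_) this
    congr 1; ring
  have h5 : (Z : ℝ) * Real.sqrt q ≤ Z * q := mul_le_mul_of_nonneg_left hs (Nat.cast_nonneg _)
  nlinarith [mul_le_mul_of_nonneg_right h4 (Real.sqrt_nonneg q)]

omit [Finite k] in
/-- Homomorphisms to an algebraically closed field extend along integral injections. -/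
theorem exists_extend {A : Type u} {B : Type v} [CommRing A] [CommRing B] [Algebra A B] [Algebra.IsIntegral A B]
    (hinj : Function.Injective (algebraMap A B)) {Ω : Type u} [Field Ω] [IsAlgClosed Ω] (φ : A →+* Ω) :
    ∃ ψ : B →+* Ω, ψ.comp (algebraMap A B) = φ := by
  haveI : (RingHom.ker φ).IsPrime := RingHom.ker_isPrime φ
  obtain ⟨Q, -, hQ, hQP⟩ := Ideal.exists_ideal_over_prime_of_isIntegral (RingHom.ker φ) (⊥ : Ideal B) (by
    intro a ha
    rw [Ideal.mem_comap, Ideal.mem_bot] at ha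
    rw [RingHom.mem_ker, hinj (ha.trans (map_zero (algebraMap A B)).symm), map_zero])
  haveI : Q.LiesOver (RingHom.ker φ) := ⟨hQP.symm⟩
  letI : Algebra (A ⧸ RingHom.ker φ) Ω := (RingHom.kerLift φ).toAlgebra
  haveI : Module.IsTorsionFree (A ⧸ RingHom.ker φ) Ω :=
    Module.isTorsionFree_iff_algebraMap_injective.2 (RingHom.kerLift_injective φ)
  haveI : Algebra.IsIntegral (A ⧸ RingHom.ker φ) (B ⧸ Q) := inferInstance
  haveI : Algebra.IsAlgebraic (A ⧸ RingHom.ker φ) (B ⧸ Q) := Algebra.IsIntegral.isAlgebraic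
  let l : B ⧸ Q →ₐ[A ⧸ RingHom.ker φ] Ω := IsAlgClosed.lift
  refine ⟨l.toRingHom.comp (Ideal.Quotient.mk Q), RingHom.ext fun a => ?_⟩
  exact (l.commutes (Ideal.Quotient.mk _ a)).trans rfl

end Groth.Agent.LangWeil25
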