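import Groth.Agent.Lib.FunFldRH25.Main

/-!
# Points of a plane model against places of degree dividing `n`
-/

set_option autoImplicit false

namespace Groth.Agent.LangWeil25

open Polynomial FunFld FunField WithZero FunFldRH25
open scoped IntermediateField Multiplicative

universe u

/-- The affine points of a plane model over the extension of degree `n` are, up to a bounded number,
the points of the function field. -/
theorem model_npts {k K : Type u} [Field k] [Finite k] [Field K] [Algebra k K] (hF : FF k K) (M : Model k K)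
    (hirr : Irreducible (M.h₀.map (mapRingHom (algebraMap k (AlgebraicClosure k))))) {n : ℕ} (hn0 : n ≠ 0) :
    ∃ R : Finset (AlgebraicClosure k × AlgebraicClosure k),
      (∀ z, z ∈ R ↔ z.1 ^ Nat.card k ^ n = z.1 ∧ z.2 ^ Nat.card k ^ n = z.2 ∧
        (Algebra.norm (AlgebraicClosure k)[X] (GG (M.h₀.map (mapRingHom (algebraMap k (AlgebraicClosure k)))))).eval z.1 ≠ 0 ∧
        OnCurve (M.h₀.map (mapRingHom (algebraMap k (AlgebraicClosure k)))) z.1 z.2) ∧
      npts k K n ≤ R.card + (Algebra.norm (AlgebraicClosure k)[X]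
        (GG (M.h₀.map (mapRingHom (algebraMap k (AlgebraicClosure k)))))).natDegree * M.h₀.natDegree +
          Module.finrank k⟮M.x⁻¹⟯ K ∧
      R.card ≤ npts k K n + (Algebra.norm (AlgebraicClosure k)[X]
        (GG (M.h₀.map (mapRingHom (algebraMap k (AlgebraicClosure k)))))).natDegree * M.h₀.natDegree := by
  classical
  letI := Fintype.ofFinite k
  set kb := AlgebraicClosure k
  set h : kb[X][X] := M.h₀.map (mapRingHom (algebraMap k kb)) with hh
  have hhm : h.Monic := M.monic.map _
  haveI : IsDomain (AdjoinRoot h) := AdjoinRoot.isDomain_of_prime hirr.prime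
  have hhd : h.natDegree = M.h₀.natDegree := M.monic.natDegree_map _
  have hhder : derivative h ≠ 0 := by
    rw [hh, derivative_map]
    exact (Polynomial.map_ne_zero_iff (map_injective _ (algebraMap k kb).injective)).2 M.der
  obtain ⟨p, hpc⟩ := CharP.exists k
  haveI : Fact p.Prime := ⟨CharP.char_is_prime k p⟩
  haveI : CharP kb p := charP_of_injective_algebraMap (algebraMap k kb).injective p
  obtain ⟨f, -, hf⟩ := FiniteField.card k p
  set Nh := Algebra.norm kb[X] (GG h) with hNh
  have hNh0 : Nh ≠ 0 := norm_ne_zero hhm (fun h0 => by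
    refine hhm.not_dvd_of_natDegree_lt hhder ?_ (AdjoinRoot.mk_eq_zero.mp h0)
    refine natDegree_derivative_lt fun e => hhder ?_
    rw [eq_C_of_natDegree_eq_zero e, derivative_C])
  set d := h.natDegree with hd
  set M' := Module.finrank k⟮M.x⁻¹⟯ K
  set Q := Nat.card k ^ n with hQ
  have hQp : Q = p ^ ((f : ℕ) * n) := by rw [hQ, Nat.card_eq_fintype_card, hf, pow_mul]
  have hQ1 : 1 < Q := Nat.one_lt_pow hn0 (Finite.one_lt_card)
  -- fixed elements
  set A := (X ^ Q - X : kb[X]).roots.toFinset with hA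
  have hAmem : ∀ a, a ∈ A ↔ a ^ Q = a := fun a => by
    rw [hA, Multiset.mem_toFinset, mem_roots (FiniteField.X_pow_card_sub_X_ne_zero kb hQ1), IsRoot,
      eval_sub, eval_pow, eval_X, sub_eq_zero]
  have hAcard : A.card = Q := by
    rw [hA, Multiset.toFinset_card_of_nodup (nodup_roots (galois_poly_separable p Q (hQp ▸ dvd_pow_self p
      (Nat.mul_pos f.2 (Nat.pos_of_ne_zero hn0)).ne'))), IsAlgClosed.card_roots_eq_natDegree,
      FiniteField.X_pow_card_sub_X_natDegree_eq kb hQ1]
  set Good := A.filter fun a => Nh.eval a ≠ 0 with hGood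
  have hgood : Q ≤ Good.card + Nh.natDegree := by
    rw [← hAcard]
    refine le_trans ?_ (Nat.add_le_add_left ((Multiset.toFinset_card_le _).trans (card_roots' Nh)) _)
    refine le_trans (Finset.card_le_card fun a ha => ?_) (Finset.card_union_le _ _)
    rw [Finset.mem_union, Multiset.mem_toFinset, mem_roots hNh0, IsRoot, hGood, Finset.mem_filter]
    tauto
  set All : Finset (kb × kb) := Good.biUnion fun a =>
    ((h.map (evalRingHom a)).roots.toFinset).image fun c => (a, c) with hAll
  have hAllmem : ∀ z, z ∈ All ↔ z.1 ∈ Good ∧ OnCurve h z.1 z.2 := by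
    rintro ⟨a, c⟩
    simp only [hAll, Finset.mem_biUnion, Finset.mem_image, Prod.mk.injEq, Multiset.mem_toFinset,
      mem_roots (hhm.map _).ne_zero, IsRoot, eval_map]
    exact ⟨fun ⟨a', ha', b', hb', e1, e2⟩ => e1 ▸ e2 ▸ ⟨ha', hb'⟩,
      fun ⟨ha, hb⟩ => ⟨a, ha, c, hb, rfl, rfl⟩⟩
  have hAllcard : Good.card * d ≤ All.card := by
    rw [hAll, Finset.card_biUnion]
    · rw [← smul_eq_mul, ← Finset.sum_const]
      refine Finset.sum_le_sum fun a ha => ?_
      rw [Finset.card_image_of_injective _ (fun b b' e => (Prod.mk.inj e).2)]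
      obtain ⟨F⟩ := exists_fibre hhm (Finset.mem_filter.mp ha).2
      refine le_trans (le_of_eq (by simp [hd])) (Finset.card_le_card_of_injOn
        (s := (Finset.univ : Finset (Fin h.natDegree))) F.pt (fun i _ => ?_) F.inj.injOn)
      rw [Finset.mem_coe, Multiset.mem_toFinset, mem_roots (hhm.map _).ne_zero, IsRoot, eval_map]
      exact F.onCurve i
    · intro a _ a' _ hne
      simp only [Function.onFun, Finset.disjoint_left, Finset.mem_image]
      rintro _ ⟨b, -, rfl⟩ ⟨b', -, e⟩
      exact hne (Prod.mk.inj e).1.symm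
  set R := All.filter fun z => z.2 ^ Q = z.2 with hR
  -- the points with `x` in the fixed field
  set q : k[X] := X ^ Q - X with hq
  have hq0 : q ≠ 0 := FiniteField.X_pow_card_sub_X_ne_zero k hQ1
  have hqd : q.natDegree = Q := FiniteField.X_pow_card_sub_X_natDegree_eq k hQ1
  obtain ⟨hSfin, hScard⟩ := card_zero_le (kb := kb) hF M.tr hq0 (hqd.symm ▸ hQ1.le)
  rw [hqd, M.finrank_eq, ← hhd] at hScard
  set SA := {π : Pt k K kb // π.1.1 M.x ≤ 1 ∧ π.1.1 (aeval M.x q) < 1}
  letI := Fintype.ofFinite SA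
  rw [Nat.card_eq_fintype_card] at hScard
  let v : SA → kb × kb := fun π => (π.1.val M.x, π.1.val M.z)
  have hzle : ∀ π : Pt k K kb, π.1.1 M.x ≤ 1 → π.1.1 M.z ≤ 1 := fun π hx =>
    val_le_of_monic M.monic M.root π.1 hx
  have hcurve : ∀ a c : kb, OnCurve h a c ↔
      M.h₀.eval₂ (aeval a : k[X] →ₐ[k] kb).toRingHom c = 0 := fun a c => by
    rw [OnCurve, hh, eval₂_map]
    have e : (evalRingHom a).comp (mapRingHom (algebraMap k kb)) = (aeval a : k[X] →ₐ[k] kb).toRingHom :=
      RingHom.ext fun r => by simp [aeval_def, eval_map]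
    rw [e]
  have hvon : ∀ π : SA, OnCurve h (v π).1 (v π).2 := fun π =>
    (hcurve _ _).2 (π.1.eval₂_val π.2.1 (hzle _ π.2.1) M.h₀ M.root)
  have hvfix : ∀ π : Pt k K kb, π.1.1 M.x ≤ 1 → (π.1.1 (aeval M.x q) < 1 ↔ π.val M.x ^ Q = π.val M.x) := by
    intro π hx
    obtain ⟨h1, h2⟩ := π.val_aeval hx q
    have := π.ev_eq_zero ⟨_, h1⟩
    rw [← π.val_eq h1, h2, show aeval (π.val M.x) q = π.val M.x ^ Q - π.val M.x by simp [hq], sub_eq_zero] at this
    exact this.symm
  have hsec : ∀ z : All, ∃ π : SA, v π = z := by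
    rintro ⟨⟨a, c⟩, hz⟩
    obtain ⟨h1, h2⟩ := (hAllmem _).1 hz
    obtain ⟨π, hx, -, ha, hc⟩ := exists_point hF M.root M.ker ((hcurve a c).1 h2) M.tr
    refine ⟨⟨π, hx, (hvfix π hx).2 ?_⟩, Prod.ext ha hc⟩
    rw [ha]; exact (hAmem a).1 (Finset.mem_filter.1 h1).1
  choose s hs using hsec
  have hsinj : Function.Injective s := fun z z' e => Subtype.ext (by rw [← hs z, ← hs z', e])
  have hcompl : ((Finset.univ : Finset SA) \ Finset.univ.image s).card ≤ Nh.natDegree * d := by
    rw [Finset.card_sdiff_of_subset (Finset.subset_univ _), Finset.card_image_of_injective _ hsinj,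
      Finset.card_univ, Finset.card_univ, Fintype.card_coe]
    have h1 : Q * d ≤ (Good.card + Nh.natDegree) * d := Nat.mul_le_mul_right _ hgood
    rw [add_mul] at h1
    omega
  -- all the points
  obtain ⟨hPfin, hPcard⟩ := card_pts (kb := kb) hF hn0
  set PN := {π : Pt k K kb // π.1.deg ∣ n}
  letI := Fintype.ofFinite PN
  rw [Nat.card_eq_fintype_card] at hPcard
  have hPfix : ∀ (π : PN) (y : K), π.1.val y ^ Q = π.1.val y := by
    intro π y
    by_cases hy : π.1.1.1 y ≤ 1
    · rw [Pt.val_eq _ hy]; exact (fixed_iff hF π.1 n).2 π.2 _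
    · rw [Pt.val, dif_neg hy, zero_pow (by omega)]
  obtain ⟨hXfin, hXcard⟩ := card_zero_le (kb := kb) hF (transcendental_inv M.tr) X_ne_zero (by simp)
  rw [natDegree_X, one_mul] at hXcard
  have hx0 : M.x ≠ 0 := ne_zero_of_transcendental M.tr
  have hpole : (Finset.univ.filter fun π : PN => ¬ π.1.1.1 M.x ≤ 1).card ≤ M' := by
    have hmaps : ∀ π : PN, ¬ π.1.1.1 M.x ≤ 1 →
        π.1.1.1 M.x⁻¹ ≤ 1 ∧ π.1.1.1 (aeval M.x⁻¹ (X : k[X])) < 1 := fun π hπ => by
      have h1 : π.1.1.1 M.x⁻¹ < 1 := by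
        rw [map_inv₀]; exact inv_lt_one_of_one_lt₀ (not_le.1 hπ)
      exact ⟨h1.le, by rwa [aeval_X]⟩
    refine le_trans ?_ hXcard
    rw [← Fintype.card_coe, ← Nat.card_eq_fintype_card]
    refine Nat.card_le_card_of_injective
      (fun π => ⟨π.1.1, hmaps π.1 (Finset.mem_filter.1 π.2).2⟩) fun π π' e => ?_
    exact Subtype.ext (Subtype.ext (congrArg Subtype.val e :))
  -- upper bound
  have hup : Fintype.card PN ≤ R.card + Nh.natDegree * d + M' := by
    rw [← Finset.card_univ, ← Finset.card_filter_add_card_filter_not (fun π : PN => π.1.1.1 M.x ≤ 1)]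
    refine Nat.add_le_add ?_ hpole
    let ι' : PN → SA ⊕ Unit := fun π => if h1 : π.1.1.1 M.x ≤ 1 then
      Sum.inl ⟨π.1, h1, (hvfix _ h1).2 (hPfix π _)⟩ else Sum.inr ()
    let T : Finset SA := Finset.univ.filter fun π => (v π).2 ^ Q = (v π).2
    refine le_trans (Finset.card_le_card_of_injOn ι' (t := T.map Function.Embedding.inl) ?_ ?_) ?_
    · intro π hπ
      have h1 := (Finset.mem_filter.1 hπ).2
      simp only [ι', dif_pos h1, Finset.mem_coe, Finset.mem_map, T, Finset.mem_filter, Finset.mem_univ, true_and]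
      exact ⟨_, hPfix π _, rfl⟩
    · intro π hπ π' hπ' e
      simp only [ι', dif_pos (Finset.mem_filter.1 hπ).2, dif_pos (Finset.mem_filter.1 hπ').2,
        Sum.inl.injEq] at e
      exact Subtype.ext (congrArg Subtype.val e :)
    · rw [Finset.card_map, ← Finset.card_sdiff_add_card_inter T (Finset.univ.image s), Nat.add_comm]
      refine Nat.add_le_add ?_ ((Finset.card_le_card fun π hπ => ?_).trans hcompl)
      · refine Finset.card_le_card_of_injOn v (fun π hπ => ?_) ?_
        · obtain ⟨h1, h2⟩ := Finset.mem_inter.1 hπ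
          obtain ⟨z, -, rfl⟩ := Finset.mem_image.1 h2
          have h3 := (Finset.mem_filter.1 h1).2
          rw [hs] at h3
          rw [Finset.mem_coe, hs, hR, Finset.mem_filter]
          exact ⟨z.2, h3⟩
        · intro π hπ π' hπ' e
          obtain ⟨z, -, rfl⟩ := Finset.mem_image.1 (Finset.mem_inter.1 hπ).2
          obtain ⟨z', -, rfl⟩ := Finset.mem_image.1 (Finset.mem_inter.1 hπ').2
          rw [hs, hs] at e
          rw [Subtype.ext e]
      · exact Finset.mem_sdiff.2 ⟨Finset.mem_univ _, (Finset.mem_sdiff.1 hπ).2⟩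
  -- lower bound
  obtain ⟨Fr, hFr⟩ := exists_frob (k := k) (kb := kb) n
  have hlo : R.card ≤ Fintype.card PN + Nh.natDegree * d := by
    set R' : Finset All := Finset.univ.filter fun z => z.1.2 ^ Q = z.1.2 with hR'
    have hRR : R.card = R'.card := Finset.card_bij (fun z hz => ⟨z, (Finset.mem_filter.1 hz).1⟩)
      (fun z hz => Finset.mem_filter.2 ⟨Finset.mem_univ _, (Finset.mem_filter.1 hz).2⟩)
      (fun a _ b _ e => congrArg Subtype.val e)
      (fun z hz => ⟨z.1, Finset.mem_filter.2 ⟨z.2, (Finset.mem_filter.1 hz).2⟩, rfl⟩)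
    rw [hRR, ← Finset.card_filter_add_card_filter_not (fun z : All => (s z).1.1.deg ∣ n)]
    refine Nat.add_le_add ?_ ?_
    · rw [← Finset.card_univ (α := PN)]
      rw [← Fintype.card_coe, Finset.card_univ]
      refine Fintype.card_le_of_injective (fun z => (⟨(s z.1).1, (Finset.mem_filter.1 z.2).2⟩ : PN)) ?_
      intro z z' e
      exact Subtype.ext (hsinj (Subtype.ext (congrArg Subtype.val e :)))
    · let tw : Pt k K kb → Pt k K kb := fun π => ⟨π.1, Fr.comp π.2⟩
      have htv : ∀ (π : Pt k K kb) (y : K), π.1.1 y ≤ 1 → (tw π).val y = π.val y ^ Q := fun π y hy => by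
        rw [Pt.val_eq (tw π) hy, π.val_eq hy]
        exact hFr _
      have htS : ∀ z : All, (tw (s z).1).1.1 M.x ≤ 1 ∧ (tw (s z).1).1.1 (aeval M.x q) < 1 := fun z => (s z).2
      refine (Finset.card_le_card_of_injOn (fun z => (⟨tw (s z).1, htS z⟩ : SA)) (fun z hz => ?_) ?_).trans hcompl
      · obtain ⟨hz1, hz2⟩ := Finset.mem_filter.1 hz
        have hzfix := (Finset.mem_filter.1 hz1).2
        refine Finset.mem_coe.2 (Finset.mem_sdiff.2 ⟨Finset.mem_univ _, fun hmem => hz2 ?_⟩)
        obtain ⟨z', -, hz'⟩ := Finset.mem_image.1 hmem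
        have hv : v (⟨tw (s z).1, htS z⟩ : SA) = z.1 := by
          have h1 := hs z
          have hx := (s z).2.1
          refine Prod.ext ?_ ?_
          · show (tw (s z).1).val M.x = _
            rw [htv _ _ hx, (hvfix _ hx).1 (s z).2.2, ← h1]
          · show (tw (s z).1).val M.z = _
            rw [htv _ _ (hzle _ hx), show (s z).1.val M.z = z.1.2 from congrArg Prod.snd h1, hzfix]
        simp only at hz'
        rw [← hz', hs] at hv
        have hzz : z' = z := Subtype.ext hv
        rw [hzz] at hz'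
        have h2 : (s z).1 = tw (s z).1 := congrArg Subtype.val hz'
        refine (fixed_iff hF _ n).1 fun y => ?_
        have h3 : (s z).1.2 = Fr.comp (s z).1.2 := by
          simp only [tw] at h2
          exact eq_of_heq (Sigma.ext_iff.1 h2).2
        conv_rhs => rw [h3]
        exact (hFr _).symm
      · intro z hz z' hz' e
        have hzf := (Finset.mem_filter.1 (Finset.mem_filter.1 hz).1).2
        have hzf' := (Finset.mem_filter.1 (Finset.mem_filter.1 hz').1).2
        have hv : ∀ w : All, w.1.2 ^ Q = w.1.2 → v (⟨tw (s w).1, htS w⟩ : SA) = w.1 := fun w hw => by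
          refine Prod.ext ?_ ?_
          · show (tw (s w).1).val M.x = _
            rw [htv _ _ (s w).2.1, (hvfix _ (s w).2.1).1 (s w).2.2, ← hs w]
          · show (tw (s w).1).val M.z = _
            rw [htv _ _ (hzle _ (s w).2.1), show (s w).1.val M.z = w.1.2 from congrArg Prod.snd (hs w), hw]
        exact Subtype.ext ((hv z hzf).symm.trans ((congrArg v e).trans (hv z' hzf')))
  rw [hPcard] at hup hlo
  refine ⟨R, fun z => ?_, ?_, ?_⟩
  · rw [hR, Finset.mem_filter, hAllmem, hGood, Finset.mem_filter, hAmem]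
    exact ⟨fun ⟨⟨⟨h1, h2⟩, h3⟩, h4⟩ => ⟨h1, h4, h2, h3⟩, fun ⟨h1, h4, h2, h3⟩ => ⟨⟨⟨h1, h2⟩, h3⟩, h4⟩⟩
  · rw [← hhd]; exact hup
  · rw [← hhd]; exact hlo

end Groth.Agent.LangWeil25
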