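import Groth.Agent.Lib.LangWeil25.GeomIrred
import Groth.Agent.Lib.LangWeil25.CurveBound
import Groth.Agent.Lib.LangWeil25.LWPoints
import Groth.Agent.Lib.LangWeil25.Factor
import Groth.Agent.Lib.NormFin18.Field
import Groth.Agent.Lib.GeomFF26.Regular
import Groth.Agent.Lib.VarDim.Alg
import Mathlib.FieldTheory.SeparablyGenerated

/-!
# A birational model with `q ^ r + O(q ^ (r - 1/2))` points
-/

set_option autoImplicit false

universe u

namespace Groth.Agent.LangWeil25

open Polynomial FunFld FunField FunFldRH25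
open scoped IntermediateField

variable {k : Type u} [Field k]

theorem IsLW.congr {A B : Type u} [CommRing A] [Algebra k A] [CommRing B] [Algebra k B] {r : ℕ}
    (h : IsLW k A r) (e : A ≃ₐ[k] B) : IsLW k B r := by
  obtain ⟨C, hC⟩ := h
  refine ⟨C, fun F _ _ _ => ?_⟩
  rw [← Nat.card_congr (e.arrowCongr (AlgEquiv.refl : F ≃ₐ[k] F))]
  exact hC F

/-- `K` is the field of fractions of `A`. -/
def Birat {K : Type u} [Field K] [Algebra k K] (A : Subalgebra k K) : Prop :=
  ∀ y : K, ∃ a ∈ A, ∃ b ∈ A, b ≠ 0 ∧ y * b = a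

variable [Finite k]

theorem exists_away {L : Type u} [Field L] [Algebra k L] {r : ℕ} (hr : Algebra.trdeg k L = r)
    {A : Subalgebra k L} (hA : A.FG) (hb : Birat A) (hlw : IsLW k A r) (Y : Finset L) :
    ∃ A' : Subalgebra k L, A'.FG ∧ Birat A' ∧ IsLW k A' r ∧ (Y : Set L) ⊆ A' := by
  classical
  haveI : Algebra.FiniteType k A := (Subalgebra.fg_iff_finiteType A).mp hA
  choose a ha b hbm hb0 hab using hb
  set f : A := ∏ y ∈ Y, ⟨b y, hbm y⟩ with hf
  have hf0 : f ≠ 0 := Finset.prod_ne_zero_iff.2 fun y _ e => hb0 y (congrArg Subtype.val e)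
  have hdim : ringKrullDim A ≤ r := by
    rw [VarDim.ringKrullDim_eq_tdeg k A]
    have h1 : Algebra.trdeg k A ≤ (r : Cardinal) := hr ▸ trdeg_le_of_injective A.val Subtype.val_injective
    have h2 := Cardinal.toNat_le_toNat h1 (Cardinal.natCast_lt_aleph0 (n := r))
    rw [Cardinal.toNat_natCast] at h2
    exact_mod_cast h2
  have hu : ∀ y : Submonoid.powers f, IsUnit (A.val y) := fun y => by
    obtain ⟨n, hn⟩ := y.2
    rw [← hn, map_pow]
    exact (isUnit_iff_ne_zero.2 fun e => hf0 (Subtype.ext e)).pow n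
  let Φ : Localization.Away f →ₐ[k] L := IsLocalization.liftAlgHom (M := Submonoid.powers f) (f := A.val) hu
  have hΦ : ∀ x : A, Φ (algebraMap A _ x) = x := fun x => IsLocalization.lift_eq _ x
  have hΦi : Function.Injective Φ := by
    rw [injective_iff_map_eq_zero]
    intro x hx
    obtain ⟨⟨c, s⟩, hcs⟩ := IsLocalization.surj (Submonoid.powers f) x
    have h1 := congrArg Φ hcs
    rw [map_mul, hx, zero_mul, hΦ] at h1
    have : c = 0 := Subtype.ext h1.symm
    rw [this, map_zero] at hcs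
    exact (IsLocalization.map_units (Localization.Away f) s).mul_left_eq_zero.mp hcs
  refine ⟨Φ.range, ?_, ?_, (hlw.away hdim hf0).congr (AlgEquiv.ofInjective Φ hΦi), fun y hy => ?_⟩
  · haveI : Algebra.FiniteType A (Localization.Away f) := IsLocalization.finiteType_of_monoid_fg (Submonoid.powers f) _
    haveI : Algebra.FiniteType k (Localization.Away f) := Algebra.FiniteType.trans (S := A) ‹_› ‹_›
    have := Algebra.FiniteType.out (R := k) (A := Localization.Away f)
    rw [← Algebra.map_top]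
    exact this.map Φ
  · intro y
    exact ⟨a y, ⟨_, hΦ ⟨_, ha y⟩⟩, b y, ⟨_, hΦ ⟨_, hbm y⟩⟩, hb0 y, hab y⟩
  · refine ⟨algebraMap A _ (⟨a y, ha y⟩ * ∏ z ∈ Y.erase y, ⟨b z, hbm z⟩) * IsLocalization.Away.invSelf f, ?_⟩
    show Φ _ = y
    have hfL : (f : L) ≠ 0 := fun e => hf0 (Subtype.ext e)
    have hinv : Φ (IsLocalization.Away.invSelf f) * (f : L) = 1 := by
      rw [← hΦ f, ← map_mul, mul_comm, IsLocalization.Away.mul_invSelf, map_one]
    refine mul_right_cancel₀ hfL ?_
    rw [map_mul, mul_assoc, hinv, mul_one, hΦ, hf, ← Finset.mul_prod_erase _ _ hy]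
    push_cast
    rw [← mul_assoc, hab y]

omit [Finite k] in
theorem model_birat {L K : Type u} [Field L] [Field K] [Algebra L K] (M : Model L K) (y : K) :
    ∃ n d : L[X][X], d.eval₂ (aeval M.x : L[X] →ₐ[L] K).toRingHom M.z ≠ 0 ∧
      y * d.eval₂ (aeval M.x : L[X] →ₐ[L] K).toRingHom M.z =
        n.eval₂ (aeval M.x : L[X] →ₐ[L] K).toRingHom M.z := by
  classical
  set τ := (aeval M.x : L[X] →ₐ[L] K).toRingHom with hτ
  set ev := eval₂RingHom τ M.z
  let S : IntermediateField L K :=
    { Subfield.closure (ev.range : Set K) with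
      algebraMap_mem' := fun c => Subfield.subset_closure ⟨C (C c), by simp [ev, τ]⟩ }
  have hS : ∀ w, ev w ∈ S := fun w => Subfield.subset_closure ⟨w, rfl⟩
  suffices hy : y ∈ S by
    obtain ⟨n, hn, d, hd, rfl⟩ := Subfield.mem_closure_iff.mp (hy : y ∈ Subfield.closure (ev.range : Set K))
    rw [Subring.closure_eq] at hn hd
    obtain ⟨n, rfl⟩ := hn
    obtain ⟨d, rfl⟩ := hd
    by_cases h0 : ev d = 0
    · exact ⟨0, 1, by simp, by simp [h0]⟩
    · exact ⟨n, d, h0, div_mul_cancel₀ _ h0⟩
  set E := L⟮M.x⟯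
  haveI : Algebra.IsSeparable E K := ⟨M.sep⟩
  have hzE : IsIntegral E M.z := Algebra.IsIntegral.isIntegral M.z
  have hD0 : 0 < M.h₀.natDegree :=
    Nat.pos_of_ne_zero fun h0 => M.der (by rw [eq_C_of_natDegree_eq_zero h0, derivative_C])
  haveI : FiniteDimensional E K := FiniteDimensional.of_finrank_pos (M.finrank_eq ▸ hD0)
  set m := minpoly E M.z with hm
  have hdeg : M.h₀.natDegree ≤ m.natDegree := by
    have hfrac : ∀ e : E, ∃ r s : L[X], τ s ≠ 0 ∧ (e : K) * τ s = τ r := fun e => by
      obtain ⟨r, s, he⟩ := (IntermediateField.mem_adjoin_simple_iff L (e : K)).1 e.2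
      by_cases hs : τ s = 0
      · refine ⟨0, 1, by simp, ?_⟩
        have : (e : K) = 0 := by rw [he, show aeval M.x s = τ s from rfl, hs, div_zero]
        simp [this]
      · refine ⟨r, s, hs, ?_⟩
        rw [he]; exact div_mul_cancel₀ _ hs
    choose r s hs hrs using hfrac
    set w : L[X][X] := ∑ i ∈ Finset.range (m.natDegree + 1),
      C (r (m.coeff i) * ∏ j ∈ (Finset.range (m.natDegree + 1)).erase i, s (m.coeff j)) * X ^ i with hw
    have hwz : w.eval₂ τ M.z = 0 := by
      rw [hw, eval₂_finsetSum]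
      calc _ = ∑ i ∈ Finset.range (m.natDegree + 1),
            (τ (∏ j ∈ Finset.range (m.natDegree + 1), s (m.coeff j))) * ((m.coeff i : K) * M.z ^ i) := by
            refine Finset.sum_congr rfl fun i hi => ?_
            rw [eval₂_mul, eval₂_C, eval₂_pow, eval₂_X, map_mul, ← hrs, ← Finset.mul_prod_erase _ _ hi, map_mul]
            ring
        _ = _ := by
            rw [← Finset.mul_sum]
            have h0 := minpoly.aeval E M.z
            rw [← hm, aeval_eq_sum_range] at h0
            simp only [IntermediateField.smul_def, smul_eq_mul] at h0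
            rw [h0, mul_zero]
    have hwd : w.natDegree ≤ m.natDegree := natDegree_sum_le_of_forall_le _ _ fun i hi =>
      (natDegree_C_mul_X_pow_le _ _).trans (Finset.mem_range_succ_iff.1 hi)
    have hw0 : w ≠ 0 := fun e => by
      have h1 := congrArg (fun p : L[X][X] => τ (p.coeff m.natDegree)) e
      have hwc : w.coeff m.natDegree = r (m.coeff m.natDegree) *
          ∏ j ∈ (Finset.range (m.natDegree + 1)).erase m.natDegree, s (m.coeff j) := by
        simp only [hw, finsetSum_coeff, coeff_C_mul, coeff_X_pow, mul_ite, mul_one, mul_zero,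
          Finset.sum_ite_eq, Finset.mem_range_succ_iff, le_refl, if_true]
      simp only [coeff_zero, map_zero] at h1
      rw [hwc, map_mul, ← hrs, map_prod, (minpoly.monic hzE).coeff_natDegree] at h1
      simp only [OneMemClass.coe_one, one_mul] at h1
      exact mul_ne_zero (hs _) (Finset.prod_ne_zero_iff.2 fun j _ => hs _) h1
    exact (natDegree_le_of_dvd (M.ker w hwz) hw0).trans hwd
  have htop : E⟮M.z⟯ = ⊤ := by
    refine IntermediateField.eq_of_le_of_finrank_le le_top ?_
    rw [IntermediateField.finrank_top', IntermediateField.adjoin.finrank hzE, ← hm, M.finrank_eq]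
    exact hdeg
  have hES : E ≤ S := by
    rw [IntermediateField.adjoin_le_iff, Set.singleton_subset_iff]
    exact (show ev (C X) = M.x by simp [ev, τ]) ▸ hS (C X)
  let S' : IntermediateField E K :=
    { S.toSubfield with algebraMap_mem' := fun e => hES e.2 }
  have : E⟮M.z⟯ ≤ S' := by
    rw [IntermediateField.adjoin_le_iff, Set.singleton_subset_iff]
    exact (show ev X = M.z by simp [ev]) ▸ hS X
  exact this (htop ▸ trivial : y ∈ E⟮M.z⟯)

/-- The curve over a base with `Q ^ r` points has `Q ^ (r + 1)` points. -/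
theorem exists_curve_step {L K : Type u} [Field L] [Field K] [Algebra k L] [Algebra k K] [Algebra L K]
    [IsScalarTower k L K] {r : ℕ} (hr : Algebra.trdeg k L = r) {A : Subalgebra k L} (hA : A.FG)
    (hb : Birat A) (hlw : IsLW k A r) (M : Model L K) (hg : IsGeometric L K) :
    ∃ B : Subalgebra k K, B.FG ∧ Birat B ∧ IsLW k B (r + 1) := by
  classical
  have hD0 : 0 < M.h₀.natDegree :=
    Nat.pos_of_ne_zero fun h0 => M.der (by rw [eq_C_of_natDegree_eq_zero h0, derivative_C])
  set D := M.h₀.natDegree with hD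
  set Lb := AlgebraicClosure L
  set c := (Finset.range (D + 1)).sup fun i => (M.h₀.coeff i).natDegree with hc
  have hwb : WBound M.h₀ c := fun i => by
    rcases lt_trichotomy i M.h₀.natDegree with h | h | h
    · rw [hc]; refine le_trans (Finset.le_sup (f := fun i => (M.h₀.coeff i).natDegree)
        (Finset.mem_range.mpr (by omega))) (Nat.le_mul_of_pos_right _ (by omega))
    · rw [h, M.monic.coeff_natDegree, natDegree_one]; exact Nat.zero_le _
    · rw [coeff_eq_zero_of_natDegree_lt h, natDegree_zero]; exact Nat.zero_le _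
  set hL := M.h₀.map (mapRingHom (algebraMap L Lb)) with hhL
  have hmi : Function.Injective (mapRingHom (algebraMap L Lb)) :=
    Polynomial.map_injective _ (algebraMap L Lb).injective
  have hLwb : WBound hL c := fun i => by
    rw [hhL, coeff_map, coe_mapRingHom, natDegree_map, natDegree_map_eq_of_injective hmi]
    exact hwb i
  obtain ⟨Z, hZ⟩ := exists_irreducible_spread.{u, u} (M.monic.map (mapRingHom (algebraMap L Lb)))
    (irreducible_map_of_geometric M hg) hLwb
  -- the elements needed in the base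
  obtain ⟨n₀, hn₀⟩ : ∃ n, (derivative M.h₀).coeff n ≠ 0 := by
    by_contra h
    push Not at h
    exact M.der (Polynomial.ext fun n => by rw [h n, coeff_zero])
  set u₀ := ((derivative M.h₀).coeff n₀).leadingCoeff with hu₀
  have hu0 : u₀ ≠ 0 := leadingCoeff_ne_zero.2 hn₀
  let co : L[X] → Finset L := fun q => (Finset.range (q.natDegree + 1)).image q.coeff
  obtain ⟨A', hA', hb', hlw', hY⟩ := exists_away hr hA hb hlw
    ((Finset.range (D + 1)).biUnion (fun i => co (M.h₀.coeff i)) ∪ {u₀⁻¹} ∪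
      Z.biUnion fun z => co (minpoly L z))
  have hco : ∀ (q : L[X]) (S : Subalgebra k L), (co q : Set L) ⊆ S → ∀ j, q.coeff j ∈ S := fun q S h j => by
    by_cases hj : j ∈ Finset.range (q.natDegree + 1)
    · exact h (Finset.mem_image_of_mem _ hj)
    · rw [coeff_eq_zero_of_natDegree_lt (by simpa using hj)]; exact zero_mem _
  have hYh : ∀ i j, (M.h₀.coeff i).coeff j ∈ A' := fun i j => by
    by_cases hi : i ∈ Finset.range (D + 1)
    · refine hco _ A' (fun x hx => hY ?_) j
      simp only [Finset.mem_coe, Finset.mem_union, Finset.mem_biUnion] at hx ⊢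
      exact Or.inl (Or.inl ⟨i, hi, hx⟩)
    · rw [coeff_eq_zero_of_natDegree_lt (p := M.h₀) (by simpa using hi), coeff_zero]; exact zero_mem _
  have hYu : u₀⁻¹ ∈ A' := hY (by simp)
  have hYZ : ∀ z ∈ Z, ∀ j, (minpoly L z).coeff j ∈ A' := fun z hz j => by
    refine hco _ A' (fun x hx => hY ?_) j
    simp only [Finset.mem_coe, Finset.mem_union, Finset.mem_biUnion] at hx ⊢
    exact Or.inr ⟨z, hz, hx⟩
  haveI : Algebra.FiniteType k A' := (Subalgebra.fg_iff_finiteType A').mp hA'
  obtain ⟨h₁, hh₁⟩ := exists_lift_two A'.val.toRingHom (p := M.h₀) fun i j => ⟨⟨_, hYh i j⟩, rfl⟩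
  have hvi : Function.Injective (mapRingHom A'.val.toRingHom) :=
    Polynomial.map_injective _ Subtype.val_injective
  have h₁m : h₁.Monic := monic_of_injective hvi (by rw [hh₁]; exact M.monic)
  have h₁d : h₁.natDegree = D := by rw [hD, ← hh₁, h₁m.natDegree_map]
  -- the coordinate ring
  let τ₀ : (A')[X] →+* K := (aeval M.x : L[X] →ₐ[L] K).toRingHom.comp (mapRingHom A'.val.toRingHom)
  have hrel : h₁.eval₂ τ₀ M.z = 0 := by
    rw [← eval₂_map, hh₁]; exact M.root
  let Φ : AdjoinRoot h₁ →ₐ[k] K :=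
    { AdjoinRoot.lift τ₀ M.z hrel with
      commutes' := fun c => by
        show AdjoinRoot.lift τ₀ M.z hrel (AdjoinRoot.of h₁ (algebraMap k (A')[X] c)) = _
        rw [AdjoinRoot.lift_of]
        simp [τ₀, IsScalarTower.algebraMap_apply k L K] }
  have hΦmk : ∀ q : (A')[X][X], Φ (AdjoinRoot.mk h₁ q) = (q.map (mapRingHom A'.val.toRingHom)).eval₂
      (aeval M.x : L[X] →ₐ[L] K).toRingHom M.z := fun q => by
    show AdjoinRoot.lift τ₀ M.z hrel _ = _
    rw [AdjoinRoot.lift_mk, eval₂_map]
  have hΦi : Function.Injective Φ := by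
    rw [injective_iff_map_eq_zero]
    intro a ha
    obtain ⟨q, rfl⟩ := AdjoinRoot.mk_surjective a
    rw [hΦmk] at ha
    rw [AdjoinRoot.mk_eq_zero, ← Polynomial.map_dvd_map (mapRingHom A'.val.toRingHom) hvi h₁m, hh₁]
    exact M.ker _ ha
  haveI : Algebra.FiniteType (A')[X] (AdjoinRoot h₁) :=
    Algebra.FiniteType.of_surjective (AdjoinRoot.mkₐ h₁) AdjoinRoot.mk_surjective
  haveI : Algebra.FiniteType k (AdjoinRoot h₁) :=
    Algebra.FiniteType.trans (S := (A')[X]) (Algebra.FiniteType.trans (S := A') ‹_› inferInstance) ‹_›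
  refine ⟨Φ.range, ?_, ?_, IsLW.congr ?_ (AlgEquiv.ofInjective Φ hΦi)⟩
  · rw [← Algebra.map_top]
    exact (Algebra.FiniteType.out (R := k) (A := AdjoinRoot h₁)).map Φ
  · -- fractions
    intro y
    obtain ⟨n, d, hd, hyd⟩ := model_birat M y
    set τ := (aeval M.x : L[X] →ₐ[L] K).toRingHom
    have hclear : ∀ p : L[X][X], ∃ a : A', a ≠ 0 ∧
        ∃ q : (A')[X][X], q.map (mapRingHom A'.val.toRingHom) = C (C (a : L)) * p := by
      choose aa haa bb hbb hbb0 habb using hb'
      intro p
      let T := (Finset.range (p.natDegree + 1)).biUnion fun i => co (p.coeff i)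
      refine ⟨∏ e ∈ T, ⟨bb e, hbb e⟩, Finset.prod_ne_zero_iff.2 fun e _ h =>
        hbb0 e (congrArg Subtype.val h), ?_⟩
      refine exists_lift_two A'.val.toRingHom fun i j => ?_
      rw [coeff_C_mul, coeff_C_mul]
      by_cases hT : (p.coeff i).coeff j ∈ T
      · refine ⟨⟨aa ((p.coeff i).coeff j), haa _⟩ * ∏ e ∈ T.erase ((p.coeff i).coeff j), ⟨bb e, hbb e⟩, ?_⟩
        show ((⟨aa _, haa _⟩ * _ : A') : L) = _
        rw [← Finset.mul_prod_erase _ _ hT]
        push_cast
        rw [← habb]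
        ring
      · refine ⟨0, ?_⟩
        have : (p.coeff i).coeff j = 0 := by
          by_contra hne
          refine hT (Finset.mem_biUnion.2 ⟨i, Finset.mem_range_succ_iff.2 (le_natDegree_of_ne_zero fun e => hne (by
            rw [e, coeff_zero])), Finset.mem_image.2 ⟨j, Finset.mem_range_succ_iff.2 (le_natDegree_of_ne_zero hne), rfl⟩⟩)
        simp [this]
    obtain ⟨a₁, ha₁, n', hn'⟩ := hclear n
    obtain ⟨a₂, ha₂, d', hd'⟩ := hclear d
    have hτC : ∀ a : A', a ≠ 0 → τ (C (a : L)) ≠ 0 := fun a ha => by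
      simp only [τ, AlgHom.toRingHom_eq_coe, RingHom.coe_coe, aeval_C]
      exact (_root_.map_ne_zero _).2 fun e => ha (Subtype.ext e)
    refine ⟨_, ⟨AdjoinRoot.mk h₁ (C (C a₂) * n'), rfl⟩, _, ⟨AdjoinRoot.mk h₁ (C (C a₁) * d'), rfl⟩, ?_, ?_⟩
    · show Φ _ ≠ 0
      rw [hΦmk, Polynomial.map_mul, hd', eval₂_mul, eval₂_mul, Polynomial.map_C, eval₂_C, eval₂_C,
        coe_mapRingHom, Polynomial.map_C]
      exact mul_ne_zero (hτC a₁ ha₁) (mul_ne_zero (hτC a₂ ha₂) hd)
    · show y * Φ _ = Φ _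
      rw [hΦmk, hΦmk, Polynomial.map_mul, Polynomial.map_mul, hd', hn', eval₂_mul, eval₂_mul, eval₂_mul, eval₂_mul,
        ← hyd, Polynomial.map_C, Polynomial.map_C, eval₂_C, eval₂_C, eval₂_C, eval₂_C,
        coe_mapRingHom, Polynomial.map_C, Polynomial.map_C]
      show y * (τ (C (a₁ : L)) * (τ (C (a₂ : L)) * _)) = τ (C (a₂ : L)) * (τ (C (a₁ : L)) * _)
      ring
  -- the count
  obtain ⟨C₀, hC₀⟩ := curve_bound.{u} c D
  obtain ⟨C₁, hC₁⟩ := hlw'
  refine ⟨(C₁ + 1) * C₀ + C₁, fun F _ _ _ => ?_⟩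
  haveI := finite_algHom_finite (k := k) (A := A') F
  letI := Fintype.ofFinite (A' →ₐ[k] F)
  let P : (A' →ₐ[k] F) → Type u := fun φ =>
    {z : F × F // (h₁.map (mapRingHom φ.toRingHom)).eval₂ (evalRingHom z.1) z.2 = 0}
  haveI : ∀ φ, Finite (P φ) := fun φ => inferInstanceAs (Finite (Subtype _))
  have hev : ∀ (φ : A' →ₐ[k] F) (a : F), (evalRingHom a).comp (mapRingHom φ.toRingHom) =
      eval₂RingHom φ.toRingHom a := fun φ a => Polynomial.ringHom_ext (fun c => by simp) (by simp)
  have heq : ∀ ψ : AdjoinRoot h₁ →ₐ[k] F,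
      eval₂RingHom (ψ.comp (IsScalarTower.toAlgHom k A' (AdjoinRoot h₁))).toRingHom
        (ψ (AdjoinRoot.of h₁ X)) = ψ.toRingHom.comp (AdjoinRoot.of h₁) := fun ψ =>
    Polynomial.ringHom_ext (fun c => by simp [IsScalarTower.algebraMap_apply A' (A')[X] (AdjoinRoot h₁)]) (by simp)
  have hψ0 : ∀ ψ : AdjoinRoot h₁ →ₐ[k] F,
      h₁.eval₂ (eval₂RingHom (ψ.comp (IsScalarTower.toAlgHom k A' (AdjoinRoot h₁))).toRingHom
        (ψ (AdjoinRoot.of h₁ X))) (ψ (AdjoinRoot.root h₁)) = 0 := fun ψ => by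
    rw [heq]
    show h₁.eval₂ (ψ.toRingHom.comp (AdjoinRoot.of h₁)) (ψ.toRingHom (AdjoinRoot.root h₁)) = 0
    rw [← hom_eval₂, AdjoinRoot.eval₂_root, map_zero]
  have hcard : Nat.card (AdjoinRoot h₁ →ₐ[k] F) = ∑ φ, Nat.card (P φ) := by
    rw [← Nat.card_sigma]
    refine Nat.card_congr
      { toFun := fun ψ => ⟨ψ.comp (IsScalarTower.toAlgHom k A' (AdjoinRoot h₁)),
          (ψ (AdjoinRoot.of h₁ X), ψ (AdjoinRoot.root h₁)), ?_⟩
        invFun := fun s =>
          { AdjoinRoot.lift (eval₂RingHom s.1.toRingHom s.2.1.1) s.2.1.2 (by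
              have h := s.2.2
              rwa [eval₂_map, hev] at h) with
            commutes' := fun c => by
              show AdjoinRoot.lift _ _ _ (AdjoinRoot.of h₁ (algebraMap k (A')[X] c)) = _
              rw [AdjoinRoot.lift_of]
              simp }
        left_inv := fun ψ => ?_
        right_inv := ?_ }
    · rw [eval₂_map, hev]
      exact hψ0 ψ
    · refine AlgHom.coe_ringHom_injective (RingHom.ext fun a => ?_)
      obtain ⟨q, rfl⟩ := AdjoinRoot.mk_surjective a
      show AdjoinRoot.lift (eval₂RingHom (ψ.comp (IsScalarTower.toAlgHom k A' (AdjoinRoot h₁))).toRingHom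
          (ψ (AdjoinRoot.of h₁ X))) (ψ (AdjoinRoot.root h₁)) (hψ0 ψ) (AdjoinRoot.mk h₁ q) = ψ.toRingHom (AdjoinRoot.mk h₁ q)
      rw [AdjoinRoot.lift_mk, heq, ← AdjoinRoot.aeval_eq q, aeval_def, hom_eval₂ q _ ψ.toRingHom]
      rfl
    · rintro ⟨φ, ⟨u, v⟩, hz⟩
      have hp : h₁.eval₂ (eval₂RingHom φ.toRingHom u) v = 0 := by rwa [eval₂_map, hev] at hz
      refine Sigma.subtype_ext (AlgHom.ext fun a => ?_) (Prod.ext ?_ ?_)
      · show AdjoinRoot.lift (eval₂RingHom φ.toRingHom u) v hp (AdjoinRoot.of h₁ (C a)) = φ a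
        rw [AdjoinRoot.lift_of]
        exact eval₂_C φ.toRingHom u
      · show AdjoinRoot.lift (eval₂RingHom φ.toRingHom u) v hp (AdjoinRoot.of h₁ X) = u
        rw [AdjoinRoot.lift_of]
        exact eval₂_X φ.toRingHom u
      · exact AdjoinRoot.lift_root hp
  set Q : ℝ := (Nat.card F : ℝ) with hQ
  have hfib : ∀ φ, |(Nat.card (P φ) : ℝ) - Q| ≤ C₀ * Real.sqrt Q := fun φ => by
    have hm := h₁m.map (mapRingHom φ.toRingHom)
    refine hC₀ F (h₁.map (mapRingHom φ.toRingHom)) hm (by rw [h₁m.natDegree_map, h₁d]) ?_ ?_ ?_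
    · intro e
      have h1 := congrArg (fun p : F[X][X] => (p.coeff n₀).coeff ((derivative M.h₀).coeff n₀).natDegree) e
      have h2 : ∀ j, ((derivative M.h₀).coeff n₀).coeff j = (((derivative h₁).coeff n₀).coeff j : L) := fun j => by
        rw [← hh₁, derivative_map, coeff_map, coe_mapRingHom, coeff_map]
        rfl
      have hd₁ : (((derivative h₁).coeff n₀).coeff ((derivative M.h₀).coeff n₀).natDegree : L) = u₀ := by
        rw [hu₀, leadingCoeff, ← h2]
      have hu : IsUnit (((derivative h₁).coeff n₀).coeff ((derivative M.h₀).coeff n₀).natDegree) := by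
        refine isUnit_iff_exists_inv.2 ⟨⟨u₀⁻¹, hYu⟩, ?_⟩
        generalize ((derivative h₁).coeff n₀).coeff ((derivative M.h₀).coeff n₀).natDegree = a at hd₁ ⊢
        exact Subtype.ext (by rw [MulMemClass.coe_mul, hd₁, mul_inv_cancel₀ hu0]; rfl)
      simp only [derivative_map, coeff_map, coe_mapRingHom, coeff_zero] at h1
      exact (hu.map φ.toRingHom).ne_zero h1
    · intro i
      rw [h₁m.natDegree_map, h₁d, coeff_map, coe_mapRingHom]
      refine natDegree_map_le.trans ?_
      have h := hwb i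
      rw [← hh₁, h₁m.natDegree_map, coeff_map, coe_mapRingHom,
        natDegree_map_eq_of_injective Subtype.val_injective, h₁d] at h
      exact h
    · let A'' := Algebra.adjoin A' (Z : Set Lb)
      haveI : Algebra.IsIntegral A' A'' := Algebra.IsIntegral.adjoin fun z hz => by
        have hl : minpoly L z ∈ lifts A'.val.toRingHom :=
          (lifts_iff_coeff_lifts _).2 fun j => ⟨⟨_, hYZ z hz j⟩, rfl⟩
        obtain ⟨p, hp, -, hpm⟩ := lifts_and_natDegree_eq_and_monic hl
          (minpoly.monic (Algebra.IsIntegral.isIntegral z))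
        refine ⟨p, hpm, ?_⟩
        have h0 := minpoly.aeval L z
        rw [← hp, aeval_def, eval₂_map] at h0
        exact h0
      have hinjA : Function.Injective (algebraMap A' A'') := fun a b e =>
        Subtype.ext ((algebraMap L Lb).injective (congrArg Subtype.val e))
      obtain ⟨ψ, hψ⟩ := exists_extend hinjA ((algebraMap F (AlgebraicClosure F)).comp φ.toRingHom)
      have hr := (hZ A'' A''.val.toRingHom Subtype.val_injective
        (fun z hz => ⟨⟨z, Algebra.subset_adjoin hz⟩, rfl⟩) (h₁.map (mapRingHom (algebraMap A' A'')))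
        (h₁m.map _) (by
          rw [← hh₁, Polynomial.map_map, Polynomial.map_map, mapRingHom_comp, mapRingHom_comp]
          rfl) (AlgebraicClosure F) ψ).2
      rw [Polynomial.map_map, mapRingHom_comp, hψ] at hr
      rwa [Polynomial.map_map, mapRingHom_comp]
  have hN := hC₁ F
  rw [← hQ] at hN
  set N := Nat.card (A' →ₐ[k] F) with hNdef
  have hQ1 : (1 : ℝ) ≤ Q := by rw [hQ]; exact_mod_cast Nat.card_pos
  have hs1 : 1 ≤ Real.sqrt Q := Real.one_le_sqrt.2 hQ1
  have hss : Real.sqrt Q * Real.sqrt Q = Q := Real.mul_self_sqrt (by linarith)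
  have h1 : |(Nat.card (AdjoinRoot h₁ →ₐ[k] F) : ℝ) - N * Q| ≤ N * (C₀ * Real.sqrt Q) := by
    rw [hcard, hNdef, Nat.card_eq_fintype_card, Fintype.card]
    push_cast
    rw [← nsmul_eq_mul, ← nsmul_eq_mul, ← Finset.sum_const, ← Finset.sum_const, ← Finset.sum_sub_distrib]
    exact (Finset.abs_sum_le_sum_abs _ _).trans (Finset.sum_le_sum fun φ _ => hfib φ)
  have hQr : (0 : ℝ) ≤ Q ^ r := by positivity
  have hN' : (N : ℝ) ≤ (C₁ + 1) * Q ^ r := by
    have := le_abs_self ((N : ℝ) - Q ^ r)
    nlinarith [mul_le_mul_of_nonneg_left hs1 (abs_nonneg ((N : ℝ) - Q ^ r))]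
  set T : ℝ := (Nat.card (AdjoinRoot h₁ →ₐ[k] F) : ℝ)
  have h2 : |T - Q ^ (r + 1)| ≤ |T - N * Q| + |(N : ℝ) - Q ^ r| * Q := by
    have := abs_add_le (T - N * Q) (((N : ℝ) - Q ^ r) * Q)
    rw [abs_mul, abs_of_nonneg (a := Q) (by linarith)] at this
    refine le_trans (le_of_eq ?_) this
    congr 1; rw [pow_succ]; ring
  push_cast
  calc |T - Q ^ (r + 1)| * Real.sqrt Q ≤ (|T - N * Q| + |(N : ℝ) - Q ^ r| * Q) * Real.sqrt Q :=
        mul_le_mul_of_nonneg_right h2 (Real.sqrt_nonneg _)
    _ ≤ (N * (C₀ * Real.sqrt Q)) * Real.sqrt Q + |(N : ℝ) - Q ^ r| * Real.sqrt Q * Q := by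
        nlinarith [mul_le_mul_of_nonneg_right h1 (Real.sqrt_nonneg Q)]
    _ = N * C₀ * Q + |(N : ℝ) - Q ^ r| * Real.sqrt Q * Q := by linear_combination (N : ℝ) * C₀ * hss
    _ ≤ (C₁ + 1) * Q ^ r * C₀ * Q + C₁ * Q ^ r * Q := by gcongr
    _ = _ := by rw [pow_succ]; ring

/-- A birational model of every function field with closed constants. -/
theorem exists_model_points (r : ℕ) : ∀ {K : Type u} [Field K] [Algebra k K] [Algebra.EssFiniteType k K],
    (∀ y : K, IsAlgebraic k y → y ∈ Set.range (algebraMap k K)) → Algebra.trdeg k K = r →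
    ∃ A : Subalgebra k K, A.FG ∧ Birat A ∧ IsLW k A r := by
  induction r with
  | zero =>
    intro K _ _ _ hcl hr
    haveI : Algebra.IsAlgebraic k K := trdeg_eq_zero_iff.mp (by simpa using hr)
    refine ⟨⊥, Subalgebra.fg_bot, fun y => ?_, 0, fun F _ _ _ => ?_⟩
    · exact ⟨y, Algebra.mem_bot.2 (hcl y (Algebra.IsAlgebraic.isAlgebraic y)), 1, one_mem _,
        one_ne_zero, mul_one y⟩
    · rw [← Nat.card_congr ((Algebra.botEquiv k K).symm.arrowCongr (AlgEquiv.refl : F ≃ₐ[k] F))]
      simp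
  | succ r ih =>
    intro K _ _ _ hcl hr
    classical
    obtain ⟨s, hs, hsep⟩ := exists_isTranscendenceBasis_and_isSeparable_of_perfectField k K
    have hscard : s.card = r + 1 := by
      have h := hs.cardinalMk_eq_trdeg
      rw [hr, Cardinal.mk_coe_finset] at h
      exact_mod_cast h
    obtain ⟨t, ht⟩ := Finset.card_pos.mp (by omega : 0 < s.card)
    set s' := s.erase t with hs'
    set L₀ : IntermediateField k K := IntermediateField.adjoin k (s' : Set K) with hL₀
    haveI : Algebra.EssFiniteType L₀ K := Algebra.EssFiniteType.of_comp k L₀ K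
    set L := algebraicClosure L₀ K with hLdef
    haveI : Module.Finite L₀ L := NormFin18.finite_algebraicClosure L₀ K
    haveI : Algebra.EssFiniteType k L₀ := IntermediateField.essFiniteType_iff.mpr ⟨s', rfl⟩
    haveI : Algebra.EssFiniteType k L := Algebra.EssFiniteType.comp k L₀ L
    haveI : IsScalarTower k L K := IsScalarTower.of_algebraMap_eq fun _ => rfl
    haveI : Algebra.EssFiniteType L K := Algebra.EssFiniteType.of_comp k L K
    have himage : ((fun i : s => (i : K)) '' {i | (i : K) ≠ t}) = (s' : Set K) := by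
      ext x
      simp [hs', and_comm]
    have htr0 : Transcendental L₀ t := by
      have h := hs.1.transcendental_adjoin (s := {i : s | (i : K) ≠ t}) (i := ⟨t, ht⟩) (by simp)
      rw [himage] at h
      exact IntermediateField.transcendental_adjoin_iff.mpr h
    have htr : Transcendental L t := fun h => htr0 (h.restrictScalars L₀)
    have hclL : ∀ y : K, IsAlgebraic L y → y ∈ Set.range (algebraMap L K) := fun y hy =>
      ⟨⟨y, mem_algebraicClosure_iff.2 (hy.restrictScalars L₀)⟩, rfl⟩
    have hle : IntermediateField.adjoin k (s : Set K) ≤ (L⟮t⟯).restrictScalars k := by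
      rw [IntermediateField.adjoin_le_iff]
      intro x hx
      by_cases hxt : x = t
      · exact hxt ▸ IntermediateField.mem_adjoin_simple_self L t
      · have hxL : x ∈ L := mem_algebraicClosure_iff.2 (isAlgebraic_algebraMap
          (⟨x, IntermediateField.subset_adjoin k _ (by simp [hs', hxt, Finset.mem_coe.1 hx])⟩ : L₀))
        exact L⟮t⟯.algebraMap_mem ⟨x, hxL⟩
    have hsepL : ∀ z : K, IsSeparable L⟮t⟯ z := fun z => by
      letI : Algebra (IntermediateField.adjoin k (s : Set K)) L⟮t⟯ :=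
        (IntermediateField.inclusion hle).toRingHom.toAlgebra
      haveI : IsScalarTower (IntermediateField.adjoin k (s : Set K)) L⟮t⟯ K :=
        IsScalarTower.of_algebraMap_eq (fun x => (IntermediateField.coe_inclusion hle x).symm)
      exact IsSeparable.tower_top _ ((Algebra.isSeparable_def _ _).mp hsep z)
    haveI : Algebra.IsSeparable L⟮t⟯ K := ⟨hsepL⟩
    haveI : Algebra.EssFiniteType L⟮t⟯ K := Algebra.EssFiniteType.of_comp L L⟮t⟯ K
    haveI : FiniteDimensional L⟮t⟯ K := Algebra.finite_of_essFiniteType_of_isAlgebraic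
    have hg : IsGeometric L K := GeomFF26.isGeometric_of_separating hclL htr
    obtain ⟨M⟩ := exists_model (k := L) (K := K) ⟨t, htr, inferInstance⟩ hg
    have htd : Algebra.trdeg k L = r := by
      have h1 := trdeg_add_eq k L (A := K)
      have h2 : Algebra.trdeg L K = 1 := by
        haveI : Algebra.IsAlgebraic (Algebra.adjoin L ({t} : Set K)) K :=
          IntermediateField.isAlgebraic_adjoin_iff_top.mp inferInstance
        refine le_antisymm ((Algebra.IsAlgebraic.trdeg_le_cardinalMk L (A := K) ({t} : Set K)).trans (by simp)) ?_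
        rw [Cardinal.one_le_iff_ne_zero]
        exact fun h => htr ((trdeg_eq_zero_iff.mp h).isAlgebraic t)
      rw [h2, hr, Nat.cast_succ] at h1
      exact Cardinal.add_one_inj.mp h1
    obtain ⟨A, hA, hb, hlw⟩ := ih (K := L) (fun y hy => by
      obtain ⟨c, hc⟩ := hcl (y : K) (hy.algHom (IsScalarTower.toAlgHom k L K))
      exact ⟨c, (algebraMap L K).injective ((IsScalarTower.algebraMap_apply k L K c).symm.trans hc)⟩) htd
    exact exists_curve_step htd hA hb hlw M hg

end Groth.Agent.LangWeil25
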