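import Groth.Agent.Lib.LangWeil25.DomainPts
import Groth.Agent.Lib.Zeta25.ZetaParts
import Groth.Agent.Lib.Zeta25.PointBound
import Groth.Agent.Lib.VarDim.Irred
import Groth.Agent.S2525

/-!
# Components, their numbers of geometric components, and their points
-/

set_option autoImplicit false

universe u

namespace Groth.Agent.LangWeil25

open AlgebraicGeometry CategoryTheory Limits TopologicalSpace

variable {k : Type u} [Field k] [Finite k] {X : Scheme.{u}} (f : X ⟶ Spec (CommRingCat.of k))

theorem evaluation_fromSpec {U : X.Opens} (hU : IsAffineOpen U) (x : X) (hx : x ∈ U) :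
    Spec.map (X.evaluation U x hx) ≫ hU.fromSpec = X.fromSpecResidueField x := by
  rw [Scheme.evaluation, Spec.map_comp, Category.assoc]
  show _ = Spec.map (X.residue x) ≫ X.fromSpecStalk x
  rw [← hU.fromSpecStalk_eq_fromSpecStalk hx]
  rfl

omit [Finite k] in
theorem pointCount_spec (R F : Type u) [CommRing R] [Algebra k R] [Field F] [Algebra k F] :
    SgaExt.pointCount (Spec.map (CommRingCat.ofHom (algebraMap k R))) F = Nat.card (R →ₐ[k] F) := by
  refine Nat.card_congr
    { toFun := fun g => AlgHom.mk (Spec.preimage g.1).hom fun c => ?_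
      invFun := fun φ => ⟨Spec.map (CommRingCat.ofHom φ.toRingHom), ?_⟩
      left_inv := fun g => Subtype.ext (Spec.map_preimage g.1)
      right_inv := fun φ => AlgHom.coe_ringHom_injective ?_ }
  · have h := g.2
    rw [← Spec.map_preimage g.1, ← Spec.map_comp] at h
    exact ConcreteCategory.congr_hom (Spec.map_inj.mp h) c
  · rw [← Spec.map_comp, ← CommRingCat.ofHom_comp]
    exact congrArg (fun z => Spec.map (CommRingCat.ofHom z)) φ.comp_algebraMap
  · show (Spec.preimage (Spec.map (CommRingCat.ofHom φ.toRingHom))).hom = φ.toRingHom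
    rw [Spec.preimage_map]
    rfl

/-- The points of an affine open of an irreducible component. -/
theorem exists_open_points [LocallyOfFiniteType f] [QuasiCompact f] {η : X} {U : X.Opens}
    (hU : IsAffineOpen U) (hη : η ∈ U) (hgen : ∀ x ∈ U, η ⤳ x) {r : ℕ} (hr : VarDim.sdim f η = r) :
    letI := VarDim.resAlg f η
    0 < Module.finrank k (algebraicClosure k (X.residueField η)) ∧
    ∃ C : ℕ, ∀ e : ℕ, 1 ≤ e →
      (Module.finrank k (algebraicClosure k (X.residueField η)) ∣ e →
        |(Zeta.nPts (hU.fromSpec ≫ f) e : ℝ) -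
          Module.finrank k (algebraicClosure k (X.residueField η)) * ((Nat.card k : ℝ) ^ e) ^ r| *
            Real.sqrt ((Nat.card k : ℝ) ^ e) ≤ C * ((Nat.card k : ℝ) ^ e) ^ r) ∧
      (¬ Module.finrank k (algebraicClosure k (X.residueField η)) ∣ e →
        (Zeta.nPts (hU.fromSpec ≫ f) e : ℝ) * (Nat.card k : ℝ) ^ e ≤ C * ((Nat.card k : ℝ) ^ e) ^ r) := by
  letI := VarDim.resAlg f η
  set K := X.residueField η
  let φ := Spec.preimage (hU.fromSpec ≫ f)
  letI : Algebra k Γ(X, U) := φ.hom.toAlgebra
  have hφ : hU.fromSpec ≫ f = Spec.map (CommRingCat.ofHom (algebraMap k Γ(X, U))) :=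
    (Spec.map_preimage _).symm
  haveI : LocallyOfFiniteType (Spec.map (CommRingCat.ofHom (algebraMap k Γ(X, U)))) := by
    rw [← hφ]; infer_instance
  haveI : Algebra.FiniteType k Γ(X, U) := RingHom.finiteType_algebraMap.mp
    ((HasRingHomProperty.Spec_iff (P := @LocallyOfFiniteType)).mp
      ‹LocallyOfFiniteType (Spec.map (CommRingCat.ofHom (algebraMap k Γ(X, U))))›)
  have hcomm : CommRingCat.ofHom (algebraMap k Γ(X, U)) ≫ X.evaluation U η hη =
      CommRingCat.ofHom (VarDim.baseToRes f η) := by
    refine Spec.map_inj.mp ?_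
    rw [Spec.map_comp, ← WeilH13.fromSpecResidueField_comp f η, ← hφ, ← Category.assoc, evaluation_fromSpec]
  let ψ : Γ(X, U) →ₐ[k] K :=
    { (X.evaluation U η hη).hom with commutes' := fun c => ConcreteCategory.congr_hom hcomm c }
  have hfrac : ∀ y : K, ∃ a b, y = ψ a / ψ b := fun y => VarDim.exists_evaluation_eq_div hU η hη y
  have hA : ψ.range.FG := by
    rw [← Algebra.map_top]
    exact (Algebra.FiniteType.out (R := k) (A := Γ(X, U))).map ψ
  have hAb : Birat ψ.range := fun y => by
    obtain ⟨a, b, h⟩ := hfrac y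
    by_cases hb : ψ b = 0
    · exact ⟨0, zero_mem _, 1, one_mem _, one_ne_zero, by simp [h, hb]⟩
    · exact ⟨_, ⟨a, rfl⟩, _, ⟨b, rfl⟩, hb, by show y * ψ b = ψ a; rw [h, div_mul_cancel₀ _ hb]⟩
  haveI : Algebra.EssFiniteType k K := by
    haveI : Algebra.FiniteType k ψ.range := (Subalgebra.fg_iff_finiteType _).mp hA
    haveI : IsFractionRing ψ.range K := IsFractionRing.of_field _ _ fun y => by
      obtain ⟨a, b, h⟩ := hfrac y
      exact ⟨⟨_, a, rfl⟩, ⟨_, b, rfl⟩, h⟩
    haveI : Algebra.EssFiniteType ψ.range K := Algebra.EssFiniteType.of_isLocalization _ (nonZeroDivisors ψ.range)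
    exact Algebra.EssFiniteType.comp k ψ.range K
  have hnil : ∀ a, ψ a = 0 → IsNilpotent a := fun a ha => by
    rw [← mem_nilradical, nilradical_eq_sInf, Ideal.mem_sInf]
    intro J hJ
    have hle : hU.primeIdealOf ⟨η, hη⟩ ≤ (⟨J, hJ⟩ : PrimeSpectrum Γ(X, U)) := by
      rw [← VarDim.fromSpec_le_iff hU, hU.fromSpec_primeIdealOf]
      exact hgen _ (by rw [← SetLike.mem_coe, ← hU.range_fromSpec]; exact ⟨_, rfl⟩)
    refine hle ?_
    rw [← VarDim.ker_evaluation hU η hη]
    exact ha
  have htr : Algebra.trdeg k K = r := by rw [← hr]; exact VarDim.trdeg_residueField f η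
  obtain ⟨hm, C, hC⟩ := exists_domain_points htr hA hAb
  refine ⟨hm, C, fun e he => ?_⟩
  obtain ⟨F, _, _, _, hF⟩ := Zeta25.exists_extension k e (by omega)
  haveI : Module.Finite k F := Module.Finite.of_finite
  haveI : LocallyOfFiniteType (hU.fromSpec ≫ f) := inferInstance
  haveI : QuasiCompact (hU.fromSpec ≫ f) := by rw [hφ]; infer_instance
  have hcard : Zeta.nPts (hU.fromSpec ≫ f) e = Nat.card (ψ.range →ₐ[k] F) := by
    rw [← hF, ← Zeta25.pointCount_eq_nPts, hφ, pointCount_spec]
    refine (Nat.card_congr (Equiv.ofBijective (fun σ : ψ.range →ₐ[k] F => σ.comp ψ.rangeRestrict) ⟨?_, ?_⟩)).symm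
    · exact fun σ τ h => AlgHom.ext fun x => by
        obtain ⟨a, ha⟩ := ψ.rangeRestrict_surjective x
        rw [← ha]
        exact AlgHom.congr_fun h a
    · intro σ
      refine ⟨AlgHom.liftOfSurjective ψ.rangeRestrict ψ.rangeRestrict_surjective σ fun a ha => ?_,
        AlgHom.ext fun a => by simp⟩
      rw [RingHom.mem_ker] at ha ⊢
      exact ((hnil a (congrArg Subtype.val ha)).map σ).eq_zero
  rw [hcard, ← hF, ← Nat.cast_pow, ← Module.natCard_eq_pow_finrank]
  exact hC F

omit [Finite k] in
theorem separableClosure_finrank [PerfectField k] (K : Type u) [Field K] [Algebra k K] :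
    separableClosure k K = algebraicClosure k K := by
  ext x
  rw [mem_separableClosure_iff, mem_algebraicClosure_iff]
  refine ⟨fun h => h.isIntegral.isAlgebraic, fun h => ?_⟩
  exact PerfectField.separable_of_irreducible (minpoly.irreducible h.isIntegral)

theorem essFiniteType_resField [LocallyOfFiniteType f] (x : X) :
    letI := VarDim.resAlg f x
    Algebra.EssFiniteType k (X.residueField x) := by
  letI := VarDim.resAlg f x
  obtain ⟨U, hU, hx, -⟩ := exists_isAffineOpen_mem_and_subset (U := (⊤ : X.Opens)) (x := x) trivial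
  letI : Algebra k Γ(X, U) := (VarDim.baseToSections f U).toAlgebra
  haveI : Algebra.FiniteType k Γ(X, U) := VarDim.finiteType_baseToSections f hU
  let ψ : Γ(X, U) →ₐ[k] X.residueField x :=
    { (X.evaluation U x hx).hom with
      commutes' := fun c => RingHom.congr_fun (VarDim.evaluation_comp_baseToSections f x hx) c }
  haveI : Algebra.FiniteType k ψ.range :=
    Algebra.FiniteType.of_surjective ψ.rangeRestrict ψ.rangeRestrict_surjective
  haveI : IsFractionRing ψ.range (X.residueField x) := IsFractionRing.of_field _ _ fun y => by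
    obtain ⟨a, b, h⟩ := VarDim.exists_evaluation_eq_div hU x hx y
    exact ⟨⟨_, a, rfl⟩, ⟨_, b, rfl⟩, h⟩
  haveI : Algebra.EssFiniteType ψ.range (X.residueField x) :=
    Algebra.EssFiniteType.of_isLocalization _ (nonZeroDivisors ψ.range)
  exact Algebra.EssFiniteType.comp k ψ.range _

/-- The number of geometric components of an irreducible component. -/
theorem card_preimage_components [LocallyOfFiniteType f] [QuasiCompact f] {Z : Set X} (hZc : IsClosed Z)
    (hZi : IsIrreducible Z) :
    letI := VarDim.resAlg f hZi.genericPoint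
    Nat.card (irreducibleComponents ((pullback.fst f (Spec.map (CommRingCat.ofHom
        (algebraMap k (AlgebraicClosure k))))).base ⁻¹' Z)) =
      Module.finrank k (algebraicClosure k (X.residueField hZi.genericPoint)) := by
  letI := VarDim.resAlg f hZi.genericPoint
  set I := Scheme.IdealSheafData.vanishingIdeal (⟨Z, hZc⟩ : Closeds X)
  let W := I.subscheme
  let i : W ⟶ X := I.subschemeι
  have hrange : Set.range i.base = Z := by
    rw [show Set.range i.base = (I.support : Set X) from I.range_subschemeι]
    exact Scheme.IdealSheafData.coe_support_vanishingIdeal _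
  haveI : IrreducibleSpace W := by
    haveI : IrreducibleSpace Z := Subtype.irreducibleSpace hZi
    let hh := i.isEmbedding.toHomeomorph.trans (Homeomorph.setCongr hrange)
    haveI : Nonempty W := (hh.surjective ⟨_, hZi.1.some_mem⟩).nonempty
    exact hh.isOpenEmbedding.irreducibleSpace
  have hgp : i (genericPoint W) = hZi.genericPoint := by
    refine IsGenericPoint.eq ?_ (hZi.isGenericPoint_genericPoint hZc)
    have h := (genericPoint_spec W).image i.continuous
    rwa [Set.image_univ, hrange, hZc.closure_eq] at h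
  rw [← hgp]
  set ξ := genericPoint W
  letI := VarDim.resAlg f (i ξ)
  obtain ⟨φ, hφ, hS⟩ := Groth.Agent.S2525.result (k'' := AlgebraicClosure k) (i ≫ f)
  letI := φ.toAlgebra
  have hφe : φ = (i.residueFieldMap ξ).hom.comp (VarDim.baseToRes f (i ξ)) := by
    rw [← VarDim.baseToRes_comp, ← CommRingCat.hom_ofHom φ]
    exact congrArg CommRingCat.Hom.hom (Spec.map_inj.mp (hφ.trans (WeilH13.fromSpecResidueField_comp _ ξ)))
  let e : X.residueField (i ξ) ≃ₐ[k] W.residueField ξ :=
    AlgEquiv.ofBijective { (i.residueFieldMap ξ).hom with commutes' := fun c => (RingHom.congr_fun hφe c).symm }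
      ⟨(i.residueFieldMap ξ).hom.injective, Zeta25.residueFieldMap_surjective i ξ⟩
  haveI : Algebra.EssFiniteType k (X.residueField (i ξ)) := essFiniteType_resField f (i ξ)
  haveI : Module.Finite k (algebraicClosure k (X.residueField (i ξ))) := NormFin18.finite_algebraicClosure _ _
  let eac : algebraicClosure k (X.residueField (i ξ)) ≃ₐ[k] separableClosure k (W.residueField ξ) :=
    e.algebraicClosure.trans (IntermediateField.equivOfEq (separableClosure_finrank _).symm)
  haveI : Module.Finite k (separableClosure k (W.residueField ξ)) := Module.Finite.equiv eac.toLinearEquiv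
  have h := hS inferInstance ⟨IsAlgClosed.lift⟩
  rw [← eac.toLinearEquiv.finrank_eq] at h
  rw [← h]
  -- the reduced component
  set s := Spec.map (CommRingCat.ofHom (algebraMap k (AlgebraicClosure k)))
  let j : pullback (i ≫ f) s ⟶ pullback f s := (pullbackRightPullbackFstIso f s i).inv ≫ pullback.snd i (pullback.fst f s)
  haveI : IsClosedImmersion (pullback.snd i (pullback.fst f s)) := MorphismProperty.pullback_snd _ _ inferInstance
  haveI : IsClosedImmersion j := inferInstance
  have hjr : Set.range j.base = (pullback.fst f s).base ⁻¹' Z := by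
    rw [← hrange, ← Scheme.Pullback.range_snd i (pullback.fst f s)]
    simp only [j, Scheme.Hom.comp_base, TopCat.coe_comp]
    exact (pullbackRightPullbackFstIso f s i).inv.homeomorph.surjective.range_comp _
  let hom := j.isEmbedding.toHomeomorph.trans (Homeomorph.setCongr hjr)
  exact Nat.card_congr (irreducibleComponentsEquivOfIsPreirreducibleFiber hom hom.continuous hom.isOpenMap
    (fun x => (Set.subsingleton_singleton.preimage hom.injective).isPreirreducible) hom.surjective).toEquiv

end Groth.Agent.LangWeil25
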