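import Groth.Agent.Lib.LangWeil25.Expand
import Mathlib.Algebra.CharP.Algebra
import Mathlib.Algebra.CharP.Lemmas
import Mathlib.Data.Nat.Sqrt
import Mathlib.FieldTheory.Finite.Basic
import Mathlib.LinearAlgebra.FiniteDimensional.Basic
import Mathlib.LinearAlgebra.FiniteDimensional.Lemmas

/-!
# Stepanov's method

Let `g` be irreducible over `K` of degree `D` in `y`. The number of points `(a, b)` of `g = 0` with
`a ^ Q = a` whose Frobenius image is prescribed by an algebraic function `P / δ`, that is
`δ(a) b ^ Q = P(a, b)`, is at most `Q + C √Q`, with `C` depending on the degrees only.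
-/

set_option autoImplicit false

universe u

namespace Groth.Agent.LangWeil25

open Polynomial

variable {K : Type u} [Field K]

private theorem charP_ps (p : ℕ) [CharP K p] : CharP (PowerSeries K) p :=
  charP_of_injective_ringHom PowerSeries.C_injective p

/-- `Σ S_i w_i ^ Q = 0` forces `S = 0` for independent `w` when all `S_i` vanish to order `< Q`. -/
theorem eq_zero_of_sum_mul_pow (p n Q : ℕ) [Fact p.Prime] [CharP K p] (hQ : Q = p ^ n)
    (V : Submodule K (PowerSeries K)) (hV : ∀ s ∈ V, PowerSeries.X ^ Q ∣ s → s = 0)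
    {ι : Type*} (s : Finset ι) :
    ∀ (w S : ι → PowerSeries K), (∀ d : ι → K, ∑ i ∈ s, d i • w i = 0 → ∀ i ∈ s, d i = 0) →
      (∀ i ∈ s, S i ∈ V) → ∑ i ∈ s, S i * w i ^ Q = 0 → ∀ i ∈ s, S i = 0 := by
  classical
  haveI := charP_ps (K := K) p
  haveI : ExpChar (PowerSeries K) p := ExpChar.prime Fact.out
  induction s using Finset.strongInduction with
  | _ s ih =>
    intro w S hw hS hsum
    rcases s.eq_empty_or_nonempty with rfl | ⟨i₁, hi₁⟩
    · simp
    have hw0 : ∀ i ∈ s, w i ≠ 0 := fun i hi h0 => by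
      have := hw (fun j => if j = i then 1 else 0) (by simp [Finset.sum_ite_eq', hi, h0]) i hi
      simp at this
    have hex : ∃ m, ∃ i ∈ s, PowerSeries.coeff m (w i) ≠ 0 := by
      obtain ⟨m, hm⟩ := (PowerSeries.exists_coeff_ne_zero_iff_ne_zero).mpr (hw0 i₁ hi₁)
      exact ⟨m, i₁, hi₁, hm⟩
    obtain ⟨i₀, hi₀, hc₀⟩ := Nat.find_spec hex
    set m := Nat.find hex with hm
    have hlow : ∀ i ∈ s, PowerSeries.X ^ m ∣ w i := fun i hi => by
      rw [PowerSeries.X_pow_dvd_iff]
      intro k hk
      by_contra h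
      exact Nat.find_min hex hk ⟨i, hi, h⟩
    let d : ι → K := fun i => PowerSeries.coeff m (w i) / PowerSeries.coeff m (w i₀)
    let w' : ι → PowerSeries K := fun i => w i - d i • w i₀
    have hhigh : ∀ i ∈ s, PowerSeries.X ^ (m + 1) ∣ w' i := fun i hi => by
      rw [PowerSeries.X_pow_dvd_iff]
      intro k hk
      simp only [w', map_sub, PowerSeries.coeff_smul, smul_eq_mul]
      rcases Nat.lt_succ_iff_lt_or_eq.mp hk with hk' | hk'
      · rw [PowerSeries.X_pow_dvd_iff.mp (hlow i hi) k hk',
          PowerSeries.X_pow_dvd_iff.mp (hlow i₀ hi₀) k hk']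
        simp
      · subst hk'
        simp only [d]
        rw [div_mul_cancel₀ _ hc₀, sub_self]
    set t := s.erase i₀ with ht
    let S₀ := S i₀ + ∑ i ∈ t, d i ^ Q • S i
    have heq : S₀ * w i₀ ^ Q + ∑ i ∈ t, S i * w' i ^ Q = 0 := by
      conv_rhs => rw [← hsum, ← Finset.add_sum_erase s _ hi₀]
      simp only [S₀, w', ← ht]
      rw [add_mul, Finset.sum_mul, add_assoc, ← Finset.sum_add_distrib]
      refine congrArg _ (Finset.sum_congr rfl fun i _ => ?_)
      rw [hQ, sub_pow_char_pow, ← hQ, smul_pow]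
      simp only [smul_mul_assoc, mul_sub, mul_smul_comm]
      abel
    have hS₀V : S₀ ∈ V := Submodule.add_mem _ (hS i₀ hi₀)
      (Submodule.sum_mem _ fun i hi => Submodule.smul_mem _ _ (hS i (Finset.mem_of_mem_erase hi)))
    have hS₀ : S₀ = 0 := by
      refine hV _ hS₀V ?_
      obtain ⟨v, hv⟩ := hlow i₀ hi₀
      have hvu : IsUnit v := by
        rw [PowerSeries.isUnit_iff_constantCoeff, isUnit_iff_ne_zero]
        intro h
        apply hc₀
        rw [hv, PowerSeries.coeff_X_pow_mul', if_pos le_rfl, Nat.sub_self,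
          PowerSeries.coeff_zero_eq_constantCoeff_apply, h]
      have h1 : PowerSeries.X ^ ((m + 1) * Q) ∣ S₀ * w i₀ ^ Q := by
        rw [eq_neg_of_add_eq_zero_left heq]
        refine dvd_neg.mpr (Finset.dvd_sum fun i hi => dvd_mul_of_dvd_right ?_ _)
        rw [pow_mul]
        exact pow_dvd_pow_of_dvd (hhigh i (Finset.mem_of_mem_erase hi)) _
      rw [hv, mul_pow, ← pow_mul, ← mul_assoc, Nat.succ_mul, pow_add,
        mul_comm S₀ (PowerSeries.X ^ (m * Q)), mul_assoc,
        mul_dvd_mul_iff_left (pow_ne_zero _ PowerSeries.X_ne_zero)] at h1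
      exact (hvu.pow Q).dvd_mul_right.mp h1
    rw [hS₀, zero_mul, zero_add] at heq
    have hrec := ih t (Finset.erase_ssubset hi₀) w' S (fun e he i hi => by
      have h2 := hw (fun j => if j = i₀ then -∑ l ∈ t, e l * d l else e j) (by
        rw [← Finset.add_sum_erase s _ hi₀, if_pos rfl]
        rw [Finset.sum_congr rfl (g := fun j => e j • w j) fun j hj => by
          rw [if_neg (Finset.ne_of_mem_erase hj)]]
        rw [← ht, neg_smul, Finset.sum_smul]
        rw [← he]
        simp only [w', smul_sub, smul_smul, Finset.sum_sub_distrib]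
        abel) i (Finset.mem_of_mem_erase hi)
      simpa [Finset.ne_of_mem_erase hi] using h2)
      (fun i hi => hS i (Finset.mem_of_mem_erase hi)) heq
    intro i hi
    by_cases hii : i = i₀
    · subst hii
      have : ∑ j ∈ t, d j ^ Q • S j = 0 := Finset.sum_eq_zero fun j hj => by rw [hrec j hj, smul_zero]
      simpa [S₀, this] using hS₀
    · exact hrec i (Finset.mem_erase.mpr ⟨hii, hi⟩)

variable {g : K[X][X]} {c : ℕ}

/-- The Stepanov constant. -/
def stepT (c D : ℕ) : ℕ := c * D + (2 * c * D * D + 3)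

/-- Below this square root of `Q` only the trivial bound is used. -/
def stepB (c D e : ℕ) : ℕ :=
  D * stepT c D + e * D * D + D + c * D * D + c * D * D * (2 * c * D * D + 3) + D + 1

/-- The final constant. -/
def stepC (c D e : ℕ) : ℕ := D * stepT c D + 1 + D * stepB c D e

theorem trivial_bound (hg : g.Monic) (Q : ℕ) (hQ : 1 < Q) (S : Finset (K × K))
    (hS : ∀ z ∈ S, z.1 ^ Q = z.1 ∧ OnCurve g z.1 z.2) : S.card ≤ g.natDegree * Q := by
  classical
  refine le_trans (Finset.card_le_mul_card_image (f := Prod.fst) S g.natDegree fun a _ => ?_) ?_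
  · set f := g.map (evalRingHom a) with hf
    refine le_trans ?_ ((card_roots' f).trans_eq (hg.natDegree_map _))
    refine le_trans ?_ (Multiset.toFinset_card_le _)
    refine Finset.card_le_card_of_injOn Prod.snd (fun z hz => ?_) fun z hz z' hz' h => ?_
    · rw [Finset.mem_coe, Finset.mem_filter] at hz
      rw [Finset.mem_coe, Multiset.mem_toFinset, mem_roots (hg.map _).ne_zero, IsRoot, eval_map]
      have := (hS z hz.1).2
      rw [hz.2] at this
      exact this
    · rw [Finset.mem_coe, Finset.mem_filter] at hz hz'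
      exact Prod.ext (hz.2.trans hz'.2.symm) h
  · refine Nat.mul_le_mul_left _ ?_
    have hp := FiniteField.X_pow_card_sub_X_ne_zero K hQ
    refine le_trans ?_ ((card_roots' (X ^ Q - X : K[X])).trans_eq
      (FiniteField.X_pow_card_sub_X_natDegree_eq K hQ))
    refine le_trans ?_ (Multiset.toFinset_card_le _)
    refine Finset.card_le_card fun a ha => ?_
    obtain ⟨z, hz, rfl⟩ := Finset.mem_image.mp ha
    rw [Multiset.mem_toFinset, mem_roots hp, IsRoot, eval_sub, eval_pow, eval_X, sub_eq_zero]
    exact (hS z hz).1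

variable [IsAlgClosed K]

/-- Stepanov: at most `Q + C √Q` points with prescribed Frobenius. -/
theorem stepanov (hg : g.Monic) (hc : WBound g c) [IsDomain (AdjoinRoot g)] {e : ℕ} {δ : K[X]}
    (hδ : δ.natDegree ≤ e) {P : AdjoinRoot g} (hP : P ∈ Fl g c e) (p n Q : ℕ) [Fact p.Prime]
    [CharP K p] (hQ : Q = p ^ n) (hQ1 : 1 < Q) (S : Finset (K × K))
    (hS : ∀ z ∈ S, z.1 ^ Q = z.1 ∧ ∃ h : OnCurve g z.1 z.2,
      (Algebra.norm K[X] (GG g)).eval z.1 ≠ 0 ∧ δ.eval z.1 ≠ 0 ∧
        δ.eval z.1 * z.2 ^ Q = evAt h P) :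
    S.card ≤ Q + stepC c g.natDegree e * (Nat.sqrt Q + 2) := by
  classical
  set D := g.natDegree with hD
  set s := Nat.sqrt Q with hs
  have hs1 : s * s ≤ Q := Nat.sqrt_le Q
  have hs2 : Q < (s + 1) * (s + 1) := Nat.lt_succ_sqrt Q
  by_cases hsmall : s < stepB c D e
  · refine le_trans (trivial_bound hg Q hQ1 S fun z hz => ⟨(hS z hz).1, (hS z hz).2.choose⟩) ?_
    have h1 : Q ≤ stepB c D e * (s + 2) := by nlinarith
    calc D * Q ≤ D * (stepB c D e * (s + 2)) := Nat.mul_le_mul_left _ h1
      _ ≤ stepC c D e * (s + 2) := by rw [← mul_assoc, stepC]; exact Nat.mul_le_mul_right _ (by omega)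
      _ ≤ Q + stepC c D e * (s + 2) := Nat.le_add_left _ _
  push Not at hsmall
  rcases S.eq_empty_or_nonempty with rfl | hne
  · simp
  haveI := charP_ps (K := K) p
  haveI : ExpChar (PowerSeries K) p := ExpChar.prime Fact.out
  have hD0 : 0 < D := by
    obtain ⟨z, hz⟩ := hne
    obtain ⟨h, -⟩ := (hS z hz).2
    rcases Nat.eq_zero_or_pos D with hD0 | hD0
    · exfalso
      have hg1 : g = 1 := hg.natDegree_eq_zero.mp hD0
      simp [OnCurve, hg1] at h
    · exact hD0
  set l := (Q - 1) / D with hl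
  set m := s / D + stepT c D with hm
  have hDl : D * l ≤ Q - 1 := Nat.mul_div_le _ _
  have hDl' : Q - 1 < D * (l + 1) := Nat.lt_mul_div_succ _ hD0
  have hDs : D * (s / D) ≤ s := Nat.mul_div_le _ _
  have hDs' : s < D * (s / D + 1) := Nat.lt_mul_div_succ _ hD0
  set N := l + 2 * ee g c * s + m + e * D with hN
  haveI := finiteDimensional_Fl (g := g) c N
  let mon := mono (g := g) c
  let tw : Idx g c m → AdjoinRoot g := fun β =>
    algebraMap K[X] (AdjoinRoot g) (X ^ (β.2 : ℕ) * δ ^ (D - β.1)) * P ^ (β.1 : ℕ)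
  have htw : ∀ β, tw β ∈ Fl g c (m + e * D) := fun β => by
    refine Fl_mono g c ?_ (Fl_mul_mem hg hc (algebraMap_mem hg hc le_rfl) (Fl_pow_mem' hg hc hP _))
    have h1 : (X ^ (β.2 : ℕ) * δ ^ (D - β.1) : K[X]).natDegree ≤ β.2 + (D - β.1) * e := by
      refine le_trans natDegree_mul_le (Nat.add_le_add (by simp) ?_)
      exact le_trans natDegree_pow_le (Nat.mul_le_mul_left _ hδ)
    have h2 := β.2.2
    have h3 := β.1.2
    have h4 : (D - β.1) * e + β.1 * e = e * D := by
      rw [← Nat.add_mul, Nat.sub_add_cancel (le_of_lt h3), mul_comm]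
    omega
  let T : (Idx g c l × Idx g c m → K) →ₗ[K] (Fin s → AdjoinRoot g) :=
    LinearMap.pi fun k => Fintype.linearCombination K
      (fun q : Idx g c l × Idx g c m => PowerSeries.coeff (k : ℕ) (Psi g (mon l q.1)) * tw q.2)
  have hTmem : ∀ u k, T u k ∈ Fl g c N := fun u k => by
    simp only [T, LinearMap.pi_apply, Fintype.linearCombination_apply]
    refine Submodule.sum_mem _ fun q _ => Submodule.smul_mem _ _ ?_
    have hmo : mon l q.1 ∈ Fl g c l := by
      rw [Fl_eq_span]; exact Submodule.subset_span ⟨q.1, rfl⟩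
    refine Fl_mono g c ?_ (Fl_mul_mem hg hc (Psi_mem hg hc hmo k) (htw q.2))
    have : 2 * ee g c * (k : ℕ) ≤ 2 * ee g c * s := Nat.mul_le_mul_left _ k.2.le
    omega
  let T' : (Idx g c l × Idx g c m → K) →ₗ[K] (Fin s → Fl g c N) :=
    LinearMap.pi fun k => LinearMap.codRestrict (Fl g c N) ((LinearMap.proj k).comp T)
      (fun u => hTmem u k)
  have hl' : Fintype.card (Idx g c l) = Module.finrank K (Fl g c l) := by
    rw [finrank_Fl c hg]; simp [Fintype.card_sigma]
  have hm' : Fintype.card (Idx g c m) = Module.finrank K (Fl g c m) := by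
    rw [finrank_Fl c hg]; simp [Fintype.card_sigma]
  have hlt : Module.finrank K (Fin s → Fl g c N) <
      Module.finrank K (Idx g c l × Idx g c m → K) := by
    rw [Module.finrank_pi_fintype, Module.finrank_pi, Fintype.card_prod, hl', hm', Finset.sum_const,
      Finset.card_univ, Fintype.card_fin, smul_eq_mul]
    refine lt_of_le_of_lt (Nat.mul_le_mul_left s (finrank_Fl_le c hg N)) ?_
    refine lt_of_lt_of_le ?_ (Nat.mul_le_mul (le_finrank_Fl c hg l) (le_finrank_Fl c hg m))
    rw [← hD]
    have hB : D * stepT c D + e * D * D + D + c * D * D + c * D * D * (2 * c * D * D + 3) + D + 1 ≤ s :=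
      hsmall
    have hT : D * stepT c D = c * D * D + D * (2 * c * D * D + 3) := by rw [stepT]; ring
    have hA : Q ≤ (D * (l + 1) - c * D * D) + c * D * D := by omega
    have hB' : s + (2 * c * D * D + 3) ≤ D * (m + 1) - c * D * D := by
      have h1 : D * (m + 1) = D * (s / D + 1) + D * stepT c D := by rw [hm]; ring
      have h2 : 2 * c * D * D + 3 ≤ D * (2 * c * D * D + 3) := Nat.le_mul_of_pos_left _ hD0
      omega
    have hN' : D * (N + 1) ≤ Q + 2 * c * D * D * s + s + D * stepT c D + e * D * D + D := by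
      have : D * (N + 1) = D * l + 2 * c * D * D * s + D * (s / D) + D * stepT c D + e * D * D + D := by
        rw [hN, hm]; simp only [ee, ← hD]; ring
      omega
    generalize D * (l + 1) - c * D * D = A at hA ⊢
    generalize D * (m + 1) - c * D * D = B at hB' ⊢
    rw [show 2 * c * D * D = 2 * (c * D * D) by ring] at hB hB' hN'
    generalize c * D * D = w at hA hB hB' hN'
    have hN'' : D * (N + 1) ≤ Q + 2 * w * s + s + (D * stepT c D + e * D * D + D) := by omega
    clear hN'
    generalize D * stepT c D + e * D * D + D = R at hB hN''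
    have hR : R + w + w * (2 * w + 3) + D + 1 ≤ s := hB
    have h1 : s * (R + w + w * (2 * w + 3) + 1) ≤ s * s := Nat.mul_le_mul_left _ (by omega)
    have h2 : w * (2 * w + 3) ≤ s * (w * (2 * w + 3)) := Nat.le_mul_of_pos_left _ (by omega)
    have h3 : s * (D * (N + 1)) ≤ s * (Q + 2 * w * s + s + R) := Nat.mul_le_mul_left _ (by omega)
    have h4 : (A + w) * (s + (2 * w + 3)) ≥ Q * (s + (2 * w + 3)) := Nat.mul_le_mul_right _ hA
    have h5 : A * (s + (2 * w + 3)) ≤ A * B := Nat.mul_le_mul_left _ hB'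
    have h6 : (2 * w + 1) * (s * s) ≤ (2 * w + 1) * Q := Nat.mul_le_mul_left _ hs1
    have h7 : 0 < s := by omega
    linarith
  obtain ⟨u, hu, hu0⟩ := Submodule.exists_mem_ne_zero_of_ne_bot
    (LinearMap.ker_ne_bot_of_finrank_lt (f := T') hlt)
  let h0 : AdjoinRoot g := ∑ q, u q • (mon l q.1 * mon m q.2 ^ Q)
  have hmon : ∀ {n} (q : Idx g c n), mon n q ∈ Fl g c n := fun {n} q => by
    rw [Fl_eq_span]; exact Submodule.subset_span ⟨q, rfl⟩
  have hh0 : h0 ∈ Fl g c (l + Q * m) := Submodule.sum_mem _ fun q _ => Submodule.smul_mem _ _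
    (Fl_mul_mem hg hc (hmon q.1) (Fl_pow_mem' hg hc (hmon q.2) Q))
  have hker : ∀ (k : Fin s), ∑ q, u q • (PowerSeries.coeff (k : ℕ) (Psi g (mon l q.1)) * tw q.2) = 0 :=
    fun k => by
      have h := congrArg (fun v => ((v k : Fl g c N) : AdjoinRoot g)) (LinearMap.mem_ker.mp hu)
      simpa [T', T, Fintype.linearCombination_apply] using h
  -- vanishing at the points
  have hvan : ∀ z ∈ S, ∀ h : OnCurve g z.1 z.2, PowerSeries.X ^ s ∣ psi h h0 := by
    intro z hz h
    obtain ⟨haQ, h', hNG, hδz, hbQ⟩ := hS z hz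
    obtain ⟨F⟩ := exists_fibre hg hNG
    obtain ⟨i, hi⟩ := F.surj z.2 h
    have hG : evAt h (GG g) ≠ 0 := by
      have := F.etale i
      rw [evAt_GG, hi] at this
      rwa [evAt_GG]
    rw [PowerSeries.X_pow_dvd_iff]
    intro k hk
    have hkQ : k < Q := lt_of_lt_of_le hk (le_trans (Nat.le_mul_self s) hs1)
    have hcoef : ∀ q : Idx g c l × Idx g c m,
        δ.eval z.1 ^ D * PowerSeries.coeff k (psi h (mon l q.1 * mon m q.2 ^ Q)) =
          (((evAt h (GG g) ^ 2)⁻¹) ^ k) *
            evAt h (PowerSeries.coeff k (Psi g (mon l q.1)) * tw q.2) := by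
      intro q
      set r := psi h (mon m q.2) with hr
      obtain ⟨r', hr'⟩ : PowerSeries.X ∣ r - PowerSeries.C (PowerSeries.constantCoeff r) := by
        rw [PowerSeries.X_dvd_iff]; simp
      have hrQ : r ^ Q = PowerSeries.C (PowerSeries.constantCoeff r ^ Q) +
          PowerSeries.X ^ Q * r' ^ Q := by
        rw [sub_eq_iff_eq_add'] at hr'
        conv_lhs => rw [hr', hQ, add_pow_char_pow, mul_pow, ← hQ, ← map_pow]
      have hbeta : δ.eval z.1 ^ D * (evAt h (mon m q.2)) ^ Q = evAt h (tw q.2) := by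
        simp only [mon, mono, tw, map_mul, map_pow, evAt_px, evAt_py, evAt_algebraMap, eval_mul,
          eval_pow, eval_X]
        rw [← hbQ, mul_pow, ← pow_mul, mul_comm (q.2.2 : ℕ), pow_mul, haQ, ← pow_mul,
          mul_comm (q.2.1 : ℕ) Q, pow_mul]
        have hsplit : δ.eval z.1 ^ D = δ.eval z.1 ^ (D - q.2.1) * δ.eval z.1 ^ (q.2.1 : ℕ) := by
          rw [← pow_add, Nat.sub_add_cancel (le_of_lt q.2.1.2)]
        rw [hsplit, mul_pow, ← pow_mul]
        ring
      rw [map_mul (psi h), map_pow, ← hr, hrQ, mul_add, map_add,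
        PowerSeries.coeff_mul_C, mul_left_comm _ (PowerSeries.X ^ Q), PowerSeries.coeff_X_pow_mul',
        if_neg (not_le.mpr hkQ), add_zero, hr, constantCoeff_psi, coeff_psi, map_mul, ← hbeta]
      ring
    have hsum : δ.eval z.1 ^ D * PowerSeries.coeff k (psi h h0) = 0 := by
      simp only [h0, map_sum, Finset.mul_sum, psi_smul h hG, PowerSeries.coeff_smul, smul_eq_mul]
      have hk0 := congrArg (evAt h) (hker ⟨k, hk⟩)
      simp only [map_sum, map_zero, evAt_smul] at hk0
      calc ∑ q, δ.eval z.1 ^ D * (u q * PowerSeries.coeff k (psi h (mon l q.1 * mon m q.2 ^ Q)))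
          = ((evAt h (GG g) ^ 2)⁻¹) ^ k *
            ∑ q, u q * evAt h (PowerSeries.coeff k (Psi g (mon l q.1)) * tw q.2) := by
            rw [Finset.mul_sum]
            exact Finset.sum_congr rfl fun q _ => by linear_combination u q * hcoef q
        _ = 0 := by rw [hk0, mul_zero]
    exact (mul_eq_zero.mp hsum).resolve_left (pow_ne_zero _ hδz)
  -- non-vanishing
  have hh0ne : h0 ≠ 0 := by
    intro h0z
    obtain ⟨z, hz⟩ := hne
    obtain ⟨-, h, hNG, -, -⟩ := hS z hz
    obtain ⟨F⟩ := exists_fibre hg hNG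
    let i0 : Fin g.natDegree := ⟨0, hD0⟩
    let ψ := psi (F.onCurve i0)
    have hinj : ∀ v, ψ v = 0 → v = 0 := fun v hv => by
      by_contra hv0
      exact not_X_pow_dvd_psi hg F i0 hv0 (Nat.lt_succ_self _) (by rw [show psi _ v = 0 from hv]; exact dvd_zero _)
    let L : AdjoinRoot g →ₗ[K] PowerSeries K :=
      { toFun := ψ
        map_add' := map_add ψ
        map_smul' := fun r v => psi_smul _ (F.etale i0) r v }
    have hVord : ∀ v ∈ (Fl g c l).map L, PowerSeries.X ^ Q ∣ v → v = 0 := by
      rintro _ ⟨v, hv, rfl⟩ hdvd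
      by_contra hv0
      refine not_X_pow_dvd_psi hg F i0 (fun h => hv0 (by rw [h, map_zero])) ?_ hdvd
      have := natDegree_norm_le hg hc hv
      rw [← hD] at this
      omega
    have key := eq_zero_of_sum_mul_pow p n Q hQ ((Fl g c l).map L) hVord
      (Finset.univ : Finset (Idx g c m)) (fun β => ψ (mon m β))
      (fun β => L (∑ α, u (α, β) • mon l α)) (fun d hd i hi => by
        have h1 : L (∑ β, d β • mon m β) = 0 := by
          rw [map_sum]; simp only [map_smul]; exact hd
        exact Fintype.linearIndependent_iff.mp (mono_linearIndependent c hg m) d (hinj _ h1) i)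
      (fun β _ => Submodule.mem_map_of_mem (Submodule.sum_mem _ fun α _ =>
        Submodule.smul_mem _ _ (hmon α)))
      (by
        have h1 : ψ h0 = 0 := by rw [h0z, map_zero]
        rw [← h1]
        simp only [h0, Fintype.sum_prod_type, map_sum]
        rw [Finset.sum_comm]
        refine Finset.sum_congr rfl fun β _ => ?_
        rw [Finset.sum_mul]
        refine Finset.sum_congr rfl fun α _ => ?_
        rw [← smul_mul_assoc, map_mul, map_pow, ← map_pow]
        rw [map_pow]; rfl)
    refine hu0 (funext fun q => ?_)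
    have h2 := hinj _ (key q.2 (Finset.mem_univ _))
    exact Fintype.linearIndependent_iff.mp (mono_linearIndependent c hg l) _ h2 q.1
  -- count
  have hnorm0 := norm_ne_zero hg hh0ne
  have hdeg := natDegree_norm_le hg hc hh0
  rw [← hD] at hdeg
  have hcount : S.card * s ≤ (Algebra.norm K[X] h0).natDegree := by
    refine le_trans ?_ (card_roots' _)
    set R := (Algebra.norm K[X] h0).roots with hR
    calc S.card * s = ∑ a ∈ S.image Prod.fst, (S.filter (fun z => z.1 = a)).card * s := by
          rw [← Finset.sum_mul, ← Finset.card_eq_sum_card_image]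
      _ ≤ ∑ a ∈ S.image Prod.fst, R.count a := by
          refine Finset.sum_le_sum fun a ha => ?_
          obtain ⟨z, hz, rfl⟩ := Finset.mem_image.mp ha
          obtain ⟨-, h, hNG, -, -⟩ := hS z hz
          obtain ⟨F⟩ := exists_fibre hg hNG
          rw [hR, count_roots]
          refine le_rootMultiplicity_of_X_pow_dvd hnorm0 ?_
          rw [shiftA_norm hg F]
          set J := Finset.univ.filter (fun i => (z.1, F.pt i) ∈ S) with hJ
          have hcard : (S.filter (fun w => w.1 = z.1)).card ≤ J.card := by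
            refine Finset.card_le_card_of_surjOn (fun i => (z.1, F.pt i)) fun w hw => ?_
            rw [Finset.mem_coe, Finset.mem_filter] at hw
            obtain ⟨hw', -⟩ := (hS w hw.1).2
            rw [hw.2] at hw'
            obtain ⟨i, hi⟩ := F.surj _ hw'
            have he : (z.1, F.pt i) = w := Prod.ext hw.2.symm hi
            exact ⟨i, by simp [hJ, he, hw.1], he⟩
          refine dvd_trans (pow_dvd_pow _ (Nat.mul_le_mul_right s hcard)) ?_
          refine dvd_trans ?_ (Finset.prod_dvd_prod_of_subset J _ _ (Finset.subset_univ _))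
          rw [mul_comm, pow_mul, ← Finset.prod_const]
          refine Finset.prod_dvd_prod_of_dvd _ _ fun i hi => ?_
          exact hvan (z.1, F.pt i) (Finset.mem_filter.mp hi).2 _
      _ ≤ Multiset.card R := by
          rw [← Multiset.sum_count_eq_card (s := S.image Prod.fst ∪ R.toFinset)
            (fun a ha => Finset.mem_union_right _ (Multiset.mem_toFinset.mpr ha))]
          exact Finset.sum_le_sum_of_subset Finset.subset_union_left
  have h5 : D * (l + Q * m) ≤ Q + Q * (s + D * stepT c D) := by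
    have : D * (l + Q * m) = D * l + Q * (D * (s / D) + D * stepT c D) := by rw [hm]; ring
    have : Q * (D * (s / D) + D * stepT c D) ≤ Q * (s + D * stepT c D) :=
      Nat.mul_le_mul_left _ (by omega)
    omega
  have hspos : 0 < s := lt_of_lt_of_le (by rw [stepB]; omega) hsmall
  refine le_of_mul_le_mul_right ?_ hspos
  refine le_trans (hcount.trans (hdeg.trans h5)) ?_
  have hQs : Q ≤ s * (s + 2) := by nlinarith
  have hC : D * stepT c D + 1 ≤ stepC c D e := Nat.le_add_right _ _
  have h6 : Q * (D * stepT c D + 1) ≤ stepC c D e * (s + 2) * s := by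
    rw [mul_assoc (stepC c D e), mul_comm Q, mul_comm (s + 2)]
    exact Nat.mul_le_mul hC hQs
  linarith

end Groth.Agent.LangWeil25
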