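import Groth.Agent.Lib.LangWeil25.Weight
import Mathlib.RingTheory.PowerSeries.Basic
import Mathlib.Algebra.Polynomial.Taylor
import Mathlib.Algebra.Ring.GeomSum

/-!
# The universal Taylor expansion on `A = K[x, y]/(g)`

With `G = g'(y)` there is a ring homomorphism `Ψ : A → A⟦τ⟧` with `x ↦ x + G² τ` and
`y ↦ y + G τ θ`, and it increases the weight of the `k`-th coefficient by at most `2 e k`,
`e = c D`.
-/

set_option autoImplicit false

universe u

namespace Groth.Agent.LangWeil25

open Polynomial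

variable {K : Type u} [Field K] (g : K[X][X]) (c : ℕ)

/-- `g'(y)`. -/
noncomputable abbrev GG : AdjoinRoot g := AdjoinRoot.mk g (derivative g)

/-- The weight slope. -/
noncomputable abbrev ee : ℕ := c * g.natDegree

/-- Series with `k`-th coefficient of weight at most `n + 2 e k`. -/
noncomputable def FS (n : ℕ) : Submodule K (PowerSeries (AdjoinRoot g)) where
  carrier := {s | ∀ k, PowerSeries.coeff k s ∈ Fl g c (n + 2 * ee g c * k)}
  add_mem' := fun ha hb k => by rw [map_add]; exact Submodule.add_mem _ (ha k) (hb k)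
  zero_mem' := fun k => by rw [map_zero]; exact Submodule.zero_mem _
  smul_mem' := fun r s hs k => by rw [PowerSeries.coeff_smul]; exact Submodule.smul_mem _ r (hs k)

theorem mem_FS {n : ℕ} {s : PowerSeries (AdjoinRoot g)} :
    s ∈ FS g c n ↔ ∀ k, PowerSeries.coeff k s ∈ Fl g c (n + 2 * ee g c * k) := Iff.rfl

/-- Bivariate polynomials with all coefficients of weight at most `n`. -/
noncomputable def W2 (n : ℕ) : Submodule K (AdjoinRoot g)[X][X] where
  carrier := {q | ∀ j i, (q.coeff j).coeff i ∈ Fl g c n}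
  add_mem' := fun ha hb j i => by rw [coeff_add, coeff_add]; exact Submodule.add_mem _ (ha j i) (hb j i)
  zero_mem' := fun j i => by simp
  smul_mem' := fun r s hs j i => by rw [coeff_smul, coeff_smul]; exact Submodule.smul_mem _ r (hs j i)

theorem FS_mono {n m : ℕ} (h : n ≤ m) : FS g c n ≤ FS g c m :=
  fun s hs k => Fl_mono g c (by omega) (hs k)

variable {g c}
variable (hg : g.Monic) (hc : WBound g c)

include hg hc

theorem FS_mul {n m : ℕ} {a b : PowerSeries (AdjoinRoot g)} (ha : a ∈ FS g c n)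
    (hb : b ∈ FS g c m) : a * b ∈ FS g c (n + m) := fun k => by
  rw [PowerSeries.coeff_mul]
  refine Submodule.sum_mem _ fun p hp => ?_
  have h := Fl_mul_mem hg hc (ha p.1) (hb p.2)
  refine Fl_mono g c (le_of_eq ?_) h
  rw [Finset.mem_antidiagonal] at hp
  rw [← hp]; ring

theorem FS_C {n : ℕ} {a : AdjoinRoot g} (ha : a ∈ Fl g c n) : PowerSeries.C a ∈ FS g c n :=
  fun k => by
    rw [PowerSeries.coeff_C]
    split_ifs with h
    · exact Fl_mono g c (by omega) ha
    · exact Submodule.zero_mem _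

theorem FS_pow {n : ℕ} {a : PowerSeries (AdjoinRoot g)} (ha : a ∈ FS g c n) (k : ℕ) :
    a ^ k ∈ FS g c (k * n) := by
  induction k with
  | zero =>
    rw [pow_zero, zero_mul, ← map_one PowerSeries.C]
    exact FS_C hg hc (Fl_one_mem hg hc 0)
  | succ k ih => rw [pow_succ, Nat.succ_mul]; exact FS_mul hg hc ih ha

theorem FS_term {w n n' m : ℕ} {a : AdjoinRoot g} (ha : a ∈ Fl g c w)
    {s : PowerSeries (AdjoinRoot g)} (hs : s ∈ FS g c n) (h : w + n ≤ n' + 2 * ee g c * m) :
    PowerSeries.C a * PowerSeries.X ^ m * s ∈ FS g c n' := fun k => by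
  rw [mul_assoc (PowerSeries.C a), PowerSeries.coeff_C_mul, PowerSeries.coeff_X_pow_mul']
  split_ifs with hk
  · refine Fl_mono g c ?_ (Fl_mul_mem hg hc ha (hs (k - m)))
    obtain ⟨d, rfl⟩ := Nat.exists_eq_add_of_le hk
    rw [Nat.add_sub_cancel_left, Nat.mul_add]
    omega
  · simp

theorem W2_mul {n m : ℕ} {a b : (AdjoinRoot g)[X][X]} (ha : a ∈ W2 g c n) (hb : b ∈ W2 g c m) :
    a * b ∈ W2 g c (n + m) := fun j i => by
  rw [coeff_mul, finsetSum_coeff]
  refine Submodule.sum_mem _ fun p _ => ?_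
  rw [coeff_mul]
  exact Submodule.sum_mem _ fun q _ => Fl_mul_mem hg hc (ha p.1 q.1) (hb p.2 q.2)

theorem W2_one (n : ℕ) : (1 : (AdjoinRoot g)[X][X]) ∈ W2 g c n := fun j i => by
  rw [coeff_one]
  split_ifs
  · rw [coeff_one]
    split_ifs
    · exact Fl_one_mem hg hc n
    · exact Submodule.zero_mem _
  · simp

theorem W2_pow {n : ℕ} {a : (AdjoinRoot g)[X][X]} (ha : a ∈ W2 g c n) (k : ℕ) :
    a ^ k ∈ W2 g c (k * n) := by
  induction k with
  | zero => rw [pow_zero]; exact W2_one hg hc _
  | succ k ih => rw [pow_succ, Nat.succ_mul]; exact W2_mul hg hc ih ha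

omit hg hc

variable (g)

/-- `x ↦ x + U` on coefficients. -/
noncomputable def shiftX : K[X] →+* (AdjoinRoot g)[X][X] :=
  eval₂RingHom (algebraMap K (AdjoinRoot g)[X][X]) (C (C (px g) + X))

/-- `g(x + U, y + V)`. -/
noncomputable def qq : (AdjoinRoot g)[X][X] := g.eval₂ (shiftX g) (C (C (py g)) + X)

variable {g}

theorem evalRingHom_zero_shiftX :
    ((evalRingHom (0 : AdjoinRoot g)).comp
      (evalRingHom (0 : (AdjoinRoot g)[X]))).comp (shiftX g) = AdjoinRoot.of g := by
  refine Polynomial.ringHom_ext (fun a => ?_) ?_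
  · simp [shiftX, IsScalarTower.algebraMap_apply K K[X] (AdjoinRoot g), AdjoinRoot.algebraMap_eq,
      Polynomial.algebraMap_apply]
  · simp [shiftX, px, AdjoinRoot.algebraMap_eq]

theorem qq_00 : ((qq g).coeff 0).coeff 0 = 0 := by
  have h : ((qq g).coeff 0).coeff 0 = ((evalRingHom (0 : AdjoinRoot g)).comp
      (evalRingHom (0 : (AdjoinRoot g)[X]))) (qq g) := by
    simp [coeff_zero_eq_eval_zero]
  rw [h, qq, Polynomial.hom_eval₂, evalRingHom_zero_shiftX]
  simp

theorem qq_10 : ((qq g).coeff 1).coeff 0 = GG g := by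
  have h1 : ((mapRingHom (evalRingHom (0 : AdjoinRoot g))) (qq g)) =
      Polynomial.taylor (py g) (g.map (AdjoinRoot.of g)) := by
    rw [qq, Polynomial.hom_eval₂, Polynomial.taylor_apply, Polynomial.comp, eval₂_map]
    congr 1
    · refine Polynomial.ringHom_ext (fun a => ?_) ?_
      · simp [shiftX, IsScalarTower.algebraMap_apply K K[X] (AdjoinRoot g),
          AdjoinRoot.algebraMap_eq, Polynomial.algebraMap_apply]
      · simp [shiftX, px, AdjoinRoot.algebraMap_eq]
    · simp [add_comm]
  have h2 := congrArg (fun p => Polynomial.coeff p 1) h1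
  simp only [coe_mapRingHom, coeff_map, coe_evalRingHom, ← coeff_zero_eq_eval_zero] at h2
  rw [h2, Polynomial.taylor_coeff_one, derivative_map, eval_map]
  exact ((AdjoinRoot.aeval_eq (derivative g)).symm.trans (by rw [aeval_def, AdjoinRoot.algebraMap_eq])).symm

include hg hc

theorem qq_mem : qq g ∈ W2 g c (ee g c) := by
  rw [qq, eval₂_eq_sum_range]
  refine Submodule.sum_mem _ fun k hk => ?_
  have hk' : k ≤ g.natDegree := Nat.lt_succ_iff.mp (Finset.mem_range.mp hk)
  have hX : (C (C (px g) + X) : (AdjoinRoot g)[X][X]) ∈ W2 g c 1 := fun j i => by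
    rw [coeff_C]
    split_ifs
    · rw [coeff_add, coeff_C, coeff_X]
      refine Submodule.add_mem _ ?_ ?_
      · split_ifs
        · exact px_mem hg hc
        · exact Submodule.zero_mem _
      · split_ifs
        · exact Fl_one_mem hg hc _
        · exact Submodule.zero_mem _
    · simp
  have hY : (C (C (py g)) + X : (AdjoinRoot g)[X][X]) ∈ W2 g c c := fun j i => by
    rw [coeff_add, coeff_add, coeff_C, coeff_X]
    refine Submodule.add_mem _ ?_ ?_
    · split_ifs
      · rw [coeff_C]
        split_ifs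
        · exact py_mem hg hc
        · exact Submodule.zero_mem _
      · simp
    · split_ifs
      · rw [coeff_one]
        split_ifs
        · exact Fl_one_mem hg hc _
        · exact Submodule.zero_mem _
      · simp
  have h1 : shiftX g (g.coeff k) ∈ W2 g c (c * (g.natDegree - k)) := by
    rw [shiftX, coe_eval₂RingHom, eval₂_eq_sum_range]
    refine Submodule.sum_mem _ fun l hl => ?_
    rw [← Algebra.smul_def]
    refine Submodule.smul_mem _ _ ?_
    intro j i
    refine Fl_mono g c ?_ (W2_pow hg hc hX l j i)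
    have := hc k
    have := Finset.mem_range.mp hl
    omega
  intro j i
  refine Fl_mono g c ?_ (W2_mul hg hc h1 (W2_pow hg hc hY k) j i)
  rw [mul_comm k, ← Nat.mul_add, Nat.sub_add_cancel hk']

omit hg hc

variable (g)

noncomputable def phi (i j : ℕ) : AdjoinRoot g :=
  if (i = 0 ∧ j ≤ 1) then 0 else ((qq g).coeff j).coeff i * GG g ^ (2 * i + j - 2)

noncomputable def nJ : ℕ := (qq g).natDegree + 2

noncomputable def nI : ℕ := (Finset.range (nJ g)).sup (fun j => ((qq g).coeff j).natDegree) + 1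

/-- The fixed point operator. -/
noncomputable def TT (s : PowerSeries (AdjoinRoot g)) : PowerSeries (AdjoinRoot g) :=
  -∑ j ∈ Finset.range (nJ g), ∑ i ∈ Finset.range (nI g),
    PowerSeries.C (phi g i j) * PowerSeries.X ^ (i + j - 1) * s ^ j

noncomputable def thetaSeq : ℕ → PowerSeries (AdjoinRoot g)
  | 0 => 0
  | n + 1 => TT g (thetaSeq n)

/-- `η = τ θ` solves the Newton equation. -/
noncomputable def theta : PowerSeries (AdjoinRoot g) :=
  PowerSeries.mk fun k => PowerSeries.coeff k (thetaSeq g (k + 1))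

theorem TT_congr {n : ℕ} {s t : PowerSeries (AdjoinRoot g)}
    (h : PowerSeries.X ^ n ∣ s - t) : PowerSeries.X ^ (n + 1) ∣ TT g s - TT g t := by
  rw [TT, TT, neg_sub_neg, ← Finset.sum_sub_distrib]
  refine Finset.dvd_sum fun j _ => ?_
  rw [← Finset.sum_sub_distrib]
  refine Finset.dvd_sum fun i _ => ?_
  rw [← mul_sub]
  rcases Nat.eq_zero_or_pos j with rfl | hj
  · simp
  · by_cases h0 : i = 0 ∧ j ≤ 1
    · simp [phi, h0.1, h0.2]
    · obtain ⟨e, he⟩ : ∃ e, i + j - 1 = e + 1 := ⟨i + j - 2, by omega⟩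
      have hd : PowerSeries.X ^ n ∣ t ^ j - s ^ j :=
        (dvd_sub_comm.mp h).trans (sub_dvd_pow_sub_pow _ _ _)
      obtain ⟨r, hr⟩ := hd
      exact ⟨PowerSeries.C (phi g i j) * PowerSeries.X ^ e * r, by rw [hr, he]; ring⟩

theorem thetaSeq_dvd (n : ℕ) :
    PowerSeries.X ^ n ∣ thetaSeq g (n + 1) - thetaSeq g n := by
  induction n with
  | zero => simp
  | succ n ih => exact TT_congr g ih

theorem theta_dvd (n : ℕ) : PowerSeries.X ^ n ∣ theta g - thetaSeq g n := by
  rw [PowerSeries.X_pow_dvd_iff]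
  intro k hk
  rw [map_sub, theta, PowerSeries.coeff_mk, sub_eq_zero]
  induction n, (show k + 1 ≤ n from hk) using Nat.le_induction with
  | base => rfl
  | succ n hn ih =>
    rw [ih hn]
    have h := PowerSeries.X_pow_dvd_iff.mp (thetaSeq_dvd g n) k hn
    rw [map_sub, sub_eq_zero] at h
    exact h.symm

theorem TT_theta : TT g (theta g) = theta g := by
  refine PowerSeries.ext fun k => ?_
  have h1 := TT_congr g (theta_dvd g k)
  have h2 := theta_dvd g (k + 1)
  have h3 := dvd_sub h1 h2
  have h4 : TT g (theta g) - TT g (thetaSeq g k) - (theta g - thetaSeq g (k + 1)) =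
      TT g (theta g) - theta g := by
    rw [show thetaSeq g (k + 1) = TT g (thetaSeq g k) from rfl]; ring
  rw [h4] at h3
  have h5 := PowerSeries.X_pow_dvd_iff.mp h3 k (Nat.lt_succ_self k)
  rwa [map_sub, sub_eq_zero] at h5

variable {g}

include hg hc

theorem GG_mem : GG g ∈ Fl g c (ee g c) := by
  rw [GG, (derivative g).as_sum_range' (g.natDegree + 1)
    (lt_of_le_of_lt (natDegree_derivative_le g) (by omega)), map_sum]
  refine Submodule.sum_mem _ fun k hk => ?_
  rw [← C_mul_X_pow_eq_monomial, map_mul, map_pow, AdjoinRoot.mk_X, AdjoinRoot.mk_C,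
    ← AdjoinRoot.algebraMap_eq, coeff_derivative]
  have h1 : (g.coeff (k + 1) * ((k : K[X]) + 1)).natDegree ≤ c * (g.natDegree - (k + 1)) := by
    refine le_trans natDegree_mul_le ?_
    have : ((k : K[X]) + 1).natDegree = 0 := by
      rw [← Nat.cast_succ, natDegree_natCast]
    have := hc (k + 1)
    omega
  have h2 := Fl_mul_mem hg hc (algebraMap_mem hg hc h1) (Fl_pow_mem' hg hc (py_mem hg hc) k)
  refine Fl_mono g c ?_ h2
  have hk' := Finset.mem_range.mp hk
  rw [mul_comm k, ← Nat.mul_add]
  exact Nat.mul_le_mul_left c (by omega)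

theorem phi_mem (i j : ℕ) : phi g i j ∈ Fl g c (ee g c * (2 * i + j - 1)) := by
  rw [phi]
  split_ifs with h
  · exact Submodule.zero_mem _
  · refine Fl_mono g c (le_of_eq ?_)
      (Fl_mul_mem hg hc (qq_mem hg hc j i) (Fl_pow_mem' hg hc (GG_mem hg hc) _))
    obtain ⟨e, he⟩ : ∃ e, 2 * i + j - 1 = e + 1 := ⟨2 * i + j - 2, by omega⟩
    rw [show 2 * i + j - 2 = e by omega, he]
    ring

theorem thetaSeq_mem (n : ℕ) : thetaSeq g n ∈ FS g c (ee g c) := by
  induction n with
  | zero => exact Submodule.zero_mem _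
  | succ n ih =>
    rw [thetaSeq, TT]
    refine neg_mem (Submodule.sum_mem _ fun j _ => Submodule.sum_mem _ fun i _ => ?_)
    by_cases h0 : i = 0 ∧ j ≤ 1
    · simp [phi, h0.1, h0.2]
    · refine FS_term hg hc (phi_mem hg hc i j) (FS_pow hg hc ih j) (le_of_eq ?_)
      obtain ⟨e, he⟩ : ∃ e, i + j - 1 = e := ⟨_, rfl⟩
      rw [he, show 2 * i + j - 1 = i + e by omega]
      have : i + j = e + 1 := by omega
      calc ee g c * (i + e) + j * ee g c = ee g c * ((i + j) + e) := by ring
        _ = _ := by rw [this]; ring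

theorem theta_mem : theta g ∈ FS g c (ee g c) := fun k => by
  rw [theta, PowerSeries.coeff_mk]
  exact thetaSeq_mem hg hc (k + 1) k

omit hg hc

variable (g)

noncomputable def psX : PowerSeries (AdjoinRoot g) :=
  PowerSeries.C (px g) + PowerSeries.C (GG g ^ 2) * PowerSeries.X

noncomputable def psY : PowerSeries (AdjoinRoot g) :=
  PowerSeries.C (py g) + PowerSeries.C (GG g) * PowerSeries.X * theta g

theorem psi_relation :
    g.eval₂ (eval₂RingHom (algebraMap K (PowerSeries (AdjoinRoot g))) (psX g)) (psY g) = 0 := by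
  set U : PowerSeries (AdjoinRoot g) := PowerSeries.C (GG g ^ 2) * PowerSeries.X with hU
  set V : PowerSeries (AdjoinRoot g) := PowerSeries.C (GG g) * PowerSeries.X * theta g with hV
  let EU : (AdjoinRoot g)[X] →+* PowerSeries (AdjoinRoot g) := eval₂RingHom PowerSeries.C U
  let E : (AdjoinRoot g)[X][X] →+* PowerSeries (AdjoinRoot g) := eval₂RingHom EU V
  have hcomp : E.comp (shiftX g) =
      eval₂RingHom (algebraMap K (PowerSeries (AdjoinRoot g))) (psX g) := by
    refine Polynomial.ringHom_ext (fun a => ?_) ?_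
    · simp [E, EU, shiftX, Polynomial.algebraMap_apply, PowerSeries.algebraMap_apply]
    · simp [E, EU, shiftX, psX, hU]
  have h1 : g.eval₂ (eval₂RingHom (algebraMap K (PowerSeries (AdjoinRoot g))) (psX g)) (psY g) =
      E (qq g) := by
    rw [qq, Polynomial.hom_eval₂, hcomp]
    congr 1
    simp [E, EU, psY, hV]
  have hI : ∀ j ∈ Finset.range (nJ g), ((qq g).coeff j).natDegree < nI g := fun j hj =>
    Nat.lt_succ_of_le (Finset.le_sup (f := fun j => ((qq g).coeff j).natDegree) hj)
  have hterm : ∀ i j, PowerSeries.C (((qq g).coeff j).coeff i) * U ^ i * V ^ j =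
      PowerSeries.C (GG g ^ 2) * PowerSeries.X * ((if i = 0 ∧ j = 1 then theta g else 0) +
        PowerSeries.C (phi g i j) * PowerSeries.X ^ (i + j - 1) * theta g ^ j) := by
    intro i j
    rw [phi]
    by_cases h01 : i = 0 ∧ j = 1
    · rw [if_pos h01, if_pos ⟨h01.1, h01.2.le⟩, h01.1, h01.2, qq_10, hV, map_pow]
      simp only [map_zero, zero_mul, add_zero, pow_zero, mul_one, pow_one]
      ring
    · rw [if_neg h01]
      by_cases h00 : i = 0 ∧ j ≤ 1
      · rw [if_pos h00]
        obtain ⟨rfl, rfl⟩ : i = 0 ∧ j = 0 := by omega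
        simp [qq_00]
      · rw [if_neg h00, hU, hV]
        obtain ⟨e, he⟩ : ∃ e, i + j - 1 = e := ⟨_, rfl⟩
        obtain ⟨d, hd⟩ : ∃ d, 2 * i + j - 2 = d := ⟨_, rfl⟩
        rw [he, hd]
        simp only [mul_pow, map_mul, map_pow, ← pow_mul]
        have hX : (PowerSeries.X : PowerSeries (AdjoinRoot g)) ^ i * PowerSeries.X ^ j =
            PowerSeries.X * PowerSeries.X ^ e := by
          rw [← pow_add, ← pow_succ']; congr 1; omega
        have hG : PowerSeries.C (GG g) ^ (2 * i) * PowerSeries.C (GG g) ^ j =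
            PowerSeries.C (GG g) ^ 2 * PowerSeries.C (GG g) ^ d := by
          rw [← pow_add, ← pow_add]; congr 1; omega
        linear_combination (PowerSeries.C (((qq g).coeff j).coeff i) * theta g ^ j *
            (PowerSeries.C (GG g) ^ (2 * i) * PowerSeries.C (GG g) ^ j)) * hX +
          (PowerSeries.C (((qq g).coeff j).coeff i) * theta g ^ j *
            (PowerSeries.X * PowerSeries.X ^ e)) * hG
  rw [h1]
  change (qq g).eval₂ EU V = 0
  rw [eval₂_eq_sum_range' _ (show (qq g).natDegree < nJ g from by rw [nJ]; omega)]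
  rw [Finset.sum_congr rfl (g := fun j => PowerSeries.C (GG g ^ 2) * PowerSeries.X *
    ∑ i ∈ Finset.range (nI g), ((if i = 0 ∧ j = 1 then theta g else 0) +
      PowerSeries.C (phi g i j) * PowerSeries.X ^ (i + j - 1) * theta g ^ j)) fun j hj => ?_]
  · rw [← Finset.mul_sum]
    simp only [Finset.sum_add_distrib]
    have h2 : ∑ j ∈ Finset.range (nJ g), ∑ i ∈ Finset.range (nI g),
        (if i = 0 ∧ j = 1 then theta g else 0) = theta g := by
      rw [Finset.sum_eq_single 1, Finset.sum_eq_single 0]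
      · simp
      · exact fun i _ hi => by simp [hi]
      · exact fun h => absurd (Finset.mem_range.mpr (Nat.succ_pos _)) h
      · exact fun j _ hj => Finset.sum_eq_zero fun i _ => by simp [hj]
      · exact fun h => absurd (Finset.mem_range.mpr (by rw [nJ]; omega)) h
    have h3 : ∑ j ∈ Finset.range (nJ g), ∑ i ∈ Finset.range (nI g),
        PowerSeries.C (phi g i j) * PowerSeries.X ^ (i + j - 1) * theta g ^ j = -theta g := by
      conv_rhs => rw [← TT_theta g, TT, neg_neg]
    rw [h2, h3, add_neg_cancel, mul_zero]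
  · rw [show EU ((qq g).coeff j) = _ from eval₂_eq_sum_range' PowerSeries.C (hI j hj) U,
      Finset.sum_mul, Finset.mul_sum]
    exact Finset.sum_congr rfl fun i _ => hterm i j

/-- The universal Taylor expansion. -/
noncomputable def Psi : AdjoinRoot g →+* PowerSeries (AdjoinRoot g) :=
  AdjoinRoot.lift (eval₂RingHom (algebraMap K (PowerSeries (AdjoinRoot g))) (psX g)) (psY g)
    (psi_relation g)

theorem Psi_algebraMap (r : K) :
    Psi g (algebraMap K (AdjoinRoot g) r) = algebraMap K (PowerSeries (AdjoinRoot g)) r := by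
  rw [IsScalarTower.algebraMap_apply K K[X] (AdjoinRoot g), AdjoinRoot.algebraMap_eq, Psi,
    AdjoinRoot.lift_of]
  simp [Polynomial.algebraMap_apply]

theorem Psi_px : Psi g (px g) = psX g := by
  rw [Psi, px, AdjoinRoot.algebraMap_eq, AdjoinRoot.lift_of]
  simp

theorem Psi_py : Psi g (py g) = psY g := AdjoinRoot.lift_root _

variable {g}

include hg hc

theorem Psi_mem {n : ℕ} {a : AdjoinRoot g} (ha : a ∈ Fl g c n) : Psi g a ∈ FS g c n := by
  have h1 : ∀ {m}, c ≤ m → psY g ∈ FS g c m := fun {m} hm => by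
    refine FS_mono g c hm (Submodule.add_mem _ (FS_C hg hc (py_mem hg hc)) ?_)
    have := FS_term hg hc (m := 1) (n' := c) (GG_mem hg hc) (theta_mem hg hc) (by omega)
    rwa [pow_one] at this
  have h0 : psX g ∈ FS g c 1 := by
    refine Submodule.add_mem _ (FS_C hg hc (px_mem hg hc)) ?_
    have := FS_term hg hc (m := 1) (n' := 1) (Fl_pow_mem' hg hc (GG_mem hg hc) 2)
      (FS_C hg hc (Fl_one_mem hg hc 0)) (by omega)
    rwa [map_one, mul_one, pow_one] at this
  unfold Fl at ha
  induction ha using Submodule.span_induction with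
  | mem x hx =>
    obtain ⟨j, i, -, hji, rfl⟩ := hx
    rw [map_mul, map_pow, map_pow, Psi_px, Psi_py]
    exact FS_mono g c (by rw [mul_one, mul_comm i]; exact hji)
      (FS_mul hg hc (FS_pow hg hc h0 j) (FS_pow hg hc (h1 le_rfl) i))
  | zero => rw [map_zero]; exact Submodule.zero_mem _
  | add x y _ _ hx hy => rw [map_add]; exact Submodule.add_mem _ hx hy
  | smul r x _ hx =>
    rw [Algebra.smul_def, map_mul, Psi_algebraMap, ← Algebra.smul_def]
    exact Submodule.smul_mem _ _ hx

end Groth.Agent.LangWeil25
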