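import Mathlib.RingTheory.AdjoinRoot
import Mathlib.RingTheory.AlgebraTower
import Mathlib.RingTheory.Norm.Basic
import Mathlib.LinearAlgebra.Dimension.Finrank
import Mathlib.LinearAlgebra.Dimension.Constructions
import Mathlib.LinearAlgebra.Matrix.Determinant.Basic
import Mathlib.LinearAlgebra.Basis.SMul
import Mathlib.Algebra.Polynomial.Basis

/-!
# The weight filtration on `K[x, y]/(g)`

For `g` monic in `y` of degree `D`, with `deg g_i ≤ c (D - i)`, give `x` weight `1` and `y`
weight `c`. `Fl g c n` is the space of elements of weight `≤ n`.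
-/

set_option autoImplicit false

universe u

namespace Groth.Agent.LangWeil25

open Polynomial

variable {K : Type u} [Field K]

/-- The coefficient bound `deg g_i ≤ c (D - i)`. -/
def WBound (g : K[X][X]) (c : ℕ) : Prop :=
  ∀ i, (g.coeff i).natDegree ≤ c * (g.natDegree - i)

variable (g : K[X][X]) (c : ℕ)

noncomputable abbrev px : AdjoinRoot g := algebraMap K[X] (AdjoinRoot g) X

noncomputable abbrev py : AdjoinRoot g := AdjoinRoot.root g

/-- Elements of weight at most `n`. -/
noncomputable def Fl (n : ℕ) : Submodule K (AdjoinRoot g) :=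
  Submodule.span K {z | ∃ j i, i < g.natDegree ∧ j + c * i ≤ n ∧ z = px g ^ j * py g ^ i}

theorem Fl_mono {n m : ℕ} (h : n ≤ m) : Fl g c n ≤ Fl g c m :=
  Submodule.span_mono fun _ ⟨j, i, hi, hji, hz⟩ => ⟨j, i, hi, le_trans hji h, hz⟩

theorem algebraMap_eq_sum (p : K[X]) :
    algebraMap K[X] (AdjoinRoot g) p =
      ∑ k ∈ Finset.range (p.natDegree + 1), p.coeff k • px g ^ k := by
  conv_lhs => rw [p.as_sum_range_C_mul_X_pow]
  rw [map_sum]
  refine Finset.sum_congr rfl fun k _ => ?_
  rw [map_mul, map_pow, Algebra.smul_def, IsScalarTower.algebraMap_apply K K[X] (AdjoinRoot g)]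
  rfl

variable {g c}

section

variable (hg : g.Monic) (hc : WBound g c)
include hg hc

theorem Fl_pow_mem (i : ℕ) : ∀ (j n : ℕ), j + c * i ≤ n → px g ^ j * py g ^ i ∈ Fl g c n := by
  induction i using Nat.strong_induction_on with
  | _ i ih =>
    intro j n hn
    by_cases hi : i < g.natDegree
    · exact Submodule.subset_span ⟨j, i, hi, hn, rfl⟩
    · push Not at hi
      set D := g.natDegree with hD
      have h0 : (py g) ^ D + ∑ k ∈ Finset.range D,
          algebraMap K[X] (AdjoinRoot g) (g.coeff k) * py g ^ k = 0 := by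
        have h := congrArg (AdjoinRoot.mk g) hg.as_sum
        rw [AdjoinRoot.mk_self, map_add, map_pow, AdjoinRoot.mk_X, map_sum] at h
        refine Eq.trans ?_ h.symm
        refine congrArg _ (Finset.sum_congr rfl fun k _ => ?_)
        rw [map_mul, map_pow, AdjoinRoot.mk_X, AdjoinRoot.mk_C, AdjoinRoot.algebraMap_eq]
      have h1 : (py g) ^ D = -∑ k ∈ Finset.range D,
          algebraMap K[X] (AdjoinRoot g) (g.coeff k) * py g ^ k := eq_neg_of_add_eq_zero_left h0
      have h2 : px g ^ j * py g ^ i = -∑ k ∈ Finset.range D, ∑ l ∈ Finset.range ((g.coeff k).natDegree + 1),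
          (g.coeff k).coeff l • (px g ^ (l + j) * py g ^ (k + (i - D))) := by
        conv_lhs => rw [← Nat.sub_add_cancel hi, pow_add, h1, mul_neg, mul_neg, Finset.mul_sum,
          Finset.mul_sum]
        refine congrArg _ (Finset.sum_congr rfl fun k _ => ?_)
        rw [algebraMap_eq_sum, Finset.sum_mul, Finset.mul_sum, Finset.mul_sum]
        refine Finset.sum_congr rfl fun l _ => ?_
        rw [smul_mul_assoc, mul_smul_comm, mul_smul_comm, pow_add, pow_add]
        congr 1
        ring
      rw [h2]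
      refine neg_mem (Submodule.sum_mem _ fun k hk => Submodule.sum_mem _ fun l hl =>
        Submodule.smul_mem _ _ ?_)
      have hk' := Finset.mem_range.mp hk
      have hl' : l ≤ c * (D - k) := le_trans (Nat.lt_succ_iff.mp (Finset.mem_range.mp hl)) (hc k)
      refine ih (k + (i - D)) (by omega) _ _ ?_
      have hsplit : c * (D - k) + c * (k + (i - D)) = c * i := by
        rw [← Nat.mul_add]; congr 1; omega
      omega

theorem Fl_mul_mem {n m : ℕ} {a b : AdjoinRoot g} (ha : a ∈ Fl g c n) (hb : b ∈ Fl g c m) :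
    a * b ∈ Fl g c (n + m) := by
  unfold Fl at ha hb
  induction ha, hb using Submodule.span_induction₂ with
  | mem_mem x y hx hy =>
    obtain ⟨j, i, -, hji, rfl⟩ := hx
    obtain ⟨j', i', -, hji', rfl⟩ := hy
    rw [mul_mul_mul_comm, ← pow_add, ← pow_add]
    exact Fl_pow_mem hg hc _ _ _ (by rw [Nat.mul_add]; omega)
  | zero_left y _ => rw [zero_mul]; exact Submodule.zero_mem _
  | zero_right x _ => rw [mul_zero]; exact Submodule.zero_mem _
  | add_left x y z _ _ _ hxz hyz => rw [add_mul]; exact Submodule.add_mem _ hxz hyz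
  | add_right x y z _ _ _ hxy hxz => rw [mul_add]; exact Submodule.add_mem _ hxy hxz
  | smul_left r x y _ _ h => rw [smul_mul_assoc]; exact Submodule.smul_mem _ _ h
  | smul_right r x y _ _ h => rw [mul_smul_comm]; exact Submodule.smul_mem _ _ h

theorem Fl_one_mem (n : ℕ) : (1 : AdjoinRoot g) ∈ Fl g c n := by
  simpa using Fl_pow_mem hg hc 0 0 n (by simp)

theorem px_mem : px g ∈ Fl g c 1 := by
  simpa using Fl_pow_mem hg hc 0 1 1 (by simp)

theorem py_mem : py g ∈ Fl g c c := by
  simpa using Fl_pow_mem hg hc 1 0 c (by simp)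

theorem algebraMap_mem {p : K[X]} {n : ℕ} (h : p.natDegree ≤ n) :
    algebraMap K[X] (AdjoinRoot g) p ∈ Fl g c n := by
  rw [algebraMap_eq_sum]
  refine Submodule.sum_mem _ fun k hk => Submodule.smul_mem _ _ ?_
  simpa using Fl_pow_mem hg hc 0 k n (by have := Finset.mem_range.mp hk; omega)

theorem Fl_pow_mem' {n : ℕ} {a : AdjoinRoot g} (ha : a ∈ Fl g c n) (k : ℕ) :
    a ^ k ∈ Fl g c (k * n) := by
  induction k with
  | zero => simpa using Fl_one_mem hg hc 0
  | succ k ih => rw [pow_succ, Nat.succ_mul]; exact Fl_mul_mem hg hc ih ha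

/-- Every element has a weight. -/
theorem exists_mem_Fl (a : AdjoinRoot g) : ∃ n, a ∈ Fl g c n := by
  obtain ⟨p, rfl⟩ := AdjoinRoot.mk_surjective a
  induction p using Polynomial.induction_on' with
  | add p q hp hq =>
    obtain ⟨n, hn⟩ := hp
    obtain ⟨m, hm⟩ := hq
    refine ⟨max n m, ?_⟩
    rw [map_add]
    exact Submodule.add_mem _ (Fl_mono g c (le_max_left n m) hn) (Fl_mono g c (le_max_right n m) hm)
  | monomial i q =>
    refine ⟨q.natDegree + i * c, ?_⟩
    rw [← C_mul_X_pow_eq_monomial, map_mul, map_pow, AdjoinRoot.mk_X, AdjoinRoot.mk_C,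
      ← AdjoinRoot.algebraMap_eq]
    exact Fl_mul_mem hg hc (algebraMap_mem hg hc le_rfl) (Fl_pow_mem' hg hc (py_mem hg hc) i)

end

section Basis

variable (c)

noncomputable def yb (hg : g.Monic) : Module.Basis (Fin g.natDegree) K[X] (AdjoinRoot g) :=
  (AdjoinRoot.powerBasis' hg).basis

theorem yb_apply (hg : g.Monic) (i : Fin g.natDegree) : yb hg i = py g ^ (i : ℕ) := by
  exact (AdjoinRoot.powerBasis' hg).basis_eq_pow i

/-- The monomials `x^j y^i` of weight at most `n`. -/
abbrev Idx (g : K[X][X]) (c n : ℕ) : Type := Σ i : Fin g.natDegree, Fin (n + 1 - c * (i : ℕ))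

noncomputable def mono (n : ℕ) (z : Idx g c n) : AdjoinRoot g :=
  px g ^ (z.2 : ℕ) * py g ^ (z.1 : ℕ)

variable (g)

theorem Fl_eq_span (n : ℕ) : Fl g c n = Submodule.span K (Set.range (mono (g := g) c n)) := by
  unfold Fl
  congr 1
  ext w
  constructor
  · rintro ⟨j, i, hi, hji, rfl⟩
    exact ⟨⟨⟨i, hi⟩, ⟨j, by simp only; omega⟩⟩, rfl⟩
  · rintro ⟨⟨i, j⟩, rfl⟩
    exact ⟨j, i, i.2, by have := j.2; omega, rfl⟩

variable {g}

theorem mono_linearIndependent (hg : g.Monic) (n : ℕ) :
    LinearIndependent K (mono (g := g) c n) := by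
  let b := (Polynomial.basisMonomials K).smulTower (yb hg)
  have h : mono (g := g) c n = b ∘ fun z : Idx g c n => ((z.2 : ℕ), z.1) := by
    funext z
    simp only [Function.comp_apply, b]
    rw [Module.Basis.smulTower_apply, Polynomial.coe_basisMonomials, yb_apply, Algebra.smul_def]
    simp only [monomial_one_right_eq_X_pow, map_pow]
    rfl
  rw [h]
  refine b.linearIndependent.comp _ ?_
  rintro ⟨i, j⟩ ⟨i', j'⟩ h
  simp only [Prod.mk.injEq] at h
  obtain ⟨h1, rfl⟩ := h
  congr
  exact Fin.ext h1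

theorem finiteDimensional_Fl (n : ℕ) : FiniteDimensional K (Fl g c n) := by
  rw [Fl_eq_span]
  exact FiniteDimensional.span_of_finite K (Set.finite_range _)

theorem finrank_Fl (hg : g.Monic) (n : ℕ) :
    Module.finrank K (Fl g c n) = ∑ i : Fin g.natDegree, (n + 1 - c * (i : ℕ)) := by
  rw [Fl_eq_span, finrank_span_eq_card (mono_linearIndependent c hg n)]
  simp [Fintype.card_sigma]

theorem le_finrank_Fl (hg : g.Monic) (n : ℕ) :
    g.natDegree * (n + 1) - c * g.natDegree * g.natDegree ≤ Module.finrank K (Fl g c n) := by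
  rw [finrank_Fl c hg]
  calc g.natDegree * (n + 1) - c * g.natDegree * g.natDegree
      = ∑ _i : Fin g.natDegree, (n + 1 - c * g.natDegree) := by
        rw [Finset.sum_const, Finset.card_univ, Fintype.card_fin, smul_eq_mul, Nat.mul_sub]
        congr 1; ring
    _ ≤ _ := Finset.sum_le_sum fun i _ => by
        have : c * (i : ℕ) ≤ c * g.natDegree := Nat.mul_le_mul_left _ i.2.le
        omega

theorem finrank_Fl_le (hg : g.Monic) (n : ℕ) :
    Module.finrank K (Fl g c n) ≤ g.natDegree * (n + 1) := by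
  rw [finrank_Fl c hg]
  refine le_trans (Finset.sum_le_sum fun i _ => Nat.sub_le _ _) ?_
  simp

theorem coord_eq_zero (hg : g.Monic) {n : ℕ} {a : AdjoinRoot g} (ha : a ∈ Fl g c n)
    (i : Fin g.natDegree) (j : ℕ) (hj : n < j + c * (i : ℕ)) :
    ((yb hg).repr a i).coeff j = 0 := by
  rw [Fl_eq_span] at ha
  induction ha using Submodule.span_induction with
  | mem x hx =>
    obtain ⟨⟨i', j'⟩, rfl⟩ := hx
    have h : mono c n ⟨i', j'⟩ = (X : K[X]) ^ (j' : ℕ) • yb hg i' := by
      rw [yb_apply, Algebra.smul_def, map_pow]; rfl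
    rw [h, map_smul, Module.Basis.repr_self, Finsupp.smul_single, smul_eq_mul, mul_one,
      Finsupp.single_apply]
    split_ifs with h'
    · subst h'
      rw [coeff_X_pow, if_neg]
      have := j'.2; omega
    · simp
  | zero => simp
  | add x y _ _ hx hy => simp [hx, hy]
  | smul r x _ hx =>
    rw [← IsScalarTower.algebraMap_smul K[X] r x, map_smul, Finsupp.smul_apply, smul_eq_mul]
    simp [hx]

variable {c}

theorem natDegree_norm_le (hg : g.Monic) (hc : WBound g c) {n : ℕ} {a : AdjoinRoot g}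
    (ha : a ∈ Fl g c n) : (Algebra.norm K[X] a).natDegree ≤ g.natDegree * n := by
  classical
  rw [Algebra.norm_eq_matrix_det (yb hg), Matrix.det_apply]
  refine natDegree_sum_le_of_forall_le _ _ fun σ _ => ?_
  refine le_trans (natDegree_smul_le _ _) ?_
  by_cases hz : ∃ i, (Algebra.leftMulMatrix (yb hg) a) (σ i) i = 0
  · obtain ⟨i, hi⟩ := hz
    rw [Finset.prod_eq_zero (f := fun k => Algebra.leftMulMatrix (yb hg) a (σ k) k) (Finset.mem_univ i) hi,
      natDegree_zero]
    exact Nat.zero_le _
  · push Not at hz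
    have key : ∀ i, ((Algebra.leftMulMatrix (yb hg) a) (σ i) i).natDegree + c * (σ i : ℕ) ≤
        n + c * (i : ℕ) := by
      intro i
      by_contra hlt
      push Not at hlt
      have hmem : a * yb hg i ∈ Fl g c (n + c * (i : ℕ)) := by
        refine Fl_mul_mem hg hc ha ?_
        rw [yb_apply]
        simpa using Fl_pow_mem hg hc (i : ℕ) 0 (c * (i : ℕ)) (by simp)
      have h0 := coord_eq_zero c hg hmem (σ i) _ hlt
      rw [Algebra.leftMulMatrix_eq_repr_mul] at h0 hlt
      have h1 := hz i
      rw [Algebra.leftMulMatrix_eq_repr_mul] at h1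
      exact h1 (leadingCoeff_eq_zero.mp h0)
    refine le_trans (natDegree_prod_le _ _) ?_
    have hs := Finset.sum_le_sum (s := Finset.univ) fun i _ => key i
    rw [Finset.sum_add_distrib, Finset.sum_add_distrib,
      Equiv.sum_comp σ (fun i : Fin g.natDegree => c * (i : ℕ)), Finset.sum_const, Finset.card_univ,
      Fintype.card_fin, smul_eq_mul] at hs
    omega

end Basis

end Groth.Agent.LangWeil25
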